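/-
The product of a group of order two and the Mathieu group on fourteen points.
-/
import Cfsg.Agent.Lib.Co3M12.Data
import Cfsg.Agent.Lib.PermChain.Closed
import Cfsg.Agent.Lib.M12Det.Twelve
import Cfsg.Agent.Lib.QS3.Zero.M12

set_option autoImplicit false
set_option maxRecDepth 100000

namespace CfsgLib.Co3M12

open Equiv Subgroup CfsgPC Eng Cfsg CfsgGolay CfsgM12Det

attribute [local irreducible] Data.chain

/-- The subgroup on fourteen points. -/
noncomputable abbrev UU : Subgroup (Perm (Fin 14)) := genG 14 Data.gens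

theorem data_checks : ((List.range 4).all fun i => isPerm 14 (Data.gens.getD i 0) (Data.invs.getD i 0)) = true ∧
    shapeOK 14 Data.chain Data.gens = true ∧
    ((List.range Data.chain.length).all fun j =>
      entriesOK 14 Data.chain Data.gens j 0 (Data.chain.getD j ⟨0, [], [], []⟩).tr.length &&
        closedOK 14 Data.chain Data.gens j 0 (Data.chain.getD j ⟨0, [], [], []⟩).tr.length) = true ∧
    ((gensAt 14 Data.chain Data.gens Data.chain.length).all fun c => (List.range 14).all fun i =>
      Nat.beq (ap c i) i) = true ∧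
    sizeOfChain Data.chain = 190080 ∧ Data.gens.length = 4 := by decide +kernel

theorem valid : Valid 14 Data.gens := by
  intro c hc
  obtain ⟨k, hk, rfl⟩ := List.getElem_of_mem hc
  have hk4 : k < 4 := data_checks.2.2.2.2.2 ▸ hk
  have := List.all_eq_true.mp data_checks.1 k (List.mem_range.mpr hk4)
  rw [List.getD_eq_getElem _ _ hk] at this
  exact ⟨_, decP_rep this⟩

theorem table : TableOK 14 Data.chain Data.gens :=
  tableOK_of_checks data_checks.2.1 fun j hj k hk => by
    have h := List.all_eq_true.mp data_checks.2.2.1 j (List.mem_range.mpr hj)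
    rw [Bool.and_eq_true] at h
    exact of_entriesOK h.1 (Nat.zero_le _) hk

theorem closed : prodSet 14 Data.chain = UU ∧ Nat.card UU = 190080 := by
  have hp : prodSet 14 Data.chain = genG 14 Data.gens := table_closed (by norm_num) table valid
    (fun j hj k hk g hg => by
      have h := List.all_eq_true.mp data_checks.2.2.1 j (List.mem_range.mpr hj)
      rw [Bool.and_eq_true] at h
      exact of_closedOK h.2 (Nat.zero_le _) hk g hg)
    (fun c hc i hi => Nat.eq_of_beq_eq_true (List.all_eq_true.mp (List.all_eq_true.mp data_checks.2.2.2.1 c hc) i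
      (List.mem_range.mpr hi)))
  refine ⟨hp, ?_⟩
  rw [← data_checks.2.2.2.2.1, ← (table_products (by norm_num) table valid).2, hp, ← Nat.card_coe_set_eq]
  rfl

theorem mem_of_memB {D : Dat} (hD : D.chain = Data.chain) {c : ℕ} (h : memB D c = true) :
    ∃ g : UU, Rep 14 c (g : Perm (Fin 14)) := by
  rw [memB, hD, Bool.and_eq_true, List.all_eq_true] at h
  obtain ⟨hlt, h⟩ := h
  have key : ∀ {ls : List Level} {gens : List ℕ}, TableOK 14 ls gens → Valid 14 gens → ∀ c, (∀ i < 14, ap c i < 14) →
      sift 14 ls c = true → ∃ g, Rep 14 c g := by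
    intro ls gens hT
    induction hT with
    | nil gens =>
      intro _ c _ hs
      simp only [sift, List.all_eq_true, List.mem_range] at hs
      exact ⟨1, fun i => Nat.eq_of_beq_eq_true (hs i i.2)⟩
    | @cons L ls gens hb hlen hent hsel _ ih =>
      intro hv c hc hs
      obtain ⟨hnv, -⟩ := level_next (by norm_num) hv hb hent hsel
      simp only [sift, Level.findsOK, Bool.and_eq_true, Nat.blt_eq] at hs
      obtain ⟨⟨hk, -⟩, hs⟩ := hs
      obtain ⟨T, -, hTr, hTi, -⟩ := level_entry hv hb hent _ hk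
      have hcp : ∀ i < 14, ap (cp 14 (L.ti (L.pos.getD (ap c L.base) 0)) c) i =
          ((T⁻¹ ⟨ap c i % 14, Nat.mod_lt _ (by norm_num)⟩ : Fin 14) : ℕ) := fun i hi => by
        rw [cp, (pk_spec (fun j => ap (L.ti (L.pos.getD (ap c L.base) 0)) (ap c j))
          (fun _ => Nat.mod_lt _ (by norm_num)) 14).2 _ hi, ← hTi]
        exact congrArg _ (Nat.mod_eq_of_lt (hc i hi)).symm
      obtain ⟨g, hg⟩ := ih hnv _ (fun i hi => by rw [hcp i hi]; exact Fin.is_lt _) hs
      refine ⟨T * g, fun i => ?_⟩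
      have h1 := hg i
      rw [hcp i i.2] at h1
      rw [Perm.mul_apply, ← Fin.ext h1, Perm.coe_inv, Equiv.apply_symm_apply]
      exact (Nat.mod_eq_of_lt (hc i i.2)).symm
  obtain ⟨g, hg⟩ := key table valid c (fun i hi => Nat.blt_eq.mp (hlt i (List.mem_range.mpr hi))) h
  exact ⟨⟨g, mem_of_sift (by norm_num) table valid c g hg h⟩, hg⟩

/-- The point of the dodecad with a label. -/
def ptsL : List ℕ := [1, 9, 18, 16, 3, 0, 4, 8, 12, 13, 6, 2]

theorem pts_ok : ((List.range 12).all fun i => Nat.testBit 340831 (ptsL.getD i 24) &&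
    (List.range i).all fun j => !Nat.beq (ptsL.getD j 24) (ptsL.getD i 24)) = true ∧
    ((List.range 12).all fun i => Nat.blt (ptsL.getD i 24) 24) = true := by decide +kernel

/-- The words of the two generators. -/
def wordX : List ℕ := [3, 0, 1, 2, 3, 4, 1, 3, 0, 2]

/-- The second word. -/
def wordY : List ℕ := [4, 2, 3, 4, 0, 2, 4, 0, 1]

/-- The points as elements of the dodecad. -/
noncomputable def labelPt (i : Fin 12) : DodPt :=
  ⟨pt (ptsL.getD i 24), by
    rw [Spor.squareDodecad, squares_eq, mem_toSet]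
    · have := List.all_eq_true.mp pts_ok.1 i (List.mem_range.mpr i.2)
      rw [Bool.and_eq_true] at this
      rw [idx_pt (Nat.blt_eq.mp (List.all_eq_true.mp pts_ok.2 i (List.mem_range.mpr i.2)))]
      exact this.1⟩

theorem labelPt_bij : Function.Bijective labelPt := by
  have hlt : ∀ i : Fin 12, ptsL.getD i 24 < 24 := fun i =>
    Nat.blt_eq.mp (List.all_eq_true.mp pts_ok.2 i (List.mem_range.mpr i.2))
  refine (Fintype.bijective_iff_injective_and_card _).mpr ⟨fun i j h => ?_, by rw [card_dodPt, Fintype.card_fin]⟩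
  have e : ptsL.getD i 24 = ptsL.getD j 24 := by
    have h' : idx (pt (ptsL.getD i 24)) = idx (pt (ptsL.getD j 24)) := congrArg (fun p : DodPt => idx p.1) h
    rwa [idx_pt (hlt i), idx_pt (hlt j)] at h'
  have hne : ∀ a b : Fin 12, (a : ℕ) < b → ptsL.getD a 24 ≠ ptsL.getD b 24 := fun a b hab e => by
    have := List.all_eq_true.mp pts_ok.1 b (List.mem_range.mpr b.2)
    rw [Bool.and_eq_true] at this
    have := List.all_eq_true.mp this.2 a (List.mem_range.mpr hab)
    rw [e, Nat.beq_refl] at this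
    exact Bool.noConfusion this
  rcases Nat.lt_trichotomy (i : ℕ) j with hl | hl | hl
  exacts [absurd e (hne i j hl), Fin.ext hl, absurd e.symm (hne j i hl)]

/-- The group of order two on two points. -/
def flipHom : Multiplicative (ZMod 2) →* Perm (Fin 2) where
  toFun a := if a = 1 then 1 else Equiv.swap 0 1
  map_one' := if_pos rfl
  map_mul' := by decide

/-- The labelled action of the Mathieu group. -/
noncomputable def act12 : ↥Spor.M12 →* Perm (Fin 12) :=
  ((Equiv.ofBijective _ labelPt_bij).symm.permCongrHom.toMonoidHom).comp sporAct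

/-- The product on fourteen points. -/
noncomputable def sigma : Multiplicative (ZMod 2) × ↥Spor.M12 →* Perm (Fin 14) :=
  (finSumFinEquiv.permCongrHom.toMonoidHom).comp
    ((Equiv.Perm.sumCongrHom (Fin 12) (Fin 2)).comp ((act12.comp (MonoidHom.snd _ _)).prod (flipHom.comp (MonoidHom.fst _ _))))

theorem sigma_inj : Function.Injective sigma := by
  intro p q hpq
  simp only [sigma, MonoidHom.comp_apply, MulEquiv.coe_toMonoidHom] at hpq
  have e := Equiv.Perm.sumCongrHom_injective ((Equiv.permCongrHom _).injective hpq)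
  obtain ⟨a, g⟩ := p
  obtain ⟨b, h⟩ := q
  simp only [MonoidHom.prod_apply, MonoidHom.comp_apply, MonoidHom.coe_snd, MonoidHom.coe_fst, Prod.mk.injEq] at e
  refine Prod.ext ?_ ?_
  · exact (by decide : ∀ a b : Multiplicative (ZMod 2), flipHom a = flipHom b → a = b) _ _ e.2
  · haveI := Fintype.ofFinite ↥Spor.M12
    exact rho_inj (ρ := sporAct) card_dodPt sporAct_five
      ((Equiv.ofBijective _ labelPt_bij).symm.permCongrHom.injective e.1)

theorem sigma_low (a : Multiplicative (ZMod 2)) (g : ↥Spor.M12) (i : Fin 12) :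
    sigma (a, g) (Fin.castAdd 2 i) = Fin.castAdd 2 (act12 g i) := by
  simp [sigma, Equiv.Perm.sumCongrHom, -finSumFinEquiv_symm_apply_castAdd]
  rw [finSumFinEquiv_symm_apply_castAdd, Sum.map_inl, finSumFinEquiv_apply_left]

theorem sigma_high (a : Multiplicative (ZMod 2)) (g : ↥Spor.M12) (j : Fin 2) :
    sigma (a, g) (Fin.natAdd 12 j) = Fin.natAdd 12 (flipHom a j) := by
  simp [sigma, Equiv.Perm.sumCongrHom, -finSumFinEquiv_symm_apply_natAdd]
  rw [finSumFinEquiv_symm_apply_natAdd, Sum.map_inr, finSumFinEquiv_apply_right]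

/-- The value of a word. -/
def wordP (w : List ℕ) : Perm GolayPt := (w.map CfsgQS3.Zero.p12).prod

theorem word_mem {w : List ℕ} (h : ∀ a ∈ w, a < 5) : wordP w ∈ Spor.M12 :=
  list_prod_mem fun x hx => by
    obtain ⟨a, ha, rfl⟩ := List.mem_map.mp hx
    exact CfsgQS3.Zero.mem_M12 (h a ha)

theorem words_ok : (wordX.all fun a => Nat.blt a 5) = true ∧ (wordY.all fun a => Nat.blt a 5) = true ∧
    ((List.range 12).all fun i =>
      Nat.beq (idx (wordP wordX (pt (ptsL.getD i 24)))) (ptsL.getD (ap (Data.gens.getD 0 0) i) 24) &&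
      Nat.beq (idx (wordP wordY (pt (ptsL.getD i 24)))) (ptsL.getD (ap (Data.gens.getD 1 0) i) 24) &&
      Nat.blt (ap (Data.gens.getD 0 0) i) 12 && Nat.blt (ap (Data.gens.getD 1 0) i) 12 &&
      Nat.beq (ap (Data.gens.getD 3 0) i) i) = true ∧
    ((List.range 2).all fun j => Nat.beq (ap (Data.gens.getD 0 0) (12 + j)) (12 + j) &&
      Nat.beq (ap (Data.gens.getD 1 0) (12 + j)) (12 + j) &&
      Nat.beq (ap (Data.gens.getD 3 0) (12 + j)) (12 + (1 - j))) = true := by decide +kernel

/-- The central involution of the product. -/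
def zProd : Multiplicative (ZMod 2) × ↥Spor.M12 := (Multiplicative.ofAdd 1, 1)

theorem rep_gens : ∃ x y : Multiplicative (ZMod 2) × ↥Spor.M12,
    Rep 14 (Data.gens.getD 0 0) (sigma x) ∧ Rep 14 (Data.gens.getD 1 0) (sigma y) ∧
      Rep 14 (Data.gens.getD 3 0) (sigma zProd) := by
  obtain ⟨hx, hy, h12, h2⟩ := words_ok
  simp only [List.all_eq_true, List.mem_range, Bool.and_eq_true, Nat.blt_eq] at hx hy h12 h2
  have key : ∀ (w : List ℕ) (hw : wordP w ∈ Spor.M12) (c : ℕ),
      (∀ i : Fin 12, idx (wordP w (pt (ptsL.getD i 24))) = ptsL.getD (ap c i) 24 ∧ ap c i < 12) →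
      (∀ j : Fin 2, ap c (12 + j) = 12 + (j : ℕ)) → Rep 14 c (sigma (1, ⟨wordP w, hw⟩)) := by
    intro w hw c h1 h3 i
    induction i using Fin.addCases (m := 12) (n := 2) with
    | left i =>
      rw [sigma_low]
      obtain ⟨e, hlt⟩ := h1 i
      have : act12 ⟨wordP w, hw⟩ i = ⟨ap c i, hlt⟩ := by
        show (Equiv.ofBijective _ labelPt_bij).symm (sporAct ⟨wordP w, hw⟩ (labelPt i)) = _
        rw [Equiv.symm_apply_eq]
        refine Subtype.ext (idx_injective ?_)
        show idx (wordP w (pt (ptsL.getD i 24))) = idx (pt (ptsL.getD (ap c i) 24))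
        rw [e, idx_pt (Nat.blt_eq.mp (List.all_eq_true.mp pts_ok.2 _ (List.mem_range.mpr hlt)))]
      rw [this]; rfl
    | right j =>
      rw [sigma_high, map_one, Perm.one_apply]
      exact h3 j
  refine ⟨(1, ⟨_, word_mem fun a ha => hx a ha⟩), (1, ⟨_, word_mem fun a ha => hy a ha⟩),
    key _ _ _ (fun i => ⟨Nat.eq_of_beq_eq_true (h12 i i.2).1.1.1.1, (h12 i i.2).1.1.2⟩)
      (fun j => Nat.eq_of_beq_eq_true (h2 j j.2).1.1),
    key _ _ _ (fun i => ⟨Nat.eq_of_beq_eq_true (h12 i i.2).1.1.1.2, (h12 i i.2).1.2⟩)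
      (fun j => Nat.eq_of_beq_eq_true (h2 j j.2).1.2), fun i => ?_⟩
  induction i using Fin.addCases (m := 12) (n := 2) with
  | left i =>
    rw [zProd, sigma_low, map_one, Perm.one_apply]
    exact Nat.eq_of_beq_eq_true (h12 i i.2).2
  | right j =>
    rw [zProd, sigma_high]
    refine (Nat.eq_of_beq_eq_true (h2 j j.2).2).trans ?_
    fin_cases j <;> rfl

theorem valid_inv {i : ℕ} (hi : i < 4) {g : Perm (Fin 14)} (hg : Rep 14 (Data.gens.getD i 0) g) :
    Rep 14 (Data.invs.getD i 0) g⁻¹ :=
  rep_inv (by norm_num) hg (List.all_eq_true.mp data_checks.1 i (List.mem_range.mpr hi))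

theorem invs_in : Data.gens.getD 2 0 = Data.invs.getD 1 0 ∧ Data.invs = [Data.gens.getD 0 0, Data.gens.getD 2 0,
    Data.gens.getD 1 0, Data.gens.getD 3 0] := by decide +kernel

theorem range_sigma : sigma.range = UU := by
  obtain ⟨x, y, hx, hy, hz⟩ := rep_gens
  refine (Subgroup.eq_of_le_of_card_ge ?_ ?_).symm
  · rw [show UU = Subgroup.closure {g | ∃ c ∈ Data.gens, Rep 14 c g} from rfl, closure_le]
    rintro g ⟨c, hc, hg⟩
    obtain ⟨k, hk, rfl⟩ := List.getElem_of_mem hc
    have hk4 : k < 4 := data_checks.2.2.2.2.2 ▸ hk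
    rw [← List.getD_eq_getElem _ 0 hk] at hg
    interval_cases k
    · exact ⟨x, hx.unique hg⟩
    · exact ⟨y, hy.unique hg⟩
    · refine ⟨y⁻¹, ?_⟩
      rw [map_inv]
      exact (valid_inv (i := 1) (by norm_num) hy).unique (invs_in.1 ▸ hg)
    · exact ⟨zProd, hz.unique hg⟩
  · rw [closed.2, ← Nat.card_congr (MonoidHom.ofInjective sigma_inj).toEquiv, Nat.card_prod, card_sporM12,
      Nat.card_eq_fintype_card, Fintype.card_multiplicative, ZMod.card]

/-- The product and the subgroup are isomorphic. -/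
noncomputable def prodEquiv : Multiplicative (ZMod 2) × ↥Spor.M12 ≃* UU :=
  (MonoidHom.ofInjective sigma_inj).trans (MulEquiv.subgroupCongr range_sigma)

theorem prodEquiv_z : Rep 14 (Data.gens.getD 3 0) (prodEquiv zProd : Perm (Fin 14)) := by
  obtain ⟨x, y, -, -, hz⟩ := rep_gens
  exact hz

end CfsgLib.Co3M12
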