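/-
The common part, the coded involution and a Sylow subgroup inside the product on fourteen points.
-/
import Cfsg.Agent.Lib.Co3M12.Model
import Cfsg.Agent.Lib.Co3M12.LocalData

set_option autoImplicit false
set_option maxRecDepth 100000
set_option linter.style.haveILetI false

namespace CfsgLib.Co3M12

open Equiv Subgroup CfsgPC Eng

attribute [local irreducible] Data.chain

/-- A configuration carrying only the table. -/
def D0 : Dat := ⟨(one14, one14), .leaf, [], Data.chain, []⟩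

/-- A code stands for an element. -/
abbrev Rp (c : ℕ) (u : UU) : Prop := Rep 14 c (u : Perm (Fin 14))

open Classical in
/-- The element of a code. -/
noncomputable def elt (c : ℕ) : UU := if h : ∃ u : UU, Rp c u then h.choose else 1

theorem elt_spec {c : ℕ} (h : memB D0 c = true) : Rp c (elt c) := by
  have h' := mem_of_memB (D := D0) rfl h
  rw [elt, dif_pos h']
  exact h'.choose_spec

theorem rp_unique {c : ℕ} {u v : UU} (hu : Rp c u) (hv : Rp c v) : u = v := Subtype.ext (hu.unique hv)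

theorem rp_elt {c : ℕ} {u : UU} (h : Rp c u) : elt c = u := by
  rw [elt, dif_pos ⟨u, h⟩]
  exact rp_unique (Exists.choose_spec (⟨u, h⟩ : ∃ v : UU, Rp c v)) h

theorem rp_mul {c d : ℕ} {u v : UU} (hu : Rp c u) (hv : Rp d v) : Rp (cp 14 c d) (u * v) := hu.comp hv

theorem rp_one : Rp one14 (1 : UU) := rep_id (by norm_num)

theorem rp_eq {c d : ℕ} {u v : UU} (hu : Rp c u) (hv : Rp d v) (h : Nat.beq c d = true) : u = v :=
  rp_unique hu ((Nat.eq_of_beq_eq_true h).symm ▸ hv)

theorem rp_ne {c d : ℕ} {u v : UU} (hu : Rp c u) (hv : Rp d v) (hc : canonB c = true) (hd : canonB d = true)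
    (h : Nat.beq c d = false) : u ≠ v := fun e => by
  rw [canon_eq hc hd hu (e ▸ hv), Nat.beq_refl] at h
  exact Bool.noConfusion h

theorem rp_inv {c d : ℕ} {u : UU} (hu : Rp c u) (h : Nat.beq (cp 14 d c) one14 = true) : Rp d u⁻¹ := by
  obtain ⟨v, hv, e⟩ := Cd.inv (ψ := MonoidHom.id UU) (p := u) ⟨u, hu, rfl⟩ h
  exact (show v = u⁻¹ from e) ▸ hv

theorem cp_congr (n o e c d : ℕ) (h : ∀ i < n, ap o (ap e i) = ap c (ap d i)) : cp n o e = cp n c d := by
  have key : ∀ k ≤ n, pk (fun i => ap o (ap e i)) k = pk (fun i => ap c (ap d i)) k := by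
    intro k
    induction k with
    | zero => intro; rfl
    | succ k ih =>
      intro hk
      rw [pk, pk, ih (by omega), h k (by omega)]
  exact key n le_rfl

theorem canon_cp {c d : ℕ} {u v : UU} (hu : Rp c u) (hv : Rp d v) : canonB (cp 14 c d) = true := by
  have h : cp 14 one14 (cp 14 c d) = cp 14 c d := cp_congr 14 one14 _ c d fun i hi => by
    rw [rp_mul hu hv ⟨i, hi⟩, rp_one (((u * v : UU) : Perm (Fin 14)) ⟨i, hi⟩), hv ⟨i, hi⟩, hu]
    rfl
  rw [canonB, h]
  exact Nat.beq_refl _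

theorem gens_mem : (Data.gens.all fun c => memB D0 c) = true := by decide +kernel

/-- An element commuting with the generators is central. -/
theorem central_of {c : ℕ} {u : UU} (hu : Rp c u)
    (h : (Data.gens.all fun g => Nat.beq (cp 14 c g) (cp 14 g c)) = true) (v : UU) : u * v = v * u := by
  have hv : (v : Perm (Fin 14)) ∈ Subgroup.closure {g | ∃ d ∈ Data.gens, Rep 14 d g} := v.2
  have hle : Subgroup.closure {g | ∃ d ∈ Data.gens, Rep 14 d g} ≤ centralizer ({(u : Perm (Fin 14))} : Set _) := by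
    rw [closure_le]
    rintro g ⟨d, hd, hg⟩
    exact mem_centralizer_singleton_iff.mpr
      ((hg.comp hu).eq_beq (hu.comp hg) (by
        rw [Nat.eq_of_beq_eq_true (List.all_eq_true.mp h d hd)]; exact Nat.beq_refl _))
  exact Subtype.ext (mem_centralizer_singleton_iff.mp (hle hv)).symm

/-! ### The two named involutions -/

/-- The central involution. -/
noncomputable def zx : UU := elt (Data.gens.getD 3 0)

/-- The involution of the Mathieu part. -/
noncomputable def tx : UU := elt Data.tC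

theorem named_ok : memB D0 (Data.gens.getD 3 0) = true ∧ memB D0 Data.tC = true ∧
    canonB (Data.gens.getD 3 0) = true ∧ canonB Data.tC = true ∧ canonB one14 = true ∧
    Nat.beq (cp 14 Data.tC Data.tC) one14 = true ∧ Nat.beq Data.tC one14 = false ∧
    (Data.gens.all fun g => Nat.beq (cp 14 (Data.gens.getD 3 0) g) (cp 14 g (Data.gens.getD 3 0))) = true ∧
    Nat.beq (cp 14 (Data.gens.getD 3 0) (Data.gens.getD 3 0)) one14 = true ∧
    Nat.beq (ap (Data.gens.getD 3 0) 12) 12 = false ∧ Nat.beq (ap Data.tC 12) 12 = true := by decide +kernel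

theorem zx_spec : Rp (Data.gens.getD 3 0) zx := elt_spec named_ok.1

theorem tx_spec : Rp Data.tC tx := elt_spec named_ok.2.1

theorem zx_central (v : UU) : zx * v = v * zx := central_of zx_spec named_ok.2.2.2.2.2.2.2.1 v

theorem zx_sq : zx * zx = 1 := rp_eq (rp_mul zx_spec zx_spec) rp_one named_ok.2.2.2.2.2.2.2.2.1

theorem tx_sq : tx * tx = 1 := rp_eq (rp_mul tx_spec tx_spec) rp_one named_ok.2.2.2.2.2.1

theorem tx_ne_one : tx ≠ 1 := rp_ne tx_spec rp_one named_ok.2.2.2.1 named_ok.2.2.2.2.1 named_ok.2.2.2.2.2.2.1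

theorem prodEquiv_zx : prodEquiv zProd = zx := (rp_elt prodEquiv_z).symm

/-- The thirteenth point. -/
def pz : Fin 14 := ⟨12, by norm_num⟩

/-- The elements of the Mathieu part. -/
def inL (u : UU) : Prop := (u : Perm (Fin 14)) pz = pz

theorem gens_pair : (Data.gens.all fun g => (Nat.beq (ap g 12) 12 && Nat.beq (ap g 13) 13) ||
    (Nat.beq (ap g 12) 13 && Nat.beq (ap g 13) 12)) = true := by decide +kernel

theorem pair_fixed (u : UU) : ((u : Perm (Fin 14)) pz = pz ∧ (u : Perm (Fin 14)) ⟨13, by norm_num⟩ = ⟨13, by norm_num⟩) ∨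
    ((u : Perm (Fin 14)) pz = ⟨13, by norm_num⟩ ∧ (u : Perm (Fin 14)) ⟨13, by norm_num⟩ = pz) := by
  have hu : (u : Perm (Fin 14)) ∈ Subgroup.closure {g | ∃ d ∈ Data.gens, Rep 14 d g} := u.2
  generalize (u : Perm (Fin 14)) = g at hu ⊢
  induction hu using Subgroup.closure_induction with
  | mem g hg =>
    obtain ⟨d, hd, hr⟩ := hg
    have h := List.all_eq_true.mp gens_pair d hd
    simp only [Bool.or_eq_true, Bool.and_eq_true] at h
    rcases h with ⟨h1, h2⟩ | ⟨h1, h2⟩
    · exact Or.inl ⟨Fin.ext ((hr pz).symm.trans (Nat.eq_of_beq_eq_true h1)),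
        Fin.ext ((hr ⟨13, by norm_num⟩).symm.trans (Nat.eq_of_beq_eq_true h2))⟩
    · exact Or.inr ⟨Fin.ext ((hr pz).symm.trans (Nat.eq_of_beq_eq_true h1)),
        Fin.ext ((hr ⟨13, by norm_num⟩).symm.trans (Nat.eq_of_beq_eq_true h2))⟩
  | one => exact Or.inl ⟨rfl, rfl⟩
  | mul a b _ _ ha hb =>
    rcases ha with ⟨a1, a2⟩ | ⟨a1, a2⟩ <;> rcases hb with ⟨b1, b2⟩ | ⟨b1, b2⟩
    · exact Or.inl ⟨by rw [Perm.mul_apply, b1, a1], by rw [Perm.mul_apply, b2, a2]⟩
    · exact Or.inr ⟨by rw [Perm.mul_apply, b1, a2], by rw [Perm.mul_apply, b2, a1]⟩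
    · exact Or.inr ⟨by rw [Perm.mul_apply, b1, a1], by rw [Perm.mul_apply, b2, a2]⟩
    · exact Or.inl ⟨by rw [Perm.mul_apply, b1, a2], by rw [Perm.mul_apply, b2, a1]⟩
  | inv a _ ha =>
    rcases ha with ⟨a1, a2⟩ | ⟨a1, a2⟩
    · exact Or.inl ⟨Perm.inv_eq_iff_eq.mpr a1.symm, Perm.inv_eq_iff_eq.mpr a2.symm⟩
    · exact Or.inr ⟨Perm.inv_eq_iff_eq.mpr a2.symm, Perm.inv_eq_iff_eq.mpr a1.symm⟩

theorem sq_inL (u : UU) : inL (u * u) := by
  show (u : Perm (Fin 14)) ((u : Perm (Fin 14)) pz) = pz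
  rcases pair_fixed u with ⟨h1, -⟩ | ⟨h1, h2⟩
  · rw [h1, h1]
  · rw [h1, h2]

theorem not_inL_zx : ¬ inL zx := fun h => by
  have h1 := zx_spec pz
  rw [show (zx : Perm (Fin 14)) pz = pz from h] at h1
  exact Bool.noConfusion ((show Nat.beq (ap (Data.gens.getD 3 0) 12) 12 = true by
    rw [show ap (Data.gens.getD 3 0) 12 = 12 from h1]; rfl).symm.trans named_ok.2.2.2.2.2.2.2.2.2.1)

theorem inL_tx : inL tx := Fin.ext ((tx_spec pz).symm.trans (Nat.eq_of_beq_eq_true named_ok.2.2.2.2.2.2.2.2.2.2))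

theorem not_inL_mul {u : UU} (h : inL u) : ¬ inL (zx * u) := fun h' => not_inL_zx (by
  show (zx : Perm (Fin 14)) pz = pz
  have h2 : (zx : Perm (Fin 14)) ((u : Perm (Fin 14)) pz) = pz := h'
  rwa [show (u : Perm (Fin 14)) pz = pz from h] at h2)

theorem inL_mul {u v : UU} (h : inL u) (h' : inL v) : inL (u * v) := by
  show (u : Perm (Fin 14)) ((v : Perm (Fin 14)) pz) = pz
  rw [show (v : Perm (Fin 14)) pz = pz from h']; exact h

/-! ### The common part -/

/-- Entry of the common part. -/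
def kc (i : ℕ) : ℕ := (Loc.keys.getD i (0, 0, 0, 0)).1

/-- The generators of the common part. -/
def gc (a : ℕ) : ℕ := Loc.cGens.getD a 0

theorem keys_ok : Loc.keys.length = 384 ∧ ((List.range 384).all fun i =>
    memB D0 (kc i) && canonB (kc i) && Nat.beq (cp 14 (Loc.keys.getD i (0, 0, 0, 0)).2.1 (kc i)) one14 &&
      (match Loc.keyTree.find (kc i) with | some j => Nat.beq j i | none => false) &&
      Nat.beq (cp 14 (kc i) Data.tC) (cp 14 Data.tC (kc i)) &&
      ((Nat.beq i 0 && Nat.beq (kc i) one14) ||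
        (Nat.blt (Loc.keys.getD i (0, 0, 0, 0)).2.2.1 i && Nat.blt (Loc.keys.getD i (0, 0, 0, 0)).2.2.2 3 &&
          Nat.beq (kc i) (cp 14 (kc (Loc.keys.getD i (0, 0, 0, 0)).2.2.1)
            (gc (Loc.keys.getD i (0, 0, 0, 0)).2.2.2))))) = true ∧
    Loc.cGens.length = 3 ∧ (Loc.cGens.all fun c => memB D0 c) = true ∧
    Nat.beq (gc 2) (Data.gens.getD 3 0) = true := by decide +kernel

theorem kc_spec {i : ℕ} (hi : i < 384) : Rp (kc i) (elt (kc i)) ∧ canonB (kc i) = true ∧
    Loc.keyTree.find (kc i) = some i := by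
  have h := List.all_eq_true.mp keys_ok.2.1 i (List.mem_range.mpr hi)
  simp only [Bool.and_eq_true] at h
  refine ⟨elt_spec h.1.1.1.1.1, h.1.1.1.1.2, ?_⟩
  have h4 := h.1.1.2
  revert h4
  cases Loc.keyTree.find (kc i) with
  | none => intro h4; exact absurd h4 (by simp)
  | some j => intro h4; rw [Nat.eq_of_beq_eq_true h4]

/-- An element of the common part. -/
noncomputable def kx (i : ℕ) : UU := elt (kc i)

theorem kx_inj {i j : ℕ} (hi : i < 384) (hj : j < 384) (e : kx i = kx j) : i = j := by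
  have hc : kc i = kc j := canon_eq (kc_spec hi).2.1 (kc_spec hj).2.1 (kc_spec hi).1
    (by rw [show (elt (kc i) : UU) = elt (kc j) from e]; exact (kc_spec hj).1)
  have := (kc_spec hi).2.2
  rw [hc, (kc_spec hj).2.2] at this
  exact (Option.some.injEq _ _ ▸ this).symm

theorem kx_comm {i : ℕ} (hi : i < 384) : kx i * tx = tx * kx i := by
  have h := List.all_eq_true.mp keys_ok.2.1 i (List.mem_range.mpr hi)
  simp only [Bool.and_eq_true] at h
  exact rp_eq (rp_mul (kc_spec hi).1 tx_spec) (rp_mul tx_spec (kc_spec hi).1) h.1.2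

theorem conj_ok : Data.reps.length = 495 ∧ Loc.tConj.length = 495 ∧ ((List.range 495).all fun p =>
    memB D0 (Data.reps.getD p (0, 0)).1 &&
    Nat.beq (cp 14 (Data.reps.getD p (0, 0)).2 (Data.reps.getD p (0, 0)).1) one14 &&
    Nat.beq (cp 14 (cp 14 (Data.reps.getD p (0, 0)).1 Data.tC) (Data.reps.getD p (0, 0)).2) (Loc.tConj.getD p 0) &&
      canonB (Loc.tConj.getD p 0) &&
      (match Loc.tTree.find (Loc.tConj.getD p 0) with | some j => Nat.beq j p | none => false)) = true := by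
  decide +kernel

/-- A representative of a coset of the common part. -/
noncomputable def rx (p : ℕ) : UU := elt (Data.reps.getD p (0, 0)).1

theorem rx_spec {p : ℕ} (hp : p < 495) : Rp (Data.reps.getD p (0, 0)).1 (rx p) ∧
    Rp (Loc.tConj.getD p 0) (rx p * tx * (rx p)⁻¹) ∧ canonB (Loc.tConj.getD p 0) = true ∧
      Loc.tTree.find (Loc.tConj.getD p 0) = some p := by
  have h := List.all_eq_true.mp conj_ok.2.2 p (List.mem_range.mpr hp)
  simp only [Bool.and_eq_true] at h
  obtain ⟨⟨⟨⟨h1, h2⟩, h3⟩, h4⟩, h5⟩ := h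
  have hr : Rp (Data.reps.getD p (0, 0)).1 (rx p) := elt_spec h1
  refine ⟨hr, (Nat.eq_of_beq_eq_true h3) ▸ rp_mul (rp_mul hr tx_spec) (rp_inv hr h2), h4, ?_⟩
  revert h5
  cases Loc.tTree.find (Loc.tConj.getD p 0) with
  | none => intro h5; exact absurd h5 (by simp)
  | some j => intro h5; rw [Nat.eq_of_beq_eq_true h5]

theorem cent_tx {u : UU} (hu : u * tx = tx * u) : ∃ i < 384, u = kx i := by
  classical
  haveI := Fintype.ofFinite UU
  let C : Finset UU := Finset.univ.filter fun u => u * tx = tx * u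
  have hinj : Function.Injective fun q : Fin 495 × C => rx q.1 * (q.2 : UU) := by
    rintro ⟨p, c, hc⟩ ⟨q, d, hd⟩ e
    simp only [C, Finset.mem_filter, Finset.mem_univ, true_and] at hc hd
    have e1 : rx p * tx * (rx p)⁻¹ = rx q * tx * (rx q)⁻¹ := by
      have e' : rx p * c = rx q * d := e
      calc rx p * tx * (rx p)⁻¹ = rx p * c * tx * (rx p * c)⁻¹ := by
            rw [mul_inv_rev, mul_assoc (rx p) c tx, hc]; group
        _ = rx q * d * tx * (rx q * d)⁻¹ := by rw [e']
        _ = _ := by rw [mul_inv_rev, mul_assoc (rx q) d tx, hd]; group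
    have hc' : Loc.tConj.getD p 0 = Loc.tConj.getD q 0 :=
      canon_eq (rx_spec p.2).2.2.1 (rx_spec q.2).2.2.1 (rx_spec p.2).2.1 (e1 ▸ (rx_spec q.2).2.1)
    have hpq : p = q := by
      have := (rx_spec p.2).2.2.2
      rw [hc', (rx_spec q.2).2.2.2] at this
      exact Fin.ext (Option.some.injEq _ _ ▸ this).symm
    subst hpq
    exact Prod.ext rfl (Subtype.ext (mul_left_cancel e))
  have hC : C.card ≤ 384 := by
    have := Fintype.card_le_of_injective _ hinj
    rw [Fintype.card_prod, Fintype.card_fin, Fintype.card_coe, ← Nat.card_eq_fintype_card, closed.2] at this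
    omega
  have himg : (Finset.range 384).image kx = C := by
    refine Finset.eq_of_subset_of_card_le (fun v hv => ?_) ?_
    · obtain ⟨i, hi, rfl⟩ := Finset.mem_image.mp hv
      exact Finset.mem_filter.mpr ⟨Finset.mem_univ _, kx_comm (Finset.mem_range.mp hi)⟩
    · rw [Finset.card_image_of_injOn fun i hi j hj e =>
        kx_inj (Finset.mem_range.mp hi) (Finset.mem_range.mp hj) e, Finset.card_range]
      exact hC
  have : u ∈ (Finset.range 384).image kx := himg ▸ Finset.mem_filter.mpr ⟨Finset.mem_univ _, hu⟩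
  obtain ⟨i, hi, e⟩ := Finset.mem_image.mp this
  exact ⟨i, Finset.mem_range.mp hi, e.symm⟩

/-! ### A Sylow subgroup -/

/-- Entry of the Sylow subgroup. -/
def sc (i : ℕ) : ℕ := (Loc.syl.getD i (0, 0, 0)).1

theorem syl_ok : Loc.syl.length = 128 ∧ (Loc.sGens.all fun c => memB D0 c) = true ∧ ((List.range 128).all fun i =>
    memB D0 (sc i) && canonB (sc i) &&
      ((Nat.beq i 0 && Nat.beq (sc i) one14) ||
        (Nat.blt (Loc.syl.getD i (0, 0, 0)).2.1 i && Nat.blt (Loc.syl.getD i (0, 0, 0)).2.2 Loc.sGens.length &&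
          Nat.beq (sc i) (cp 14 (Loc.sGens.getD (Loc.syl.getD i (0, 0, 0)).2.2 0)
            (sc (Loc.syl.getD i (0, 0, 0)).2.1)))) &&
      ((List.range i).all fun j => !Nat.beq (sc j) (sc i)) &&
      ((List.range Loc.sGens.length).all fun g =>
        let k := Loc.sylNxt.getD (i * Loc.sGens.length + g) 0
        Nat.blt k 128 && Nat.beq (sc k) (cp 14 (Loc.sGens.getD g 0) (sc i))) &&
      (!((List.range Loc.sGens.length).all fun g =>
          Nat.beq (cp 14 (sc i) (Loc.sGens.getD g 0)) (cp 14 (Loc.sGens.getD g 0) (sc i))) ||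
        Nat.beq (sc i) one14 || Nat.beq (sc i) (Data.gens.getD 3 0) || Nat.beq (sc i) Data.tC ||
        Nat.beq (sc i) (cp 14 (Data.gens.getD 3 0) Data.tC))) = true ∧
    ((List.range 128).any fun i => Nat.beq (sc i) Data.tC) = true ∧
    ((List.range 128).any fun i => Nat.beq (sc i) (Data.gens.getD 3 0)) = true := by decide +kernel

/-- An element of the Sylow subgroup. -/
noncomputable def sx (i : ℕ) : UU := elt (sc i)

theorem sx_spec {i : ℕ} (hi : i < 128) : Rp (sc i) (sx i) ∧ canonB (sc i) = true := by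
  have h := List.all_eq_true.mp syl_ok.2.2.1 i (List.mem_range.mpr hi)
  simp only [Bool.and_eq_true] at h
  exact ⟨elt_spec h.1.1.1.1.1, h.1.1.1.1.2⟩

theorem sx_inj {i j : ℕ} (hi : i < 128) (hj : j < 128) (e : sx i = sx j) : i = j := by
  have hc : sc i = sc j := canon_eq (sx_spec hi).2 (sx_spec hj).2 (sx_spec hi).1 (e ▸ (sx_spec hj).1)
  have key : ∀ a b, b < 128 → a < b → sc a ≠ sc b := fun a b hb hab he => by
    have h := List.all_eq_true.mp syl_ok.2.2.1 b (List.mem_range.mpr hb)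
    simp only [Bool.and_eq_true] at h
    have := List.all_eq_true.mp h.1.1.2 a (List.mem_range.mpr hab)
    rw [he, Nat.beq_refl] at this
    exact Bool.noConfusion this
  rcases Nat.lt_trichotomy i j with hl | hl | hl
  exacts [absurd hc (key i j hj hl), hl, absurd hc.symm (key j i hi hl)]

/-- The Sylow subgroup. -/
noncomputable def SS : Subgroup UU :=
  Subgroup.closure {g | ∃ a < Loc.sGens.length, g = elt (Loc.sGens.getD a 0)}

theorem sgen_spec {a : ℕ} (ha : a < Loc.sGens.length) : Rp (Loc.sGens.getD a 0) (elt (Loc.sGens.getD a 0)) :=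
  elt_spec (List.all_eq_true.mp syl_ok.2.1 _ (by rw [List.getD_eq_getElem _ _ ha]; exact List.getElem_mem _))

theorem sx_zero : sx 0 = 1 := by
  have h := List.all_eq_true.mp syl_ok.2.2.1 0 (List.mem_range.mpr (by norm_num))
  simp only [Bool.and_eq_true, Bool.or_eq_true, Nat.blt_eq] at h
  rcases h.1.1.1.2 with ⟨-, h0⟩ | ⟨⟨h0, -⟩, -⟩
  · exact rp_eq (sx_spec (by norm_num)).1 rp_one h0
  · omega

theorem sx_step {i a : ℕ} (hi : i < 128) (ha : a < Loc.sGens.length) :
    ∃ k < 128, elt (Loc.sGens.getD a 0) * sx i = sx k := by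
  have h := List.all_eq_true.mp syl_ok.2.2.1 i (List.mem_range.mpr hi)
  simp only [Bool.and_eq_true] at h
  have h2 := List.all_eq_true.mp h.1.2 a (List.mem_range.mpr ha)
  rw [Bool.and_eq_true, Nat.blt_eq] at h2
  exact ⟨_, h2.1, (rp_eq (sx_spec h2.1).1 (rp_mul (sgen_spec ha) (sx_spec hi).1) h2.2).symm⟩

theorem sx_mem : ∀ i < 128, sx i ∈ SS := by
  intro i
  induction i using Nat.strong_induction_on with
  | _ i ih =>
    intro hi
    have h := List.all_eq_true.mp syl_ok.2.2.1 i (List.mem_range.mpr hi)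
    simp only [Bool.and_eq_true, Bool.or_eq_true, Nat.blt_eq] at h
    rcases h.1.1.1.2 with ⟨h0, -⟩ | ⟨⟨h1, h2⟩, h3⟩
    · rw [Nat.eq_of_beq_eq_true h0, sx_zero]; exact one_mem _
    · rw [rp_eq (sx_spec hi).1 (rp_mul (sgen_spec h2) (sx_spec (h1.trans hi)).1) h3]
      exact mul_mem (subset_closure ⟨_, h2, rfl⟩) (ih _ h1 (h1.trans hi))

theorem mem_SS {u : UU} : u ∈ SS ↔ ∃ i < 128, u = sx i := by
  refine ⟨fun hu => ?_, fun ⟨i, hi, e⟩ => e ▸ sx_mem i hi⟩
  have key : ∀ g ∈ SS, ∀ i < 128, ∃ k < 128, g * sx i = sx k := by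
    intro g hg
    induction hg using Subgroup.closure_induction with
    | mem g hg =>
      obtain ⟨a, ha, rfl⟩ := hg
      exact fun i hi => sx_step hi ha
    | one => exact fun i hi => ⟨i, hi, one_mul _⟩
    | mul a b _ _ ha hb =>
      intro i hi
      obtain ⟨k, hk, e⟩ := hb i hi
      obtain ⟨l, hl, e'⟩ := ha k hk
      exact ⟨l, hl, by rw [mul_assoc, e, e']⟩
    | inv a _ ha =>
      intro i hi
      choose f hf hfe using ha
      have hinj : Function.Injective fun j : Fin 128 => (⟨f j j.2, hf j j.2⟩ : Fin 128) := fun j k e => by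
        have e2 : a * sx j = a * sx k := by rw [hfe j j.2, hfe k k.2, show f j j.2 = f k k.2 from congrArg Fin.val e]
        exact Fin.ext (sx_inj j.2 k.2 (mul_left_cancel e2))
      obtain ⟨j, hj⟩ := Finite.surjective_of_injective hinj ⟨i, hi⟩
      refine ⟨j, j.2, ?_⟩
      rw [show i = f j j.2 from (congrArg Fin.val hj).symm, ← hfe j j.2, inv_mul_cancel_left]
  obtain ⟨k, hk, e⟩ := key u hu 0 (by norm_num)
  exact ⟨k, hk, by rwa [sx_zero, mul_one] at e⟩

theorem card_SS : Nat.card SS = 128 := by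
  rw [← Nat.card_fin 128]
  refine Nat.card_congr (Equiv.ofBijective (fun i : Fin 128 => (⟨sx i, sx_mem i i.2⟩ : SS)) ⟨fun i j e => ?_, ?_⟩).symm
  · exact Fin.ext (sx_inj i.2 j.2 (congrArg Subtype.val e))
  · rintro ⟨u, hu⟩
    obtain ⟨i, hi, rfl⟩ := mem_SS.mp hu
    exact ⟨⟨i, hi⟩, rfl⟩

theorem zx_mem_SS : zx ∈ SS := by
  obtain ⟨i, hi, he⟩ := List.any_eq_true.mp syl_ok.2.2.2.2
  rw [List.mem_range] at hi
  rw [rp_eq zx_spec (sx_spec hi).1 (by rw [Nat.eq_of_beq_eq_true he]; exact Nat.beq_refl _)]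
  exact sx_mem i hi

theorem tx_mem_SS : tx ∈ SS := by
  obtain ⟨i, hi, he⟩ := List.any_eq_true.mp syl_ok.2.2.2.1
  rw [List.mem_range] at hi
  rw [rp_eq tx_spec (sx_spec hi).1 (by rw [Nat.eq_of_beq_eq_true he]; exact Nat.beq_refl _)]
  exact sx_mem i hi

theorem center_SS {u : UU} (hu : u ∈ SS) (hc : ∀ v ∈ SS, u * v = v * u) :
    u = 1 ∨ u = zx ∨ u = tx ∨ u = zx * tx := by
  obtain ⟨i, hi, rfl⟩ := mem_SS.mp hu
  have h := List.all_eq_true.mp syl_ok.2.2.1 i (List.mem_range.mpr hi)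
  simp only [Bool.and_eq_true, Bool.or_eq_true, Bool.not_eq_true'] at h
  rcases h.2 with (((h' | h') | h') | h') | h'
  · exfalso
    refine Bool.false_ne_true (h'.symm.trans ?_)
    rw [List.all_eq_true]
    intro g hg
    rw [List.mem_range] at hg
    have e := hc _ (subset_closure ⟨g, hg, rfl⟩)
    rw [canon_eq (canon_cp (sx_spec hi).1 (sgen_spec hg)) (canon_cp (sgen_spec hg) (sx_spec hi).1)
      (rp_mul (sx_spec hi).1 (sgen_spec hg))
      (e ▸ rp_mul (sgen_spec hg) (sx_spec hi).1)]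
    exact Nat.beq_refl _
  · exact Or.inl (rp_eq (sx_spec hi).1 rp_one h')
  · exact Or.inr (Or.inl (rp_eq (sx_spec hi).1 zx_spec h'))
  · exact Or.inr (Or.inr (Or.inl (rp_eq (sx_spec hi).1 tx_spec h')))
  · exact Or.inr (Or.inr (Or.inr (rp_eq (sx_spec hi).1 (rp_mul zx_spec tx_spec) h')))

end CfsgLib.Co3M12
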