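/-
The centraliser of an element of order at most two in the product on fourteen points has order divisible by
thirty-two.
-/
import Cfsg.Agent.Lib.Co3M12.Local
import Cfsg.Agent.Lib.Co3M12.BigCentData

set_option autoImplicit false
set_option maxRecDepth 100000
set_option linter.style.haveILetI false

namespace CfsgLib.Co3M12

open Equiv Subgroup CfsgPC Eng

attribute [local irreducible] Data.chain

/-- An entry commutes with at least thirty-two entries, after conjugation. -/
def bigB (i : ℕ) : Bool :=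
  !Nat.beq (cp 14 (sc i) (sc i)) one14 ||
    (Nat.blt (Loc.bigCert.getD i (0, 0)).1 128 && memB D0 (Loc.bigCert.getD i (0, 0)).2 &&
      Nat.beq (cp 14 (Loc.bigCert.getD i (0, 0)).2 (sc i))
        (cp 14 (sc (Loc.bigCert.getD i (0, 0)).1) (Loc.bigCert.getD i (0, 0)).2) &&
      Nat.ble 32 ((List.range 128).filter fun j =>
        Nat.beq (cp 14 (sc (Loc.bigCert.getD i (0, 0)).1) (sc j))
          (cp 14 (sc j) (sc (Loc.bigCert.getD i (0, 0)).1))).length)

theorem big_ok : ((List.range 128).all bigB) = true := by decide +kernel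

theorem canon_one : canonB one14 = true := named_ok.2.2.2.2.1

theorem card_cent_conj {G : Type*} [Group G] (g a : G) :
    Nat.card (centralizer ({g * a * g⁻¹} : Set G)) = Nat.card (centralizer ({a} : Set G)) := by
  have e : (centralizer ({a} : Set G)).map (MulAut.conj g).toMonoidHom = centralizer ({g * a * g⁻¹} : Set G) := by
    ext x
    simp only [Subgroup.mem_map, mem_centralizer_singleton_iff, MulEquiv.coe_toMonoidHom, MulAut.conj_apply]
    constructor
    · rintro ⟨y, hy, rfl⟩
      rw [show g * y * g⁻¹ * (g * a * g⁻¹) = g * (y * a) * g⁻¹ by group, hy]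
      group
    · intro hx
      refine ⟨g⁻¹ * x * g, ?_, by group⟩
      rw [show g⁻¹ * x * g * a = g⁻¹ * (x * (g * a * g⁻¹)) * g by group, hx]
      group
  rw [← e, card_map_of_injective (MulAut.conj g).injective]

theorem big_cent_syl {i : ℕ} (hi : i < 128) (h2 : sx i * sx i = 1) :
    32 ∣ Nat.card (centralizer ({sx i} : Set UU)) := by
  classical
  have h := List.all_eq_true.mp big_ok i (List.mem_range.mpr hi)
  simp only [bigB, Bool.or_eq_true, Bool.and_eq_true, Bool.not_eq_true', Nat.blt_eq] at h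
  rcases h with h | ⟨⟨⟨hj, hg⟩, he⟩, hc⟩
  · exfalso
    have hs := (sx_spec hi).1
    rw [canon_eq (canon_cp hs hs) canon_one (rp_mul hs hs) (h2 ▸ rp_one), Nat.beq_refl] at h
    exact Bool.noConfusion h
  · set j := (Loc.bigCert.getD i (0, 0)).1
    set g := elt (Loc.bigCert.getD i (0, 0)).2
    have hgs := elt_spec hg
    have e1 : g * sx i = sx j * g := rp_eq (rp_mul hgs (sx_spec hi).1) (rp_mul (sx_spec hj).1 hgs) he
    rw [← card_cent_conj g, e1, mul_inv_cancel_right]
    set C : Subgroup UU := SS ⊓ centralizer ({sx j} : Set UU) with hC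
    refine dvd_trans ?_ (card_dvd_of_le (inf_le_right : C ≤ _))
    have hdvd : Nat.card C ∣ 2 ^ 7 := by
      rw [show (2 : ℕ) ^ 7 = Nat.card SS by rw [card_SS]; norm_num]
      exact card_dvd_of_le inf_le_left
    obtain ⟨k, hk, hk'⟩ := (Nat.dvd_prime_pow Nat.prime_two).mp hdvd
    rw [hk']
    refine (Nat.pow_dvd_pow_iff_le_right (by norm_num : 1 < 2)).mpr
      (?_ : 5 ≤ k)
    refine (Nat.pow_le_pow_iff_right (by norm_num : 1 < 2)).mp ((Nat.le_of_ble_eq_true hc).trans ?_)
    rw [← hk', ← List.toFinset_card_of_nodup (List.nodup_range.filter _)]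
    let f : {x // x ∈ ((List.range 128).filter fun k => Nat.beq (cp 14 (sc j) (sc k)) (cp 14 (sc k) (sc j))).toFinset} → C :=
      fun x => ⟨sx x.1, by
        have hx := List.mem_filter.mp (List.mem_toFinset.mp x.2)
        have hx1 := List.mem_range.mp hx.1
        exact ⟨sx_mem _ hx1, mem_centralizer_singleton_iff.mpr
          (rp_eq (rp_mul (sx_spec hj).1 (sx_spec hx1).1) (rp_mul (sx_spec hx1).1 (sx_spec hj).1) hx.2).symm⟩⟩
    have := Nat.card_le_card_of_injective f fun p q e => by
      have hp := List.mem_range.mp (List.mem_filter.mp (List.mem_toFinset.mp p.2)).1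
      have hq := List.mem_range.mp (List.mem_filter.mp (List.mem_toFinset.mp q.2)).1
      exact Subtype.ext (sx_inj hp hq (congrArg Subtype.val e))
    rwa [Nat.card_eq_fintype_card, Fintype.card_coe] at this

/-- Every element of order at most two has a centraliser of order divisible by thirty-two. -/
theorem big_cent {a : UU} (ha : a * a = 1) : 32 ∣ Nat.card (centralizer ({a} : Set UU)) := by
  classical
  haveI : Fact (Nat.Prime 2) := ⟨Nat.prime_two⟩
  have hT : IsPGroup 2 SS := IsPGroup.of_card (n := 7) (by rw [card_SS]; norm_num)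
  have hZ : IsPGroup 2 (zpowers a) := by
    rintro ⟨_, k, rfl⟩
    refine ⟨1, Subtype.ext ?_⟩
    show (a ^ k) ^ (2 ^ 1) = 1
    rw [pow_one, ← zpow_natCast, ← zpow_mul, mul_comm, zpow_mul, zpow_natCast, sq, ha, one_zpow]
  obtain ⟨P, hP⟩ := hT.exists_le_sylow
  obtain ⟨Q, hQ⟩ := hZ.exists_le_sylow
  have hPS : (P : Subgroup UU) = SS := by
    refine (eq_of_le_of_card_ge hP ?_).symm
    obtain ⟨k, hk⟩ := P.isPGroup'.exists_card_eq
    rw [hk, card_SS]
    have h8 : 2 ^ k ∣ 190080 := by rw [← hk, ← closed.2]; exact card_subgroup_dvd_card _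
    by_contra hne
    push Not at hne
    have h7 : 8 ≤ k := by
      by_contra hk8
      push Not at hk8
      exact absurd (Nat.pow_le_pow_right (by norm_num : 0 < 2) (Nat.lt_succ_iff.mp hk8)) (not_le.mpr hne)
    exact absurd ((Nat.pow_dvd_pow 2 h7).trans h8) (by norm_num)
  obtain ⟨g, hg⟩ := MulAction.exists_smul_eq UU Q P
  have hm : g * a * g⁻¹ ∈ SS := by
    rw [← hPS, ← hg]
    exact ⟨a, hQ (mem_zpowers a), rfl⟩
  obtain ⟨i, hi, e⟩ := mem_SS.mp hm
  rw [← card_cent_conj g a, e]
  refine big_cent_syl hi ?_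
  rw [← e, show g * a * g⁻¹ * (g * a * g⁻¹) = g * (a * a) * g⁻¹ by group, ha]
  group

end CfsgLib.Co3M12
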