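/-
Certified double coset tables over a subgroup: every fact of a certificate follows from earlier ones.
-/
import Cfsg.Agent.Lib.PermChain.Chain

set_option autoImplicit false
set_option linter.unusedSectionVars false

namespace CfsgLib.Co3M12.Eng

open Equiv Subgroup CfsgPC

/-- A search tree on codes. -/
inductive CTree where
  | leaf : CTree
  | node (l : CTree) (k v : ℕ) (r : CTree) : CTree

/-- The value at a key. -/
def CTree.find : CTree → ℕ → Option ℕ
  | .leaf, _ => none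
  | .node l k v r, x => bif Nat.beq x k then some v else bif Nat.blt x k then l.find x else r.find x

/-- All pairs of a tree. -/
def CTree.pairs : CTree → List (ℕ × ℕ)
  | .leaf => []
  | .node l k v r => l.pairs ++ (k, v) :: r.pairs

theorem CTree.find_mem : ∀ {T : CTree} {x v : ℕ}, T.find x = some v → (x, v) ∈ T.pairs := by
  intro T
  induction T with
  | leaf => intro x v h; simp [CTree.find] at h
  | node l k v r ihl ihr =>
    intro x w h
    simp only [CTree.find] at h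
    simp only [CTree.pairs, List.mem_append, List.mem_cons]
    cases h1 : Nat.beq x k
    · rw [h1] at h
      cases h2 : Nat.blt x k
      · rw [h2] at h; exact Or.inr (Or.inr (ihr h))
      · rw [h2] at h; exact Or.inl (ihl h)
    · rw [h1] at h
      simp only [cond_true, Option.some.injEq] at h
      exact Or.inr (Or.inl (by rw [Nat.eq_of_beq_eq_true h1, h]))

/-- A table of numbers indexed by the binary digits, lowest first. -/
inductive FTree where
  | leaf (v : ℕ) : FTree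
  | node (l r : FTree) : FTree

/-- The entry at an index. -/
def FTree.get : FTree → ℕ → ℕ
  | .leaf v, _ => v
  | .node l r, i => bif Nat.beq (i % 2) 0 then l.get (i / 2) else r.get (i / 2)

/-- The data of a configuration: the square, the action, the relations, the table of the subgroup. -/
structure Dat where
  /-- the square of the element and its inverse -/
  cc : ℕ × ℕ
  /-- key `a`, value `h` with `n h n⁻¹ = a` -/
  act : CTree
  /-- `(X₁, X₂, E, X₁⁻¹, X₂⁻¹)` with `n X₁ n X₂ n = E` -/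
  rels : List (ℕ × ℕ × ℕ × ℕ × ℕ)
  /-- membership test of the subgroup -/
  chain : List Level
  /-- for each class the earlier class and the element defining it -/
  defs : List (ℕ × ℕ)

/-! Fields of a packed fact. -/

/-- The operation. -/
def opF (F : ℕ) : ℕ := F % 16
/-- The first class. -/
def aF (F : ℕ) : ℕ := (F >>> 16) % 65536
/-- The second class. -/
def bF (F : ℕ) : ℕ := (F >>> 32) % 65536
/-- The first element. -/
def xF (F : ℕ) : ℕ := (F >>> 128) % 2 ^ 128
/-- The second element. -/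
def yF (F : ℕ) : ℕ := (F >>> 256) % 2 ^ 128
/-- The inverse of the first element. -/
def xiF (F : ℕ) : ℕ := (F >>> 384) % 2 ^ 128
/-- An auxiliary element. -/
def sxF (F : ℕ) : ℕ := (F >>> 512) % 2 ^ 128
/-- An argument. -/
def argF (F k : ℕ) : ℕ := (F >>> (640 + 24 * k)) % 2 ^ 24

/-- The arguments `k, ..., k + m - 1`. -/
def argsF (F k : ℕ) : ℕ → List ℕ
  | 0 => []
  | m + 1 => argF F k :: argsF F (k + 1) m

/-- A fact of the first kind. -/
def isE (F : ℕ) : Bool := Nat.blt (opF F) 5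

/-- The identity code. -/
def one14 : ℕ := idk 14

/-- One step through an earlier fact. -/
def stepE (D : Dat) (F : ℕ) (s : ℕ × ℕ) : Option (ℕ × ℕ) :=
  bif isE F && Nat.beq (aF F) s.1 then
    match D.act.find (cp 14 (xiF F) s.2) with
    | some h => some (bF F, cp 14 (yF F) h)
    | none => none
  else none

/-- One step through an identification of cosets. -/
def stepK (F : ℕ) (s : ℕ × ℕ) : Option (ℕ × ℕ) :=
  bif !isE F && Nat.beq (aF F) s.1 then some (bF F, cp 14 (yF F) s.2) else none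

/-- Forward walk: tokens are earlier facts. -/
def fwd (D : Dat) (get : ℕ → ℕ) (lim : ℕ) (R : ℕ × ℕ × ℕ × ℕ × ℕ) :
    List ℕ → ℕ → ℕ × ℕ → Option (ℕ × (ℕ × ℕ))
  | [], cnt, s => some (cnt, s)
  | t :: ts, cnt, s =>
    bif Nat.blt t lim then
      bif isE (get t) then
        match stepE D (get t) s with
        | some (i, y) =>
          match cnt with
          | 0 => fwd D get lim R ts 1 (i, cp 14 y R.1)
          | 1 => fwd D get lim R ts 2 (i, cp 14 y R.2.1)
          | 2 => fwd D get lim R ts 3 (i, y)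
          | _ => none
        | none => none
      else
        match stepK (get t) s with
        | some s' => fwd D get lim R ts cnt s'
        | none => none
    else none

/-- Backward walk. -/
def bwd (D : Dat) (get : ℕ → ℕ) (lim : ℕ) (R : ℕ × ℕ × ℕ × ℕ × ℕ) :
    List ℕ → ℕ → ℕ × ℕ → Option (ℕ × (ℕ × ℕ))
  | [], cnt, s => some (cnt, s)
  | t :: ts, cnt, s =>
    bif Nat.blt t lim then
      bif isE (get t) then
        match stepE D (get t) s with
        | some (i, y) =>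
          match cnt with
          | 3 => bwd D get lim R ts 2 (i, cp 14 (cp 14 y D.cc.2) R.2.2.2.2)
          | 2 => bwd D get lim R ts 1 (i, cp 14 (cp 14 y D.cc.2) R.2.2.2.1)
          | _ => none
        | none => none
      else
        match stepK (get t) s with
        | some s' => bwd D get lim R ts cnt s'
        | none => none
    else none

/-- A chain of identifications. -/
def kwalk (get : ℕ → ℕ) (lim : ℕ) : List ℕ → ℕ × ℕ → Option (ℕ × ℕ)
  | [], s => some s
  | t :: ts, s =>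
    bif Nat.blt t lim then
      match stepK (get t) s with
      | some s' => kwalk get lim ts s'
      | none => none
    else none

/-- The two ways to read an identification. -/
def closeB (F : ℕ) (P Q : ℕ × ℕ) : Bool :=
  (Nat.beq (aF F) P.1 && Nat.beq (bF F) Q.1 && Nat.beq (cp 14 (yF F) P.2) Q.2) ||
    (Nat.beq (aF F) Q.1 && Nat.beq (bF F) P.1 && Nat.beq (cp 14 (yF F) Q.2) P.2)

/-- An inverse code is stated. -/
def invB (F : ℕ) : Bool := Nat.beq (cp 14 (xiF F) (xF F)) one14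

/-- A membership test. -/
def memB (D : Dat) (c : ℕ) : Bool :=
  ((List.range 14).all fun i => Nat.blt (ap c i) 14) && sift 14 D.chain c

/-- Fact `n` follows from earlier ones. -/
def factB (D : Dat) (get : ℕ → ℕ) (n : ℕ) : Bool :=
  let F := get n
  let g := get (argF F 0)
  let h := get (argF F 1)
  match opF F with
  | 0 => invB F && memB D (xF F) && Nat.beq (yF F) one14 && Nat.blt (bF F) D.defs.length && Nat.blt (aF F) (bF F) &&
      Nat.beq (D.defs.getD (bF F) (0, 0)).1 (aF F) && Nat.beq (D.defs.getD (bF F) (0, 0)).2 (xF F)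
  | 1 => invB F && Nat.blt (argF F 0) n && isE g && Nat.beq (aF F) (bF g) && Nat.beq (xF F) (yF g) &&
      Nat.beq (bF F) (aF g) && Nat.beq (yF F) (cp 14 (xF g) D.cc.1)
  | 2 => invB F && Nat.blt (argF F 0) n && Nat.blt (argF F 1) n && isE g && !isE h && Nat.beq (aF h) (aF g) &&
      Nat.beq (aF F) (bF h) && Nat.beq (xF F) (cp 14 (yF h) (xF g)) && Nat.beq (bF F) (bF g) && Nat.beq (yF F) (yF g)
  | 3 => invB F && Nat.blt (argF F 0) n && Nat.blt (argF F 1) n && isE g && !isE h && Nat.beq (aF h) (bF g) &&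
      Nat.beq (bF F) (bF h) && Nat.beq (yF F) (cp 14 (yF h) (yF g)) && Nat.beq (aF F) (aF g) && Nat.beq (xF F) (xF g)
  | 4 => invB F && memB D (sxF F) && Nat.blt (argF F 1) D.rels.length &&
      (let R := D.rels.getD (argF F 1) (0, 0, 0, 0, 0)
       match fwd D get n R (argsF F 4 (argF F 2)) 0 (argF F 0, sxF F),
          bwd D get n R (argsF F (4 + argF F 2) (argF F 3)) 3 (argF F 0, cp 14 (sxF F) R.2.2.1) with
       | some (k, i, x), some (k', j, y) => Nat.beq k' (k + 1) && Nat.beq (aF F) i && Nat.beq (xF F) x &&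
           Nat.beq (bF F) j && Nat.beq (yF F) y
       | _, _ => false)
  | 5 => memB D (sxF F) && Nat.blt (argF F 1) D.rels.length &&
      (let R := D.rels.getD (argF F 1) (0, 0, 0, 0, 0)
       match fwd D get n R (argsF F 4 (argF F 2)) 0 (argF F 0, sxF F),
          bwd D get n R (argsF F (4 + argF F 2) (argF F 3)) 3 (argF F 0, cp 14 (sxF F) R.2.2.1) with
       | some (k, P), some (k', Q) => Nat.beq k 3 && Nat.beq k' 3 && closeB F P Q
       | _, _ => false)
  | 6 => Nat.blt (argF F 0) n && Nat.blt (argF F 1) n && isE g && isE h && Nat.beq (aF g) (aF h) &&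
      (match D.act.find (cp 14 (xiF g) (xF h)) with
       | some c =>
         match kwalk get n (argsF F 3 (argF F 2)) (bF g, cp 14 (yF g) c) with
         | some P => closeB F P (bF h, yF h)
         | none => false
       | none => false)
  | 7 => Nat.blt (argF F 0) n && Nat.blt (argF F 1) n && !isE g && !isE h && Nat.beq (aF g) (bF g) &&
      Nat.beq (aF h) (aF g) && Nat.beq (aF F) (bF h) && Nat.beq (bF F) (bF h) &&
      Nat.beq (cp 14 (yF F) (yF h)) (cp 14 (yF h) (yF g))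
  | 8 => Nat.beq (aF F) 0 && Nat.beq (bF F) 0 && memB D (yF F)
  | _ => false

/-! ### Meaning -/

variable {P : Type*} [Group P] {U : Subgroup (Perm (Fin 14))} (ψ : ↥U →* P)

/-- A code stands for an element of the subgroup. -/
def Cd (c : ℕ) (p : P) : Prop := ∃ u : U, Rep 14 c (u : Perm (Fin 14)) ∧ ψ u = p

variable {ψ}

theorem Cd.mul {c d : ℕ} {p q : P} (hp : Cd ψ c p) (hq : Cd ψ d q) : Cd ψ (cp 14 c d) (p * q) := by
  obtain ⟨u, hu, rfl⟩ := hp
  obtain ⟨v, hv, rfl⟩ := hq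
  exact ⟨u * v, hu.comp hv, map_mul ψ u v⟩

theorem Cd.unique {c : ℕ} {p q : P} (hp : Cd ψ c p) (hq : Cd ψ c q) : p = q := by
  obtain ⟨u, hu, rfl⟩ := hp
  obtain ⟨v, hv, rfl⟩ := hq
  rw [show u = v from Subtype.ext (hu.unique hv)]

theorem Cd.one : Cd ψ one14 1 := ⟨1, rep_id (by norm_num), map_one ψ⟩

theorem Cd.of_left {c d e : ℕ} {p q : P} (hp : Cd ψ c p) (hq : Cd ψ d q) (h : Nat.beq (cp 14 e c) d = true) :
    Cd ψ e (q * p⁻¹) := by
  obtain ⟨u, hu, rfl⟩ := hp
  obtain ⟨v, hv, rfl⟩ := hq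
  refine ⟨v * u⁻¹, fun i => ?_, by rw [map_mul, map_inv]⟩
  have h' := Nat.eq_of_beq_eq_true h
  have hd := hv ((u : Perm (Fin 14))⁻¹ i)
  rw [← h', cp, (pk_spec (fun i => ap e (ap c i)) (fun _ => Nat.mod_lt _ (by norm_num)) 14).2 _ (Fin.is_lt _),
    hu] at hd
  simpa using hd

theorem Cd.inv {c e : ℕ} {p : P} (hp : Cd ψ c p) (h : Nat.beq (cp 14 e c) one14 = true) : Cd ψ e p⁻¹ := by
  simpa using hp.of_left Cd.one h

/-- The hypotheses on the element. -/
structure Sys (D : Dat) (ψ : ↥U →* P) (n : P) : Prop where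
  mem : ∀ c, memB D c = true → ∃ p, Cd ψ c p
  conj : ∀ q ∈ D.act.pairs, ∃ A H, Cd ψ q.1 A ∧ Cd ψ q.2 H ∧ n * H * n⁻¹ = A
  sq : Cd ψ D.cc.1 (n * n) ∧ Cd ψ D.cc.2 (n * n)⁻¹
  rel : ∀ R ∈ D.rels, ∃ A B, Cd ψ R.1 A ∧ Cd ψ R.2.1 B ∧ Cd ψ R.2.2.1 (n * A * n * B * n) ∧
    Cd ψ R.2.2.2.1 A⁻¹ ∧ Cd ψ R.2.2.2.2 B⁻¹

open Classical in
/-- The element of a code. -/
noncomputable def ev (ψ : ↥U →* P) (c : ℕ) : P := if h : ∃ p, Cd ψ c p then h.choose else 1

theorem ev_eq {c : ℕ} {p : P} (h : Cd ψ c p) : ev ψ c = p := by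
  rw [ev, dif_pos ⟨p, h⟩]
  exact (Exists.choose_spec (⟨p, h⟩ : ∃ p, Cd ψ c p)).unique h

/-- The representatives of the classes. -/
noncomputable def wrep (D : Dat) (ψ : ↥U →* P) (n : P) : ℕ → P := fun k =>
  if k = 0 then 1
  else if _h : (D.defs.getD k (0, 0)).1 < k then
    wrep D ψ n (D.defs.getD k (0, 0)).1 * ev ψ (D.defs.getD k (0, 0)).2 * n
  else 1
termination_by k => k

variable {D : Dat} {n : P}

/-- Two positions name the same coset. -/
def Same (D : Dat) (ψ : ↥U →* P) (n : P) (i : ℕ) (p : P) (j : ℕ) (q : P) : Prop :=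
  ∃ u : U, wrep D ψ n i * p = ψ u * (wrep D ψ n j * q)

theorem Same.refl (i : ℕ) (p : P) : Same D ψ n i p i p := ⟨1, by rw [map_one, one_mul]⟩

theorem Same.symm {i j : ℕ} {p q : P} (h : Same D ψ n i p j q) : Same D ψ n j q i p := by
  obtain ⟨u, hu⟩ := h
  exact ⟨u⁻¹, by rw [map_inv, hu, inv_mul_cancel_left]⟩

theorem Same.trans {i j k : ℕ} {p q r : P} (h : Same D ψ n i p j q) (h' : Same D ψ n j q k r) :
    Same D ψ n i p k r := by
  obtain ⟨u, hu⟩ := h
  obtain ⟨v, hv⟩ := h'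
  exact ⟨u * v, by rw [map_mul, hu, hv, mul_assoc]⟩

theorem Same.right {i j : ℕ} {p q : P} (h : Same D ψ n i p j q) (s : P) : Same D ψ n i (p * s) j (q * s) := by
  obtain ⟨u, hu⟩ := h
  exact ⟨u, by rw [← mul_assoc, hu, mul_assoc, mul_assoc]⟩

/-- The meaning of a fact of the first kind. -/
def EdgeOK (D : Dat) (ψ : ↥U →* P) (n : P) (F : ℕ) : Prop :=
  ∃ X Y, Cd ψ (xF F) X ∧ Cd ψ (xiF F) X⁻¹ ∧ Cd ψ (yF F) Y ∧ Same D ψ n (aF F) (X * n) (bF F) Y

/-- The meaning of a fact of the second kind. -/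
def IdOK (D : Dat) (ψ : ↥U →* P) (n : P) (F : ℕ) : Prop :=
  ∃ E, Cd ψ (yF F) E ∧ Same D ψ n (aF F) 1 (bF F) E

/-- The meaning of a fact. -/
def Good (D : Dat) (ψ : ↥U →* P) (n : P) (F : ℕ) : Prop :=
  (isE F = true → EdgeOK D ψ n F) ∧ (isE F = false → IdOK D ψ n F)

theorem stepE_sound (S : Sys D ψ n) {F : ℕ} (hF : Good D ψ n F) {i : ℕ} {x : ℕ} {X : P} (hx : Cd ψ x X)
    {j y : ℕ} (h : stepE D F (i, x) = some (j, y)) : ∃ Y, Cd ψ y Y ∧ Same D ψ n i (X * n) j Y := by
  simp only [stepE] at h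
  cases hb : isE F && Nat.beq (aF F) i
  · rw [hb] at h; simp at h
  rw [hb] at h
  simp only [Bool.and_eq_true] at hb
  simp only [cond_true] at h
  obtain ⟨Xf, Yf, hXf, hXi, hYf, hs⟩ := hF.1 hb.1
  cases hc : D.act.find (cp 14 (xiF F) x) with
  | none => rw [hc] at h; simp at h
  | some c =>
    rw [hc] at h
    simp only [Option.some.injEq, Prod.mk.injEq] at h
    obtain ⟨A, H, hA, hH, hn⟩ := S.conj _ (CTree.find_mem hc)
    have eA : A = Xf⁻¹ * X := hA.unique (hXi.mul hx)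
    refine ⟨Yf * H, h.2 ▸ hYf.mul hH, ?_⟩
    have h2 := hs.right H
    rw [Nat.eq_of_beq_eq_true hb.2, h.1] at h2
    rwa [show X * n = Xf * n * H by rw [show X = Xf * A by rw [eA]; group, ← hn]; group]

theorem stepK_sound {F : ℕ} (hF : Good D ψ n F) {i : ℕ} {x : ℕ} {X : P} (hx : Cd ψ x X)
    {j y : ℕ} (h : stepK F (i, x) = some (j, y)) : ∃ Y, Cd ψ y Y ∧ Same D ψ n i X j Y := by
  simp only [stepK] at h
  cases hb : !isE F && Nat.beq (aF F) i
  · rw [hb] at h; simp at h
  rw [hb] at h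
  simp only [Bool.and_eq_true, Bool.not_eq_true'] at hb
  simp only [cond_true, Option.some.injEq, Prod.mk.injEq] at h
  obtain ⟨E, hE, hs⟩ := hF.2 hb.1
  refine ⟨E * X, h.2 ▸ hE.mul hx, ?_⟩
  have h2 := hs.right X
  rwa [Nat.eq_of_beq_eq_true hb.2, h.1, one_mul] at h2

/-- The head of the relation after `k` steps. -/
def headR (n A B : P) : ℕ → P
  | 0 => 1
  | 1 => n * A
  | 2 => n * A * n * B
  | _ => n * A * n * B * n

/-- The tail of the relation before step `k`. -/
def tailR (n A B : P) : ℕ → P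
  | 1 => A * n * B * n
  | 2 => B * n
  | _ => 1

theorem fwd_sound (S : Sys D ψ n) {get : ℕ → ℕ} {lim : ℕ} (IH : ∀ t < lim, Good D ψ n (get t))
    {R : ℕ × ℕ × ℕ × ℕ × ℕ} {A B : P} (hA : Cd ψ R.1 A) (hB : Cd ψ R.2.1 B) {i0 : ℕ} {X0 : P} :
    ∀ (ts : List ℕ) (c i x : ℕ) (X : P), Cd ψ x X → Same D ψ n i0 (X0 * headR n A B c) i X → c ≤ 3 →
      ∀ k j y, fwd D get lim R ts c (i, x) = some (k, j, y) →
        k ≤ 3 ∧ ∃ Y, Cd ψ y Y ∧ Same D ψ n i0 (X0 * headR n A B k) j Y := by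
  intro ts
  induction ts with
  | nil =>
    intro c i x X hx hs hc k j y h
    simp only [fwd, Option.some.injEq, Prod.mk.injEq] at h
    obtain ⟨rfl, rfl, rfl⟩ := h
    exact ⟨hc, X, hx, hs⟩
  | cons t ts ih =>
    intro c i x X hx hs hc k j y h
    simp only [fwd] at h
    cases hl : Nat.blt t lim
    · rw [hl] at h; simp at h
    rw [hl] at h
    simp only [cond_true] at h
    have hG := IH t (by simpa [Nat.blt_eq] using hl)
    cases hE : isE (get t)
    · rw [hE] at h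
      simp only [cond_false] at h
      cases hst : stepK (get t) (i, x) with
      | none => rw [hst] at h; simp at h
      | some s' =>
        obtain ⟨i', x'⟩ := s'
        rw [hst] at h
        obtain ⟨X', hx', hs'⟩ := stepK_sound hG hx hst
        exact ih c i' x' X' hx' (hs.trans hs') hc k j y h
    · rw [hE] at h
      simp only [cond_true] at h
      cases hst : stepE D (get t) (i, x) with
      | none => rw [hst] at h; simp at h
      | some s' =>
        obtain ⟨i', x'⟩ := s'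
        rw [hst] at h
        obtain ⟨X', hx', hs'⟩ := stepE_sound S hG hx hst
        have base := (hs.right n).trans hs'
        match c, hc with
        | 0, _ =>
          refine ih 1 i' _ (X' * A) (hx'.mul hA) ?_ (by norm_num) k j y h
          simpa [headR, mul_assoc] using base.right A
        | 1, _ =>
          refine ih 2 i' _ (X' * B) (hx'.mul hB) ?_ (by norm_num) k j y h
          simpa [headR, mul_assoc] using base.right B
        | 2, _ =>
          refine ih 3 i' x' X' hx' ?_ le_rfl k j y h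
          simpa [headR, mul_assoc] using base
        | 3, _ => simp at h

theorem bwd_sound (S : Sys D ψ n) {get : ℕ → ℕ} {lim : ℕ} (IH : ∀ t < lim, Good D ψ n (get t))
    {R : ℕ × ℕ × ℕ × ℕ × ℕ} {A B : P} (hA : Cd ψ R.2.2.2.1 A⁻¹) (hB : Cd ψ R.2.2.2.2 B⁻¹) {i0 : ℕ} {X0 : P} :
    ∀ (ts : List ℕ) (c i x : ℕ) (X : P), Cd ψ x X → Same D ψ n i0 X0 i (X * tailR n A B c) → 1 ≤ c → c ≤ 3 →
      ∀ k j y, bwd D get lim R ts c (i, x) = some (k, j, y) →
        1 ≤ k ∧ k ≤ 3 ∧ ∃ Y, Cd ψ y Y ∧ Same D ψ n i0 X0 j (Y * tailR n A B k) := by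
  intro ts
  induction ts with
  | nil =>
    intro c i x X hx hs hc1 hc k j y h
    simp only [bwd, Option.some.injEq, Prod.mk.injEq] at h
    obtain ⟨rfl, rfl, rfl⟩ := h
    exact ⟨hc1, hc, X, hx, hs⟩
  | cons t ts ih =>
    intro c i x X hx hs hc1 hc k j y h
    simp only [bwd] at h
    cases hl : Nat.blt t lim
    · rw [hl] at h; simp at h
    rw [hl] at h
    simp only [cond_true] at h
    have hG := IH t (by simpa [Nat.blt_eq] using hl)
    cases hE : isE (get t)
    · rw [hE] at h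
      simp only [cond_false] at h
      cases hst : stepK (get t) (i, x) with
      | none => rw [hst] at h; simp at h
      | some s' =>
        obtain ⟨i', x'⟩ := s'
        rw [hst] at h
        obtain ⟨X', hx', hs'⟩ := stepK_sound hG hx hst
        exact ih c i' x' X' hx' (hs.trans (hs'.right _)) hc1 hc k j y h
    · rw [hE] at h
      simp only [cond_true] at h
      cases hst : stepE D (get t) (i, x) with
      | none => rw [hst] at h; simp at h
      | some s' =>
        obtain ⟨i', x'⟩ := s'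
        rw [hst] at h
        obtain ⟨X', hx', hs'⟩ := stepE_sound S hG hx hst
        -- `X = X' n⁻¹`
        have back : Same D ψ n i X i' (X' * (n * n)⁻¹ * n) := by
          have := hs'.right n⁻¹
          rw [mul_inv_cancel_right] at this
          rwa [show X' * (n * n)⁻¹ * n = X' * n⁻¹ by group]
        match c, hc1, hc with
        | 3, _, _ =>
          refine ih 2 i' _ (X' * (n * n)⁻¹ * B⁻¹) ((hx'.mul S.sq.2).mul hB) ?_ (by norm_num) (by norm_num) k j y h
          refine hs.trans ?_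
          simpa [tailR, mul_assoc] using back
        | 2, _, _ =>
          refine ih 1 i' _ (X' * (n * n)⁻¹ * A⁻¹) ((hx'.mul S.sq.2).mul hA) ?_ le_rfl (by norm_num) k j y h
          refine hs.trans ?_
          simpa [tailR, mul_assoc] using back.right (B * n)
        | 1, _, _ => simp at h

theorem kwalk_sound {get : ℕ → ℕ} {lim : ℕ} (IH : ∀ t < lim, Good D ψ n (get t)) :
    ∀ (ts : List ℕ) (i x : ℕ) (X : P), Cd ψ x X → ∀ j y, kwalk get lim ts (i, x) = some (j, y) →
      ∃ Y, Cd ψ y Y ∧ Same D ψ n i X j Y := by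
  intro ts
  induction ts with
  | nil =>
    intro i x X hx j y h
    simp only [kwalk, Option.some.injEq, Prod.mk.injEq] at h
    obtain ⟨rfl, rfl⟩ := h
    exact ⟨X, hx, Same.refl _ _⟩
  | cons t ts ih =>
    intro i x X hx j y h
    simp only [kwalk] at h
    cases hl : Nat.blt t lim
    · rw [hl] at h; simp at h
    rw [hl] at h
    simp only [cond_true] at h
    cases hst : stepK (get t) (i, x) with
    | none => rw [hst] at h; simp at h
    | some s' =>
      obtain ⟨i', x'⟩ := s'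
      rw [hst] at h
      obtain ⟨X', hx', hs'⟩ := stepK_sound (IH t (by simpa [Nat.blt_eq] using hl)) hx hst
      obtain ⟨Y, hy, hs⟩ := ih i' x' X' hx' j y h
      exact ⟨Y, hy, hs'.trans hs⟩

theorem closeB_sound {F i p j q : ℕ} {X Y : P} (hX : Cd ψ p X) (hY : Cd ψ q Y) (hs : Same D ψ n i X j Y)
    (h : closeB F (i, p) (j, q) = true) : IdOK D ψ n F := by
  simp only [closeB, Bool.or_eq_true, Bool.and_eq_true] at h
  rcases h with ⟨⟨ha, hb⟩, he⟩ | ⟨⟨ha, hb⟩, he⟩
  · refine ⟨Y * X⁻¹, hX.of_left hY he, ?_⟩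
    rw [Nat.eq_of_beq_eq_true ha, Nat.eq_of_beq_eq_true hb]
    have := hs.right X⁻¹
    rwa [mul_inv_cancel] at this
  · refine ⟨X * Y⁻¹, hY.of_left hX he, ?_⟩
    rw [Nat.eq_of_beq_eq_true ha, Nat.eq_of_beq_eq_true hb]
    have := hs.symm.right Y⁻¹
    rwa [mul_inv_cancel] at this

/-- A checked fact is true when the earlier ones are. -/
theorem fact_sound (S : Sys D ψ n) {get : ℕ → ℕ} {m : ℕ} (h : factB D get m = true)
    (IH : ∀ t < m, Good D ψ n (get t)) : Good D ψ n (get m) := by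
  simp only [factB] at h
  set F := get m with hFdef
  have hnE : ∀ {k}, opF F = k → 5 ≤ k → isE F = false := fun {k} e hk => by
    simp only [isE, e, ← Bool.not_eq_true, Nat.blt_eq]; omega
  have hE' : ∀ {k}, opF F = k → k < 5 → isE F = true := fun {k} e hk => by
    simp only [isE, e, Nat.blt_eq]; omega
  have mkE : ∀ {k}, opF F = k → k < 5 → EdgeOK D ψ n F → Good D ψ n F := fun e hk hh =>
    ⟨fun _ => hh, fun hf => by rw [hE' e hk] at hf; exact absurd hf (by decide)⟩
  have mkK : ∀ {k}, opF F = k → 5 ≤ k → IdOK D ψ n F → Good D ψ n F := fun e hk hh =>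
    ⟨fun hf => by rw [hnE e hk] at hf; exact absurd hf (by decide), fun _ => hh⟩
  have scanrel : ∀ {r : ℕ}, Nat.blt r D.rels.length = true →
      D.rels.getD r (0, 0, 0, 0, 0) ∈ D.rels := fun {r} hr => by
    rw [Nat.blt_eq] at hr
    rw [List.getD_eq_getElem _ _ hr]; exact List.getElem_mem _
  split at h
  · rename_i hop
    simp only [Bool.and_eq_true] at h
    obtain ⟨⟨⟨⟨⟨⟨hi, hm⟩, hy⟩, hbl⟩, hab⟩, h1⟩, h2⟩ := h
    obtain ⟨X, hX⟩ := S.mem _ hm
    refine mkE hop (by norm_num) ⟨X, 1, hX, hX.inv hi, (Nat.eq_of_beq_eq_true hy).symm ▸ Cd.one, 1, ?_⟩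
    rw [Nat.blt_eq] at hab
    conv_rhs => rw [wrep, if_neg (by omega : bF F ≠ 0), dif_pos (by rw [Nat.eq_of_beq_eq_true h1]; exact hab),
      Nat.eq_of_beq_eq_true h1, Nat.eq_of_beq_eq_true h2, ev_eq hX]
    rw [map_one, one_mul, mul_one, mul_assoc]
  · rename_i hop
    simp only [Bool.and_eq_true] at h
    obtain ⟨⟨⟨⟨⟨⟨hi, hlt⟩, hg⟩, e1⟩, e2⟩, e3⟩, e4⟩ := h
    obtain ⟨X, Y, hX, -, hY, hs⟩ := (IH _ (Nat.blt_eq.mp hlt)).1 hg
    refine mkE hop (by norm_num) ⟨Y, X * (n * n), (Nat.eq_of_beq_eq_true e2).symm ▸ hY,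
      ((Nat.eq_of_beq_eq_true e2).symm ▸ hY : Cd ψ (xF F) Y).inv hi,
      (Nat.eq_of_beq_eq_true e4).symm ▸ hX.mul S.sq.1, ?_⟩
    rw [Nat.eq_of_beq_eq_true e1, Nat.eq_of_beq_eq_true e3]
    simpa [mul_assoc] using hs.symm.right n
  · rename_i hop
    simp only [Bool.and_eq_true, Bool.not_eq_true'] at h
    obtain ⟨⟨⟨⟨⟨⟨⟨⟨⟨hi, hl0⟩, hl1⟩, hg⟩, hh⟩, e0⟩, e1⟩, e2⟩, e3⟩, e4⟩ := h
    obtain ⟨X, Y, hX, -, hY, hs⟩ := (IH _ (Nat.blt_eq.mp hl0)).1 hg
    obtain ⟨E, hE, hk⟩ := (IH _ (Nat.blt_eq.mp hl1)).2 hh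
    have hXF : Cd ψ (xF F) (E * X) := (Nat.eq_of_beq_eq_true e2).symm ▸ hE.mul hX
    refine mkE hop (by norm_num) ⟨E * X, Y, hXF, hXF.inv hi, (Nat.eq_of_beq_eq_true e4).symm ▸ hY, ?_⟩
    rw [Nat.eq_of_beq_eq_true e1, Nat.eq_of_beq_eq_true e3]
    have h2 := hk.right (X * n)
    rw [Nat.eq_of_beq_eq_true e0, one_mul] at h2
    simpa [mul_assoc] using h2.symm.trans hs
  · rename_i hop
    simp only [Bool.and_eq_true, Bool.not_eq_true'] at h
    obtain ⟨⟨⟨⟨⟨⟨⟨⟨⟨hi, hl0⟩, hl1⟩, hg⟩, hh⟩, e0⟩, e1⟩, e2⟩, e3⟩, e4⟩ := h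
    obtain ⟨X, Y, hX, -, hY, hs⟩ := (IH _ (Nat.blt_eq.mp hl0)).1 hg
    obtain ⟨E, hE, hk⟩ := (IH _ (Nat.blt_eq.mp hl1)).2 hh
    have hXF : Cd ψ (xF F) X := (Nat.eq_of_beq_eq_true e4).symm ▸ hX
    refine mkE hop (by norm_num) ⟨X, E * Y, hXF, hXF.inv hi, (Nat.eq_of_beq_eq_true e2).symm ▸ hE.mul hY, ?_⟩
    rw [Nat.eq_of_beq_eq_true e3, Nat.eq_of_beq_eq_true e1]
    have h2 := hk.right Y
    rw [Nat.eq_of_beq_eq_true e0, one_mul] at h2
    exact hs.trans h2
  · rename_i hop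
    simp only [Bool.and_eq_true] at h
    obtain ⟨⟨⟨hi, hm⟩, hr⟩, h⟩ := h
    obtain ⟨X0, hX0⟩ := S.mem _ hm
    obtain ⟨A, B, hA, hB, hEr, hAi, hBi⟩ := S.rel _ (scanrel hr)
    split at h
    · rename_i k i x k' j y hf hb
      simp only [Bool.and_eq_true] at h
      obtain ⟨⟨⟨⟨hk, e1⟩, e2⟩, e3⟩, e4⟩ := h
      obtain ⟨-, X, hX, hsf⟩ := fwd_sound S IH hA hB _ 0 _ _ X0 hX0
        (by simpa [headR] using Same.refl (D := D) (ψ := ψ) (n := n) (argF F 0) X0) (by norm_num) _ _ _ hf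
      obtain ⟨h1, h3, Y, hY, hsb⟩ := bwd_sound S IH hAi hBi _ 3 _ _ _ (hX0.mul hEr)
        (by simpa [tailR] using Same.refl (D := D) (ψ := ψ) (n := n) (argF F 0) (X0 * (n * A * n * B * n)))
        (by norm_num) le_rfl _ _ _ hb
      have hXF : Cd ψ (xF F) X := (Nat.eq_of_beq_eq_true e2).symm ▸ hX
      refine mkE hop (by norm_num) ⟨X, Y, hXF, hXF.inv hi, (Nat.eq_of_beq_eq_true e4).symm ▸ hY, ?_⟩
      rw [Nat.eq_of_beq_eq_true e1, Nat.eq_of_beq_eq_true e3]
      obtain rfl := Nat.eq_of_beq_eq_true hk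
      have hk2 : k ≤ 2 := by omega
      have key : headR n A B k * n * tailR n A B (k + 1) = n * A * n * B * n := by
        interval_cases k <;> simp [headR, tailR, mul_assoc]
      rw [← key, show X0 * (headR n A B k * n * tailR n A B (k + 1)) =
        X0 * headR n A B k * (n * tailR n A B (k + 1)) by group] at hsb
      have h4 := (hsf.symm.right (n * tailR n A B (k + 1))).trans hsb
      have h5 := h4.right (tailR n A B (k + 1))⁻¹
      rwa [← mul_assoc, mul_inv_cancel_right, mul_inv_cancel_right] at h5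
    · simp at h
  · rename_i hop
    simp only [Bool.and_eq_true] at h
    obtain ⟨⟨hm, hr⟩, h⟩ := h
    obtain ⟨X0, hX0⟩ := S.mem _ hm
    obtain ⟨A, B, hA, hB, hEr, hAi, hBi⟩ := S.rel _ (scanrel hr)
    split at h
    · rename_i k P1 k' Q1 hf hb
      obtain ⟨i, x⟩ := P1
      obtain ⟨j, y⟩ := Q1
      simp only [Bool.and_eq_true] at h
      obtain ⟨⟨hk, hk'⟩, hc⟩ := h
      obtain ⟨-, X, hX, hsf⟩ := fwd_sound S IH hA hB _ 0 _ _ X0 hX0
        (by simpa [headR] using Same.refl (D := D) (ψ := ψ) (n := n) (argF F 0) X0) (by norm_num) _ _ _ hf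
      obtain ⟨-, -, Y, hY, hsb⟩ := bwd_sound S IH hAi hBi _ 3 _ _ _ (hX0.mul hEr)
        (by simpa [tailR] using Same.refl (D := D) (ψ := ψ) (n := n) (argF F 0) (X0 * (n * A * n * B * n)))
        (by norm_num) le_rfl _ _ _ hb
      rw [Nat.eq_of_beq_eq_true hk] at hsf
      rw [Nat.eq_of_beq_eq_true hk'] at hsb
      refine mkK hop le_rfl (closeB_sound hX hY ?_ hc)
      simp only [headR, tailR, mul_one] at hsf hsb
      exact hsf.symm.trans hsb
    · simp at h
  · rename_i hop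
    simp only [Bool.and_eq_true] at h
    obtain ⟨⟨⟨⟨⟨hl0, hl1⟩, hg⟩, hh⟩, e0⟩, h⟩ := h
    obtain ⟨X, Y, -, hXi, hY, hs⟩ := (IH _ (Nat.blt_eq.mp hl0)).1 hg
    obtain ⟨X', Y', hX', -, hY', hs'⟩ := (IH _ (Nat.blt_eq.mp hl1)).1 hh
    split at h
    · rename_i c hc
      obtain ⟨A, H, hA, hH, hn⟩ := S.conj _ (CTree.find_mem hc)
      have eA : A = X⁻¹ * X' := hA.unique (hXi.mul hX')
      split at h
      · rename_i P1 hk
        obtain ⟨i, p⟩ := P1
        obtain ⟨Z, hZ, hsz⟩ := kwalk_sound IH _ _ _ (Y * H) (hY.mul hH) _ _ hk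
        refine mkK hop (by norm_num) (closeB_sound hZ hY' ?_ h)
        have h1 := hs.right H
        rw [show X * n * H = X' * n by rw [show X' = X * A by rw [eA]; group, ← hn]; group,
          Nat.eq_of_beq_eq_true e0] at h1
        exact hsz.symm.trans (h1.symm.trans hs')
      · simp at h
    · simp at h
  · rename_i hop
    simp only [Bool.and_eq_true, Bool.not_eq_true'] at h
    obtain ⟨⟨⟨⟨⟨⟨⟨⟨hl0, hl1⟩, hg⟩, hh⟩, e0⟩, e1⟩, e2⟩, e3⟩, e4⟩ := h
    obtain ⟨s, hs, hss⟩ := (IH _ (Nat.blt_eq.mp hl0)).2 hg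
    obtain ⟨E, hE, hke⟩ := (IH _ (Nat.blt_eq.mp hl1)).2 hh
    refine mkK hop (by norm_num) ⟨E * s * E⁻¹, hE.of_left (hE.mul hs) e4, ?_⟩
    rw [Nat.eq_of_beq_eq_true e2, Nat.eq_of_beq_eq_true e3]
    rw [Nat.eq_of_beq_eq_true e1, Nat.eq_of_beq_eq_true e0] at hke
    rw [Nat.eq_of_beq_eq_true e0] at hss
    -- `w_b = w_a E⁻¹ = w_a s E⁻¹ = w_b E s E⁻¹`
    have h1 := (hke.right E⁻¹).symm
    rw [mul_inv_cancel, one_mul] at h1
    have h2 := hss.right E⁻¹
    have h3 := hke.right (s * E⁻¹)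
    rw [one_mul] at h2 h3
    simpa [mul_assoc] using h1.trans (h2.trans h3)
  · rename_i hop
    simp only [Bool.and_eq_true] at h
    obtain ⟨⟨e1, e2⟩, hm⟩ := h
    obtain ⟨Y, hY⟩ := S.mem _ hm
    refine mkK hop (by norm_num) ⟨Y, hY, ?_⟩
    obtain ⟨u, -, hu⟩ := id hY
    rw [Nat.eq_of_beq_eq_true e1, Nat.eq_of_beq_eq_true e2]
    refine ⟨u⁻¹, ?_⟩
    rw [wrep, if_pos rfl, one_mul, one_mul, map_inv, hu, inv_mul_cancel]
  · simp at h

/-- All facts below the bound are true. -/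
theorem all_good (S : Sys D ψ n) {get : ℕ → ℕ} {N : ℕ} (h : ∀ m < N, factB D get m = true) :
    ∀ m < N, Good D ψ n (get m) := by
  intro m
  induction m using Nat.strong_induction_on with
  | _ m ih => intro hm; exact fact_sound S (h m hm) fun t ht => ih t ht (ht.trans hm)

/-- The first class meets the subgroup: the element lies in it. -/
theorem mem_of_collapse {get : ℕ → ℕ} {F d : ℕ} (hF : Good D ψ n (get F)) (hd : Good D ψ n (get d))
    (h : (!isE (get F) && isE (get d) && Nat.beq (opF (get d)) 0 && Nat.beq (aF (get d)) 0 &&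
      Nat.beq (bF (get d)) (aF (get F)) && Nat.beq (bF (get F)) 0) = true) : n ∈ ψ.range := by
  simp only [Bool.and_eq_true, Bool.not_eq_true'] at h
  obtain ⟨⟨⟨⟨⟨hk, he⟩, -⟩, e1⟩, e2⟩, e3⟩ := h
  obtain ⟨X, Y, hX, -, hY, hs⟩ := hd.1 he
  obtain ⟨E, hE, hse⟩ := hF.2 hk
  rw [Nat.eq_of_beq_eq_true e3] at hse
  rw [Nat.eq_of_beq_eq_true e1, Nat.eq_of_beq_eq_true e2] at hs
  have h2 := hse.right Y
  rw [one_mul] at h2
  obtain ⟨u, hu⟩ := hs.trans h2
  rw [wrep, if_pos rfl, one_mul, one_mul] at hu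
  obtain ⟨x, -, rfl⟩ := id hX
  obtain ⟨y, -, rfl⟩ := id hY
  obtain ⟨e, -, rfl⟩ := id hE
  refine ⟨x⁻¹ * (u * (e * y)), ?_⟩
  rw [map_mul, map_inv, map_mul, map_mul, ← hu, inv_mul_cancel_left]

end CfsgLib.Co3M12.Eng
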