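/-
A closed double coset table bounds the order of the group.
-/
import Cfsg.Agent.Lib.Co3M12.Engine

set_option autoImplicit false
set_option linter.unusedSectionVars false

namespace CfsgLib.Co3M12.Eng

open Equiv Subgroup CfsgPC

/-- The left cosets of the common part cover the subgroup: `nxt` gives the coset of each product. -/
def coverB (D : Dat) (gens : List ℕ) (reps : List (ℕ × ℕ)) (nxt : List ℕ) : Bool :=
  Nat.beq (reps.getD 0 (0, 0)).1 one14 &&
    (List.range reps.length).all fun p => memB D (reps.getD p (0, 0)).1 &&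
      Nat.beq (cp 14 (reps.getD p (0, 0)).2 (reps.getD p (0, 0)).1) one14 &&
      (List.range gens.length).all fun g =>
        let q := nxt.getD (p * gens.length + g) 0
        Nat.blt q reps.length &&
          (D.act.find (cp 14 (reps.getD q (0, 0)).2 (cp 14 (gens.getD g 0) (reps.getD p (0, 0)).1))).isSome

/-- Every class has a fact for every coset. -/
def closedB (D : Dat) (get : ℕ → ℕ) (N : ℕ) (clo : ℕ → ℕ → ℕ) (reps : List (ℕ × ℕ)) (M : ℕ) (i : ℕ) : Bool :=
  (List.range reps.length).all fun p =>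
    let F := get (clo i p)
    Nat.blt (clo i p) M && isE F && Nat.beq (aF F) i && Nat.blt (bF F) N &&
      (D.act.find (cp 14 (xiF F) (reps.getD p (0, 0)).1)).isSome

/-- A list of distinct elements fixing a class: code, parent, fact. -/
def stabB (get : ℕ → ℕ) (M : ℕ) (i : ℕ) (els : List (ℕ × ℕ × ℕ)) : Bool :=
  Nat.beq (els.getD 0 (0, 0, 0)).1 one14 && Nat.blt 0 els.length &&
    (List.range els.length).all fun k =>
      let e := els.getD k (0, 0, 0)
      ((List.range k).all fun j => !Nat.beq (els.getD j (0, 0, 0)).1 e.1) &&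
        (Nat.beq k 0 || (Nat.blt e.2.1 k && Nat.blt e.2.2 M && !isE (get e.2.2) && Nat.beq (aF (get e.2.2)) i &&
          Nat.beq (bF (get e.2.2)) i && Nat.beq e.1 (cp 14 (els.getD e.2.1 (0, 0, 0)).1 (yF (get e.2.2)))))

/-- The share of a class. -/
def share (m : ℕ) (els : List (List (ℕ × ℕ × ℕ))) (i : ℕ) : ℕ :=
  bif Nat.beq i 0 then 1 else m / (els.getD i []).length

/-- The bound. -/
def boundB (m : ℕ) (els : List (List (ℕ × ℕ × ℕ))) (B : ℕ) : Bool :=
  ((List.range els.length).all fun i => Nat.beq i 0 || Nat.beq ((els.getD i []).length * share m els i) m) &&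
    Nat.ble ((List.range els.length).map (share m els)).sum B

/-- Canonical codes are equal when the permutations are. -/
def canonB (c : ℕ) : Bool := Nat.beq (cp 14 one14 c) c

theorem canon_eq {c d : ℕ} {g : Perm (Fin 14)} (hc : canonB c = true) (hd : canonB d = true) (h : Rep 14 c g)
    (h' : Rep 14 d g) : c = d := by
  rw [← Nat.eq_of_beq_eq_true hc, ← Nat.eq_of_beq_eq_true hd, cp, cp]
  have key : ∀ k ≤ 14, pk (fun i => ap one14 (ap c i)) k = pk (fun i => ap one14 (ap d i)) k := by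
    intro k
    induction k with
    | zero => intro; rfl
    | succ k ih =>
      intro hk
      rw [pk, pk, ih (by omega), h ⟨k, by omega⟩, h' ⟨k, by omega⟩]
  exact key 14 le_rfl

variable {P : Type*} [Group P] {U : Subgroup (Perm (Fin 14))} {ψ : ↥U →* P} {D : Dat} {n : P}

/-- The elements of the subgroup carried into it by `n`. -/
def common (ψ : ↥U →* P) (n : P) : Subgroup P := ψ.range ⊓ ψ.range.map (MulAut.conj n).toMonoidHom

theorem common_of_find (S : Sys D ψ n) {c : ℕ} {C : P} (hC : Cd ψ c C) (h : (D.act.find c).isSome = true) :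
    C ∈ common ψ n := by
  obtain ⟨v, hv⟩ := Option.isSome_iff_exists.mp h
  obtain ⟨A, H, hA, hH, e⟩ := S.conj _ (CTree.find_mem hv)
  refine ⟨?_, ?_⟩
  · obtain ⟨u, -, rfl⟩ := hC
    exact ⟨u, rfl⟩
  · obtain ⟨u, -, rfl⟩ := id hH
    exact ⟨ψ u, ⟨u, rfl⟩, by simp [MulAut.conj_apply, e, hA.unique hC]⟩

theorem cover_sound (S : Sys D ψ n) {gens : List ℕ} (hU : U = genG 14 gens) (hgi : ∀ c ∈ gens, ∀ g, Rep 14 c g →
      ∃ c' ∈ gens, Rep 14 c' g⁻¹) {reps : List (ℕ × ℕ)} {nxt : List ℕ} (h : coverB D gens reps nxt = true) :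
    ∀ X ∈ ψ.range, ∃ p < reps.length, ∃ R, Cd ψ (reps.getD p (0, 0)).1 R ∧ R⁻¹ * X ∈ common ψ n := by
  simp only [coverB, Bool.and_eq_true, List.all_eq_true, List.mem_range, Nat.blt_eq] at h
  obtain ⟨h0, hall⟩ := h
  have hlen : 0 < reps.length := by
    by_contra hl
    rw [not_lt, Nat.le_zero] at hl
    have : reps = [] := List.length_eq_zero_iff.mp hl
    subst this
    exact Bool.noConfusion ((show Nat.beq 0 one14 = false by decide +kernel).symm.trans h0)
  rintro _ ⟨u, rfl⟩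
  obtain ⟨g, hg⟩ := u
  have hg' : g ∈ genG 14 gens := hU ▸ hg
  have hgen : ∀ c ∈ gens, ∀ x : Perm (Fin 14), Rep 14 c x → x ∈ U := fun c hc x hx => hU ▸ Valid.mem hc hx
  suffices H : g ∈ genG 14 gens → ∃ hm : g ∈ U, ∃ p < reps.length, ∃ R, Cd ψ (reps.getD p (0, 0)).1 R ∧
      R⁻¹ * ψ ⟨g, hm⟩ ∈ common ψ n by
    obtain ⟨_, hH⟩ := H hg'
    exact hH
  clear hg hg'
  intro hgm
  have step : ∀ c ∈ gens, ∀ x : Perm (Fin 14), Rep 14 c x → ∀ y : Perm (Fin 14),
      (∃ hm : y ∈ U, ∃ p < reps.length, ∃ R, Cd ψ (reps.getD p (0, 0)).1 R ∧ R⁻¹ * ψ ⟨y, hm⟩ ∈ common ψ n) →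
      ∃ hm : x * y ∈ U, ∃ p < reps.length, ∃ R, Cd ψ (reps.getD p (0, 0)).1 R ∧
        R⁻¹ * ψ ⟨x * y, hm⟩ ∈ common ψ n := by
    rintro c hc x hr y ⟨hy, p, hp, R, hR, hC⟩
    have hxU : x ∈ U := hgen c hc x hr
    obtain ⟨k, hk, rfl⟩ := List.getElem_of_mem hc
    obtain ⟨⟨-, -⟩, hg⟩ := hall p hp
    obtain ⟨hq, hf⟩ := hg k hk
    obtain ⟨⟨hqm, hqi⟩, -⟩ := hall _ hq
    obtain ⟨Q, hQ⟩ := S.mem _ hqm
    have hX : Cd ψ (gens.getD k 0) (ψ ⟨x, hxU⟩) :=
      ⟨⟨x, hxU⟩, by rw [List.getD_eq_getElem _ _ hk]; exact hr, rfl⟩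
    have hm := common_of_find S ((hQ.inv hqi).mul (hX.mul hR)) hf
    refine ⟨mul_mem hxU hy, _, hq, Q, hQ, ?_⟩
    have := mul_mem hm hC
    rwa [show Q⁻¹ * (ψ ⟨x, hxU⟩ * R) * (R⁻¹ * ψ ⟨y, hy⟩) = Q⁻¹ * ψ (⟨x, hxU⟩ * ⟨y, hy⟩) by
      rw [map_mul]; group] at this
  induction hgm using Subgroup.closure_induction_left with
  | one =>
    refine ⟨one_mem _, 0, hlen, 1, ?_, ?_⟩
    · rw [Nat.eq_of_beq_eq_true h0]; exact Cd.one
    · rw [inv_one, one_mul, show (⟨1, _⟩ : U) = 1 from rfl, map_one]; exact one_mem _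
  | mul_left x hx y hy ih =>
    obtain ⟨c, hc, hr⟩ := hx
    exact step c hc x hr y ih
  | inv_mul_cancel x hx y hy ih =>
    obtain ⟨c, hc, hr⟩ := hx
    obtain ⟨c', hc', hr'⟩ := hgi c hc x hr
    exact step c' hc' x⁻¹ hr' y ih

/-- The double coset of a class. -/
def dcos (D : Dat) (ψ : ↥U →* P) (n : P) (i : ℕ) : Set P := {p | ∃ u v : U, p = ψ u * (wrep D ψ n i * ψ v)}

theorem dcos_card {get : ℕ → ℕ} {M i : ℕ} {els : List (ℕ × ℕ × ℕ)} (hG : ∀ m < M, Good D ψ n (get m))
    (h : stabB get M i els = true) (hcan : ∀ k < els.length, canonB (els.getD k (0, 0, 0)).1 = true) :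
    Nat.card (dcos D ψ n i) * els.length ≤ Nat.card U * Nat.card U := by
  classical
  simp only [stabB, Bool.and_eq_true, List.all_eq_true, List.mem_range, Nat.blt_eq, Bool.not_eq_true',
    Bool.or_eq_true] at h
  obtain ⟨⟨h0, -⟩, hall⟩ := h
  have key : ∀ k < els.length, ∃ ue e : U, Rep 14 (els.getD k (0, 0, 0)).1 (e : Perm (Fin 14)) ∧
      wrep D ψ n i = ψ ue * (wrep D ψ n i * ψ e) := by
    intro k
    induction k using Nat.strong_induction_on with
    | _ k ih =>
      intro hk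
      rcases (hall k hk).2 with hz | ⟨⟨⟨⟨⟨hp, hf⟩, hK⟩, ha⟩, hb⟩, he⟩
      · refine ⟨1, 1, ?_, by rw [map_one, one_mul, mul_one]⟩
        rw [Nat.eq_of_beq_eq_true hz, Nat.eq_of_beq_eq_true h0]
        exact rep_id (by norm_num)
      · obtain ⟨ue, e, her, hew⟩ := ih _ hp (hp.trans hk)
        obtain ⟨E, ⟨s, hs, rfl⟩, u, hu⟩ := (hG _ hf).2 hK
        rw [Nat.eq_of_beq_eq_true ha, Nat.eq_of_beq_eq_true hb, mul_one] at hu
        refine ⟨u * ue, e * s, by rw [Nat.eq_of_beq_eq_true he]; exact her.comp hs, ?_⟩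
        conv_lhs => rw [hu, hew]
        rw [map_mul, map_mul]; group
  choose! ue e her hew using key
  have hsel : ∀ p : dcos D ψ n i, ∃ u v : U, (p : P) = ψ u * (wrep D ψ n i * ψ v) := fun p => p.2
  choose u v huv using hsel
  let f : dcos D ψ n i × Fin els.length → U × U := fun q => (u q.1 * ue q.2, e q.2 * v q.1)
  have hinj : Function.Injective f := by
    rintro ⟨p, a⟩ ⟨p', a'⟩ hf
    simp only [f, Prod.mk.injEq] at hf
    have hp : (p : P) = p' := by
      rw [huv p, huv p']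
      conv_lhs => rw [hew a a.2]
      conv_rhs => rw [hew a' a'.2]
      have h1 := congrArg ψ hf.1
      have h2 := congrArg ψ hf.2
      rw [map_mul, map_mul] at h1 h2
      calc ψ (u p) * (ψ (ue a) * (wrep D ψ n i * ψ (e a)) * ψ (v p))
          = (ψ (u p) * ψ (ue a)) * wrep D ψ n i * (ψ (e a) * ψ (v p)) := by group
        _ = _ := by rw [h1, h2]; group
    obtain rfl : p = p' := Subtype.ext hp
    have he : e a = e a' := mul_right_cancel hf.2
    have hc : (els.getD a (0, 0, 0)).1 = (els.getD a' (0, 0, 0)).1 :=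
      canon_eq (hcan _ a.2) (hcan _ a'.2) (her a a.2) (he ▸ her a' a'.2)
    refine Prod.ext rfl (Fin.ext ?_)
    rcases Nat.lt_trichotomy (a : ℕ) a' with hlt | hlt | hlt
    · have := (hall a' a'.2).1 a hlt
      rw [hc] at this
      exact Bool.noConfusion ((Nat.beq_refl _).symm.trans this)
    · exact hlt
    · have := (hall a a.2).1 a' hlt
      rw [← hc] at this
      exact Bool.noConfusion ((Nat.beq_refl _).symm.trans this)
  have := Nat.card_le_card_of_injective f hinj
  rwa [Nat.card_prod, Nat.card_prod, Nat.card_fin] at this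

/-- The order is bounded by the classes. -/
theorem card_le [Finite P] (S : Sys D ψ n) {gens : List ℕ} (hU : U = genG 14 gens) (hgi : ∀ c ∈ gens, ∀ g, Rep 14 c g →
      ∃ c' ∈ gens, Rep 14 c' g⁻¹) {reps : List (ℕ × ℕ)} {nxt : List ℕ} (hcov : coverB D gens reps nxt = true)
    {get : ℕ → ℕ} {M : ℕ} (hG : ∀ m < M, Good D ψ n (get m)) {clo : ℕ → ℕ → ℕ} {els : List (List (ℕ × ℕ × ℕ))}
    (hclo : ∀ i < els.length, closedB D get els.length clo reps M i = true)
    (hst : ∀ i < els.length, stabB get M i (els.getD i []) = true)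
    (hcan : ∀ i < els.length, ∀ k < (els.getD i []).length, canonB ((els.getD i []).getD k (0, 0, 0)).1 = true)
    (hpos : 0 < els.length) {m B : ℕ} (hm : Nat.card U = m) (hB : boundB m els B = true)
    (hgen : closure (Set.range ψ ∪ {n}) = (⊤ : Subgroup P)) : Nat.card P ≤ m * B := by
  classical
  have hcs := cover_sound S hU hgi hcov
  simp only [closedB, List.all_eq_true, List.mem_range, Bool.and_eq_true, Nat.blt_eq] at hclo
  have hw0 : wrep D ψ n 0 = 1 := by rw [wrep, if_pos rfl]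
  let T : Set P := ⋃ i ∈ Finset.range els.length, dcos D ψ n i
  have hmem : ∀ p, p ∈ T ↔ ∃ i < els.length, ∃ u v : U, p = ψ u * (wrep D ψ n i * ψ v) := fun p => by
    simp [T, dcos]
  have hstep : ∀ i < els.length, ∀ X ∈ ψ.range, wrep D ψ n i * (X * n) ∈ T := by
    intro i hi X hX
    obtain ⟨p, hp, R, hR, hC⟩ := hcs X hX
    obtain ⟨⟨⟨⟨hf, hE⟩, ha⟩, hb⟩, hfind⟩ := hclo i hi p hp
    obtain ⟨Xf, Y, -, hXi, hY, u, hu⟩ := (hG _ hf).1 hE
    have hC2 : Xf⁻¹ * X ∈ common ψ n := by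
      have := mul_mem (common_of_find S (hXi.mul hR) hfind) hC
      rwa [mul_assoc, mul_inv_cancel_left] at this
    obtain ⟨-, ⟨H, ⟨h, rfl⟩, hH⟩⟩ := hC2
    obtain ⟨y, -, rfl⟩ := id hY
    refine (hmem _).mpr ⟨_, hb, u, y * h, ?_⟩
    rw [Nat.eq_of_beq_eq_true ha] at hu
    simp only [MulEquiv.coe_toMonoidHom, MulAut.conj_apply] at hH
    have e1 : X * n = Xf * n * ψ h := by
      rw [show X = Xf * (Xf⁻¹ * X) by group, ← hH]; group
    rw [e1, show wrep D ψ n i * (Xf * n * ψ h) = wrep D ψ n i * (Xf * n) * ψ h by group, hu, map_mul]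
    group
  have hright : ∀ p ∈ T, p * n ∈ T := by
    intro p hp
    obtain ⟨i, hi, u, v, rfl⟩ := (hmem p).mp hp
    obtain ⟨j, hj, u', v', e⟩ := (hmem _).mp (hstep i hi (ψ v) ⟨v, rfl⟩)
    refine (hmem _).mpr ⟨j, hj, u * u', v', ?_⟩
    rw [map_mul, mul_assoc (ψ u), mul_assoc (wrep D ψ n i), e]; group
  have hU' : ∀ p ∈ T, ∀ w : U, p * ψ w ∈ T := fun p hp w => by
    obtain ⟨i, hi, u, v, rfl⟩ := (hmem p).mp hp
    exact (hmem _).mpr ⟨i, hi, u, v * w, by rw [map_mul]; group⟩
  have hninv : ∀ p ∈ T, p * n⁻¹ ∈ T := fun p hp => by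
    obtain ⟨s, -, hs⟩ := S.sq.1
    have := hright _ (hU' p hp s⁻¹)
    rwa [show p * ψ s⁻¹ * n = p * n⁻¹ by rw [map_inv, hs]; group] at this
  have hall : ∀ p : P, p ∈ T := by
    intro p
    have hp : p ∈ closure (Set.range ψ ∪ {n}) := hgen ▸ mem_top p
    induction hp using Subgroup.closure_induction_right with
    | one => exact (hmem _).mpr ⟨0, hpos, 1, 1, by rw [hw0, map_one, one_mul, one_mul]⟩
    | mul_right x hx z hz ih =>
      rcases hz with ⟨w, rfl⟩ | hz
      · exact hU' _ ih w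
      · rw [Set.mem_singleton_iff.mp hz]; exact hright _ ih
    | mul_inv_cancel x hx z hz ih =>
      rcases hz with ⟨w, rfl⟩ | hz
      · rw [← map_inv]; exact hU' _ ih w⁻¹
      · rw [Set.mem_singleton_iff.mp hz]; exact hninv _ ih
  have hT : T = Set.univ := Set.eq_univ_of_forall hall
  simp only [boundB, Bool.and_eq_true, List.all_eq_true, List.mem_range, Bool.or_eq_true] at hB
  have hsum := Nat.le_of_ble_eq_true hB.2
  calc Nat.card P = T.ncard := by rw [hT, Set.ncard_univ]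
    _ ≤ ∑ i ∈ Finset.range els.length, (dcos D ψ n i).ncard := Finset.set_ncard_biUnion_le _ _
    _ ≤ ∑ i ∈ Finset.range els.length, m * share m els i := by
      refine Finset.sum_le_sum fun i hi => ?_
      rw [Finset.mem_range] at hi
      rcases Nat.eq_zero_or_pos i with rfl | hi0
      · have e : share m els 0 = 1 := rfl
        rw [e, mul_one, ← hm, ← Nat.card_coe_set_eq]
        have hsub : dcos D ψ n 0 ⊆ Set.range ψ := by
          rintro _ ⟨u, v, rfl⟩
          exact ⟨u * v, by rw [hw0, map_mul, one_mul]⟩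
        rw [Nat.card_coe_set_eq]
        exact (Set.ncard_le_ncard hsub (Set.finite_range _)).trans
          (by rw [← Nat.card_coe_set_eq]; exact Finite.card_range_le ψ)
      · have h1 := dcos_card hG (hst i hi) (hcan i hi)
        rw [hm, Nat.card_coe_set_eq] at h1
        have h2 : (els.getD i []).length * share m els i = m := by
          rcases hB.1 i hi with h | h
          · exact absurd (Nat.eq_of_beq_eq_true h) (by omega)
          · exact Nat.eq_of_beq_eq_true h
        have hst' := hst i hi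
        simp only [stabB, Bool.and_eq_true, Nat.blt_eq] at hst'
        refine Nat.le_of_mul_le_mul_right (h1.trans (le_of_eq ?_)) hst'.1.2
        rw [mul_assoc, mul_comm (share m els i), h2]
    _ ≤ m * B := by
      rw [← Finset.mul_sum]
      refine Nat.mul_le_mul_left m (le_trans (le_of_eq ?_) hsum)
      rw [← List.sum_toFinset _ List.nodup_range, List.toFinset_range]

end CfsgLib.Co3M12.Eng
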