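/-
The cosets of the common part are covered.
-/
import Cfsg.Agent.Lib.Co3M12.Count
import Cfsg.Agent.Lib.Co3M12.Act2

set_option autoImplicit false
set_option maxRecDepth 100000

namespace CfsgLib.Co3M12

open Eng CfsgPC

/-- A configuration with the action alone. -/
def dAct2 : Dat := ⟨(one14, one14), Act2.act, [], Data.chain, []⟩

/-- The checks for a few cosets. -/
def cover2Part (a len : ℕ) : Bool :=
  (List.range len).all fun d =>
    memB dAct2 (Data.reps.getD (a + d) (0, 0)).1 &&
      Nat.beq (cp 14 (Data.reps.getD (a + d) (0, 0)).2 (Data.reps.getD (a + d) (0, 0)).1) one14 &&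
      (List.range Data.gens.length).all fun g =>
        let q := Data.nxt.getD ((a + d) * Data.gens.length + g) 0
        Nat.blt q Data.reps.length &&
          (dAct2.act.find (cp 14 (Data.reps.getD q (0, 0)).2 (cp 14 (Data.gens.getD g 0)
            (Data.reps.getD (a + d) (0, 0)).1))).isSome

theorem cover2_head : Nat.beq (Data.reps.getD 0 (0, 0)).1 one14 = true ∧ Data.reps.length = 495 := by decide +kernel

theorem cover2_0 : cover2Part 0 99 = true := by decide +kernel

theorem cover2_99 : cover2Part 99 99 = true := by decide +kernel

theorem cover2_198 : cover2Part 198 99 = true := by decide +kernel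

theorem cover2_297 : cover2Part 297 99 = true := by decide +kernel

theorem cover2_396 : cover2Part 396 99 = true := by decide +kernel

theorem cover_act2 {D : Dat} (ha : D.act = Act2.act) (hc : D.chain = Data.chain) :
    coverB D Data.gens Data.reps Data.nxt = true := by
  simp only [coverB, memB, ha, hc, Bool.and_eq_true, List.all_eq_true, List.mem_range]
  refine ⟨cover2_head.1, fun p hp => ?_⟩
  rw [cover2_head.2] at hp
  have key : ∀ a : ℕ, cover2Part a 99 = true → a ≤ p → p < a + 99 → _ := fun a h h1 h2 => by
    have := List.all_eq_true.mp h (p - a) (List.mem_range.mpr (by omega))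
    rw [Nat.add_sub_cancel' h1] at this
    simp only [memB, dAct2, Bool.and_eq_true, List.all_eq_true, List.mem_range] at this
    exact this
  rcases (by omega : p < 99 ∨ (99 ≤ p ∧ p < 198) ∨ (198 ≤ p ∧ p < 297) ∨ (297 ≤ p ∧ p < 396) ∨ 396 ≤ p) with
    h | h | h | h | h
  · exact key 0 cover2_0 (by omega) (by omega)
  · exact key 99 cover2_99 h.1 (by omega)
  · exact key 198 cover2_198 h.1 (by omega)
  · exact key 297 cover2_297 h.1 (by omega)
  · exact key 396 cover2_396 h (by omega)

end CfsgLib.Co3M12
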