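/-
The kernel checks behind the normal form of a fusing element.
-/
import Cfsg.Agent.Lib.Co3M12.Local

set_option autoImplicit false
set_option maxRecDepth 100000

namespace CfsgLib.Co3M12

open Eng CfsgPC

/-- The central code. -/
def zc : ℕ := Data.gens.getD 3 0

/-- The inverse code of an entry of the common part. -/
def kd (i : ℕ) : ℕ := (Loc.keys.getD i (0, 0, 0, 0)).2.1

/-- Position of a code in the common part. -/
def pos (c : ℕ) : ℕ := (Loc.keyTree.find c).getD 1000

/-- Position of a generator of the common part. -/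
def gi (a : ℕ) : ℕ := pos (gc a)

/-- The image of an entry under one of the four actions. -/
def img (k i : ℕ) : ℕ := (Loc.imgs.getD k []).getD i 0

/-- The kind of a code: trivial, like `t`, like `z`, other. -/
def ty (c : ℕ) : ℕ :=
  bif Nat.beq c one14 then 0 else bif (Loc.tTree.find c).isSome then 1 else
    bif Nat.beq c zc || (Loc.tTree.find (cp 14 zc c)).isSome then 2 else 3

/-- The kinds cannot correspond. -/
def badB (x y : ℕ) : Bool :=
  (Nat.beq (ty x) 0 != Nat.beq (ty y) 0) || (Nat.beq (ty x) 1 && Nat.beq (ty y) 2) ||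
    (Nat.beq (ty x) 2 && Nat.beq (ty y) 1)

/-- A word in three letters, read by an operation. -/
def evw (f : ℕ → ℕ → ℕ) (x y z : ℕ) : List ℕ → ℕ → ℕ
  | [], s => s
  | c :: w, s => evw f x y z w (f s (bif Nat.beq c 0 then x else bif Nat.beq c 1 then y else z))

theorem evw_rel {R : ℕ → ℕ → Prop} {f : ℕ → ℕ → ℕ} (hf : ∀ {a b c d : ℕ}, R a b → R c d → R (f a c) (f b d))
    {x y z x' y' z' : ℕ} (hx : R x x') (hy : R y y') (hz : R z z') :
    ∀ (w : List ℕ) (s s' : ℕ), R s s' → R (evw f x y z w s) (evw f x' y' z' w s') := by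
  intro w
  induction w with
  | nil => intro s s' h; exact h
  | cons l w ih =>
    intro s s' h
    refine ih _ _ (hf h ?_)
    cases Nat.beq l 0
    · cases Nat.beq l 1
      · exact hz
      · exact hy
    · exact hx

/-- A word in the first letter ignores the second. -/
theorem evw_zero (f : ℕ → ℕ → ℕ) (x y y' z : ℕ) :
    ∀ (w : List ℕ) (s : ℕ), (w.all fun c => Nat.beq c 0) = true → evw f x y z w s = evw f x y' z w s := by
  intro w
  induction w with
  | nil => intros; rfl
  | cons l w ih =>
    intro s h
    simp only [List.all_cons, Bool.and_eq_true] at h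
    simp only [evw, h.1, cond_true]
    exact ih _ h.2

/-- A word in the second letter ignores the first. -/
theorem evw_one (f : ℕ → ℕ → ℕ) (x x' y z : ℕ) :
    ∀ (w : List ℕ) (s : ℕ), (w.all fun c => Nat.beq c 1) = true → evw f x y z w s = evw f x' y z w s := by
  intro w
  induction w with
  | nil => intros; rfl
  | cons l w ih =>
    intro s h
    simp only [List.all_cons, Bool.and_eq_true] at h
    simp only [evw, Nat.eq_of_beq_eq_true h.1]
    exact ih _ h.2

/-- The original word and its image. -/
def badW (p q : ℕ) (w : List ℕ) : Bool :=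
  badB (evw (cp 14) (gc 0) (gc 1) (gc 2) w one14) (evw (cp 14) p q (cp 14 zc Data.tC) w one14)

/-- The verdict for a pair. -/
def pairB (p q e : ℕ) : Bool :=
  bif Nat.blt e 10000 then
    Nat.blt (e / 4) 384 && Nat.beq (cp 14 (kc (e / 4)) (cp 14 (img (e % 4) (gi 0)) (kd (e / 4)))) p &&
      Nat.beq (cp 14 (kc (e / 4)) (cp 14 (img (e % 4) (gi 1)) (kd (e / 4)))) q
  else Nat.blt (e - 10000) Loc.words.length && badW p q (Loc.words.getD (e - 10000) [])

/-- The verdicts for one candidate of the first generator. -/
def rowB (x : ℕ) : Bool :=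
  let p := kc (Loc.candA.getD x 0)
  let es := Loc.pairTab.drop (x * Loc.candB.length)
  Nat.ble Loc.candB.length es.length && (Loc.candB.zip es).all fun r => pairB p (kc r.1) r.2

theorem tTree_ok : (Loc.tTree.pairs.all fun q => Nat.blt q.2 495 && Nat.beq (Loc.tConj.getD q.2 0) q.1) = true := by
  decide +kernel

theorem gi_ok : ((List.range 3).all fun a => Nat.blt (gi a) 384 && Nat.beq (kc (gi a)) (gc a)) = true := by
  decide +kernel

theorem candA_ok : ((List.range 384).all fun i => Loc.candA.contains i ||
    badW (kc i) one14 [0, 0, 0, 0, 0, 0] || badW (kc i) one14 [0, 0, 0] || badW (kc i) one14 [0, 0]) = true := by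
  decide +kernel

theorem candB_ok : ((List.range 384).all fun i => Loc.candB.contains i ||
    badW one14 (kc i) [1, 1, 1, 1, 1, 1, 1, 1] || badW one14 (kc i) [1, 1, 1, 1]) = true := by
  decide +kernel

theorem pair_ok : ((List.range Loc.candA.length).all rowB) = true := by decide +kernel

theorem img_ok : ((List.range 4).all fun k => Nat.beq (img k 0) one14 &&
    Nat.beq (img k (gi 2)) (cp 14 zc Data.tC) && ((List.range 384).all fun i => memB D0 (img k i) &&
      (Nat.beq i 0 || Nat.beq (img k i) (cp 14 (img k (Loc.keys.getD i (0, 0, 0, 0)).2.2.1)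
        (img k (gi (Loc.keys.getD i (0, 0, 0, 0)).2.2.2)))) &&
      Nat.blt (pos (img k i)) 384 && Nat.beq (kc (pos (img k i))) (img k i))) = true := by decide +kernel

theorem square_ok : ((List.range 4).all fun k => (List.range 384).all fun i =>
    !(Nat.beq (img k i) (kc i) &&
      Nat.beq (cp 14 (kc i) (cp 14 (gc 0) (kd i))) (img k (pos (img k (gi 0)))) &&
      Nat.beq (cp 14 (kc i) (cp 14 (gc 1) (kd i))) (img k (pos (img k (gi 1))))) ||
    Nat.beq (kc i) one14 || Nat.beq (kc i) Data.tC) = true := by decide +kernel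

end CfsgLib.Co3M12
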