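/-
A fusing element normalising the common part, put into one of four normal forms.
-/
import Cfsg.Agent.Lib.Co3M12.Local
import Cfsg.Agent.Lib.Co3M12.Extremal
import Cfsg.Prelude.Def_Transfer

set_option autoImplicit false
set_option maxRecDepth 100000
set_option linter.style.haveILetI false

namespace CfsgLib.Co3M12

open Equiv Subgroup CfsgPC Eng

attribute [local irreducible] Data.chain

variable {G : Type*} [Group G]

/-- The centraliser of an involution is the product on fourteen points. -/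
structure Base (G : Type*) [Group G] where
  /-- the embedding -/
  ψ : UU →* G
  inj : Function.Injective ψ
  range : ψ.range = centralizer ({ψ zx} : Set G)
  res : ψ zx ∈ Cfsg.pResidual 2 G

theorem exists_base (z : G) (hz : orderOf z = 2)
    (hC : Nonempty (↥(centralizer ({z} : Set G)) ≃* Multiplicative (ZMod 2) × ↥Cfsg.Spor.M12))
    (hO : z ∈ Cfsg.pResidual 2 G) : Nonempty (Base G) := by
  obtain ⟨e⟩ := hC
  have hzC : z ∈ centralizer ({z} : Set G) := mem_centralizer_singleton_iff.mpr rfl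
  set q := e ⟨z, hzC⟩ with hq
  haveI := CfsgGolay.isSimple_sporM12
  have hc : q.2 ∈ center ↥Cfsg.Spor.M12 := mem_center_iff.mpr fun g => by
    have h : (e.symm (1, g)) * ⟨z, hzC⟩ = ⟨z, hzC⟩ * e.symm (1, g) :=
      Subtype.ext (mem_centralizer_singleton_iff.mp (e.symm (1, g)).2)
    have h2 := congrArg (fun x => (e x).2) h
    simpa [map_mul] using h2
  have h2 : q.2 = 1 := by
    rcases (Subgroup.Normal.eq_bot_or_eq_top (inferInstance : (center ↥Cfsg.Spor.M12).Normal)) with h | h
    · rwa [h, mem_bot] at hc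
    · exfalso
      have hcomm : IsMulCommutative ↥Cfsg.Spor.M12 := ⟨⟨fun a b => mem_center_iff.mp (h ▸ mem_top b) a⟩⟩
      haveI := hcomm
      letI : CommGroup ↥Cfsg.Spor.M12 := { (inferInstance : Group ↥Cfsg.Spor.M12) with
        mul_comm := fun a b => hcomm.is_comm.comm a b }
      have hp := IsSimpleGroup.prime_card (α := ↥Cfsg.Spor.M12)
      rw [CfsgGolay.card_sporM12] at hp
      norm_num at hp
  have hq0 : q ≠ 1 := fun h => by
    have h1 : (⟨z, hzC⟩ : centralizer ({z} : Set G)) = 1 := e.injective (h.trans (map_one e).symm)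
    rw [show z = 1 from congrArg Subtype.val h1, orderOf_one] at hz
    omega
  have hqz : q = zProd := by
    refine Prod.ext ?_ h2
    have hne : q.1 ≠ 1 := fun h => hq0 (Prod.ext h h2)
    exact (by decide : ∀ a : Multiplicative (ZMod 2), a ≠ 1 → a = Multiplicative.ofAdd 1) _ hne
  let ψ : UU →* G :=
    (centralizer ({z} : Set G)).subtype.comp ((prodEquiv.symm.trans e.symm).toMonoidHom)
  have hψz : ψ zx = z := by
    show ((e.symm (prodEquiv.symm zx) : centralizer ({z} : Set G)) : G) = z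
    rw [← prodEquiv_zx, prodEquiv.symm_apply_apply, ← hqz, hq, e.symm_apply_apply]
  refine ⟨⟨ψ, (subtype_injective _).comp (prodEquiv.symm.trans e.symm).injective, ?_, hψz.symm ▸ hO⟩⟩
  rw [hψz, MonoidHom.range_comp, MonoidHom.range_eq_top.mpr (prodEquiv.symm.trans e.symm).surjective,
    ← MonoidHom.range_eq_map, range_subtype]

variable (B : Base G)

/-- The central involution. -/
noncomputable def Base.z : G := B.ψ zx

/-- The involution in the Mathieu part. -/
noncomputable def Base.t : G := B.ψ tx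

theorem Base.z_sq : B.z * B.z = 1 := by rw [Base.z, ← map_mul, zx_sq, map_one]

theorem Base.t_sq : B.t * B.t = 1 := by rw [Base.t, ← map_mul, tx_sq, map_one]

theorem Base.zt_comm : B.z * B.t = B.t * B.z := by rw [Base.z, Base.t, ← map_mul, zx_central, map_mul]

theorem Base.mem_range {g : G} (h : g * B.z = B.z * g) : ∃ u, B.ψ u = g := by
  have : g ∈ B.ψ.range := B.range ▸ mem_centralizer_singleton_iff.mpr h
  exact this

theorem Base.comm_z (u : UU) : B.ψ u * B.z = B.z * B.ψ u := by
  rw [Base.z, ← map_mul, ← map_mul, zx_central]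

theorem root_ok : ((List.range 384).any fun i => Nat.beq (cp 14 (kc i) (kc i)) Data.tC) = true := by decide +kernel

theorem Base.not_conj : ¬ IsConj B.z B.t := fun h => by
  obtain ⟨g, hg⟩ := isConj_iff.mp h.symm
  obtain ⟨i, hi, he⟩ := List.any_eq_true.mp root_ok
  rw [List.mem_range] at hi
  have hs : kx i * kx i = tx := rp_eq (rp_mul (kc_spec hi).1 (kc_spec hi).1) tx_spec he
  have hc : g * B.ψ (kx i) * g⁻¹ * B.z = B.z * (g * B.ψ (kx i) * g⁻¹) := by
    rw [← hg, Base.t, ← hs, map_mul]; group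
  obtain ⟨w, hw⟩ := B.mem_range hc
  have hz : zx = w * w := B.inj (by rw [map_mul, hw, ← Base.z, ← hg, Base.t, ← hs, map_mul]; group)
  exact not_inL_zx (hz ▸ sq_inL w)

theorem Base.exists_move [Finite G] : ∃ n : G, n * B.z * n⁻¹ = B.z * B.t ∧ n * B.t * n⁻¹ = B.t := by
  classical
  haveI : Fact (Nat.Prime 2) := ⟨Nat.prime_two⟩
  set T : Subgroup G := SS.map B.ψ with hT
  have hTc : Nat.card T = 128 := by rw [hT, card_map_of_injective B.inj, card_SS]
  have hTp : IsPGroup 2 T := IsPGroup.of_card (n := 7) (by rw [hTc]; norm_num)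
  obtain ⟨P, hP⟩ := hTp.exists_le_sylow
  have hcen : ∀ x ∈ T, (∀ y ∈ T, x * y = y * x) → x = 1 ∨ x = B.z ∨ x = B.t ∨ x = B.z * B.t := by
    rintro _ ⟨u, hu, rfl⟩ hc
    rcases center_SS hu (fun v hv => B.inj (by rw [map_mul, map_mul]; exact hc _ ⟨v, hv, rfl⟩)) with h | h | h | h <;>
      subst h
    · exact Or.inl (map_one _)
    · exact Or.inr (Or.inl rfl)
    · exact Or.inr (Or.inr (Or.inl rfl))
    · exact Or.inr (Or.inr (Or.inr (map_mul _ _ _)))
  by_cases hPT : (P : Subgroup G) = T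
  · exfalso
    let Q0 : Subgroup UU := SS ⊓ (MulAction.stabilizer (Perm (Fin 14)) pz).comap UU.subtype
    have hQ0 : ∀ u, u ∈ Q0 ↔ u ∈ SS ∧ inL u := fun u => Iff.rfl
    let Q : Subgroup G := Q0.map B.ψ
    have hQP : Q ≤ (P : Subgroup G) := hPT ▸ map_mono inf_le_left
    have hQi : Q.relIndex (P : Subgroup G) = 2 := by
      rw [hPT, relIndex_map_map_of_injective _ _ B.inj]
      rw [relIndex, index_eq_two_iff]
      refine ⟨⟨zx, zx_mem_SS⟩, fun ⟨u, hu⟩ => ?_⟩
      have hm : ∀ v : SS, v ∈ Q0.subgroupOf SS ↔ inL (v : UU) := fun v =>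
        ⟨fun h => ((hQ0 _).mp h).2, fun h => (hQ0 _).mpr ⟨v.2, h⟩⟩
      rw [hm, hm]
      show Xor (inL (u * zx)) (inL u)
      rw [← zx_central]
      rcases pair_fixed u with ⟨h1, -⟩ | ⟨h1, h2⟩
      · exact Or.inr ⟨h1, not_inL_mul h1⟩
      · refine Or.inl ⟨?_, fun h => ?_⟩
        · rcases pair_fixed zx with ⟨h3, -⟩ | ⟨-, h4⟩
          · exact absurd h3 not_inL_zx
          · show (zx : Perm (Fin 14)) ((u : Perm (Fin 14)) pz) = pz
            rw [h1, h4]
        · rw [show (u : Perm (Fin 14)) pz = pz from h] at h1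
          exact absurd (congrArg Fin.val h1) (by decide)
    obtain ⟨g, hg, hcard⟩ := Extremal.exists_conj P Q hQP hQi B.z (by rw [sq]; exact B.z_sq)
      fun M hM hMi => by
        haveI := hM
        refine (closure_le M).mpr ?_ B.res
        intro x hx
        have h2 : x * x ∈ M := mul_self_mem_of_index_two hMi x
        obtain ⟨k, hk⟩ : Odd (orderOf x) := Nat.coprime_two_right.mp hx
        have h3 : x ^ (2 * k + 1) ∈ M := by rw [← hk, pow_orderOf_eq_one]; exact one_mem _
        rw [pow_succ, pow_mul, sq] at h3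
        exact ((Subgroup.mul_mem_cancel_left _ (pow_mem h2 k)).mp h3)
    rw [hPT] at hcard hQP
    have hall : centralizer ({B.z} : Set G) ⊓ T = T := inf_eq_right.mpr fun x hx => by
      obtain ⟨u, -, rfl⟩ := hx
      exact mem_centralizer_singleton_iff.mpr (B.comm_z u)
    rw [hall] at hcard
    have he : centralizer ({g * B.z * g⁻¹} : Set G) ⊓ T = T := Subgroup.eq_of_le_of_card_ge inf_le_right hcard
    obtain ⟨u, hu, hug⟩ := hg
    rcases hcen (g * B.z * g⁻¹) (hug ▸ hQP ⟨u, hu, rfl⟩) (fun y hy =>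
        (mem_centralizer_singleton_iff.mp (inf_eq_right.mp he hy)).symm) with h | h | h | h
    · rw [conj_eq_one_iff] at h
      exact not_inL_zx (by
        rw [show zx = 1 from B.inj (h.trans (map_one _).symm)]
        rfl)
    · rw [← hug] at h
      exact not_inL_zx (B.inj h ▸ ((hQ0 u).mp hu).2)
    · exact B.not_conj (isConj_iff.mpr ⟨g, h⟩)
    · rw [← hug, Base.z, Base.t, ← map_mul] at h
      exact not_inL_mul inL_tx (B.inj h ▸ ((hQ0 u).mp hu).2)
  · obtain ⟨n, hnP, hnN, hnT⟩ : ∃ n ∈ (P : Subgroup G), n ∈ normalizer (T : Set G) ∧ n ∉ T := by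
      have hlt : T.subgroupOf (P : Subgroup G) < ⊤ := by
        refine lt_top_iff_ne_top.mpr fun h => hPT (le_antisymm (subgroupOf_eq_top.mp h) hP)
      haveI := P.isPGroup'.isNilpotent
      have := Group.normalizerCondition_of_isNilpotent (T.subgroupOf (P : Subgroup G)) hlt
      obtain ⟨⟨n, hn⟩, h1, h2⟩ := SetLike.exists_of_lt this
      refine ⟨n, hn, ?_, fun h => h2 h⟩
      rw [mem_normalizer_iff] at h1 ⊢
      intro y
      constructor
      · intro hy
        exact (h1 ⟨y, hP hy⟩).mp hy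
      · intro hy
        have hyP : y ∈ (P : Subgroup G) := by
          have := mul_mem (mul_mem (inv_mem hn) (hP hy)) hn
          rwa [show n⁻¹ * (n * y * n⁻¹) * n = y by group] at this
        exact (h1 ⟨y, hyP⟩).mpr hy
    have himg : ∀ u ∈ SS, (∀ v ∈ SS, u * v = v * u) →
        n * B.ψ u * n⁻¹ = 1 ∨ n * B.ψ u * n⁻¹ = B.z ∨ n * B.ψ u * n⁻¹ = B.t ∨ n * B.ψ u * n⁻¹ = B.z * B.t := by
      intro u hu hc
      refine hcen _ ((mem_normalizer_iff.mp hnN _).mp ⟨u, hu, rfl⟩) fun y hy => ?_
      have hy' : n⁻¹ * y * n ∈ T := (mem_normalizer_iff.mp hnN _).mpr (by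
        rwa [show n * (n⁻¹ * y * n) * n⁻¹ = y by group])
      obtain ⟨v, hv, hvy⟩ := hy'
      calc n * B.ψ u * n⁻¹ * y = n * (B.ψ u * (n⁻¹ * y * n)) * n⁻¹ := by group
        _ = n * ((n⁻¹ * y * n) * B.ψ u) * n⁻¹ := by rw [← hvy, ← map_mul, ← map_mul, hc v hv]
        _ = y * (n * B.ψ u * n⁻¹) := by group
    have hztc : ∀ v ∈ SS, tx * v = v * tx := fun v hv => by
      obtain ⟨i, hi, rfl⟩ := mem_SS.mp hv
      have h := List.all_eq_true.mp syl_ok.2.2.1 i (List.mem_range.mpr hi)
      exact (sx_comm_tx hi).symm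
    have hne1 : ∀ u : UU, u ≠ 1 → n * B.ψ u * n⁻¹ ≠ 1 := fun u hu h => by
      rw [conj_eq_one_iff] at h
      exact hu (B.inj (h.trans (map_one _).symm))
    have hz1 : zx ≠ 1 := fun h => not_inL_zx (h ▸ rfl)
    have hzn : n * B.z * n⁻¹ ≠ B.z := fun h => hnT (by
      obtain ⟨u, hu⟩ := B.mem_range (g := n) (by
        calc n * B.z = n * B.z * n⁻¹ * n := by group
          _ = _ := by rw [h])
      -- inside the centraliser, `T` is a Sylow subgroup
      by_contra hcon
      exact sylow_top B hP hnP hu hcon)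
    have hz : n * B.z * n⁻¹ = B.z * B.t := by
      rcases himg zx zx_mem_SS (fun v _ => zx_central v) with h | h | h | h
      · exact absurd h (hne1 zx hz1)
      · exact absurd h hzn
      · exact absurd (isConj_iff.mpr ⟨n, h⟩) B.not_conj
      · exact h
    refine ⟨n, hz, ?_⟩
    rcases himg tx tx_mem_SS hztc with h | h | h | h
    · exact absurd h (hne1 tx tx_ne_one)
    · exact absurd (isConj_iff.mpr ⟨n, h⟩) (fun hc => B.not_conj hc.symm)
    · exact h
    · rw [← hz] at h
      have : tx = zx := B.inj (mul_left_cancel (mul_right_cancel h))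
      exact absurd (this ▸ inL_tx) not_inL_zx
where
  sx_comm_tx {i : ℕ} (hi : i < 128) : sx i * tx = tx * sx i := by
    have h := List.all_eq_true.mp sylT_ok i (List.mem_range.mpr hi)
    exact rp_eq (rp_mul (sx_spec hi).1 tx_spec) (rp_mul tx_spec (sx_spec hi).1) h
  sylT_ok : ((List.range 128).all fun i => Nat.beq (cp 14 (sc i) Data.tC) (cp 14 Data.tC (sc i))) = true := by
    decide +kernel
  sylow_top {G : Type _} [Group G] [Finite G] (B : Base G) {P : Sylow 2 G} (hP : SS.map B.ψ ≤ (P : Subgroup G))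
      {n : G} (hnP : n ∈ (P : Subgroup G)) {u : UU} (hu : B.ψ u = n) (hn : n ∉ SS.map B.ψ) : False := by
    haveI : Fact (Nat.Prime 2) := ⟨Nat.prime_two⟩
    let R : Subgroup UU := (P : Subgroup G).comap B.ψ
    have hR : IsPGroup 2 R := P.isPGroup'.comap_of_injective B.ψ B.inj
    have hle : SS ≤ R := fun v hv => hP ⟨v, hv, rfl⟩
    obtain ⟨k, hk⟩ := IsPGroup.iff_card.mp hR
    have hd : Nat.card R ∣ 190080 := closed.2 ▸ Subgroup.card_subgroup_dvd_card R
    rw [hk] at hd
    have hk7 : k ≤ 7 := by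
      by_contra hk7
      have : (2 : ℕ) ^ 8 ∣ 190080 := (pow_dvd_pow 2 (show 8 ≤ k by omega)).trans hd
      norm_num at this
    have hcR : Nat.card R ≤ Nat.card SS := by
      rw [card_SS, hk]
      calc 2 ^ k ≤ 2 ^ 7 := Nat.pow_le_pow_right (by norm_num) hk7
        _ = 128 := by norm_num
    have := Subgroup.eq_of_le_of_card_ge hle hcR
    exact hn ⟨u, this ▸ (show u ∈ R from show B.ψ u ∈ _ from hu ▸ hnP), hu⟩

end CfsgLib.Co3M12
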