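/-
The triangles with their candidates.
-/
import Cfsg.Agent.Lib.Co3M12.Data

set_option autoImplicit false
set_option maxRecDepth 100000

namespace CfsgLib.Co3M12

/-- A triangle: the action, a conjugate of `t` in the common part, the two conjugating elements with inverses,
the elements whose images are used, and the candidates. -/
structure Tri where
  /-- the action -/
  k : ℕ
  /-- the position of the conjugate -/
  h : ℕ
  /-- the first element -/
  l : ℕ
  /-- its inverse -/
  li : ℕ
  /-- the second element -/
  m : ℕ
  /-- its inverse -/
  mi : ℕ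
  /-- the positions used -/
  cs : List ℕ
  /-- the candidates -/
  es : List ℕ

/-- The triangles. -/
def tris : List Tri := [
  ⟨0, 102, 0x1a0c0480c00020402802050301c080b, 0x1a0c0001816070100c0801050200a09, 0x1a0c0080c0e060482c100402808000a, 0x1a0c030000e05048200604050081601, [10, 13, 116, 372, 373], [0x1a0c01000100b030240807008141403, 0x180d01000100b030240807008141403, 0x1a0c02018020b0000c0407040141409, 0x1a0c01000020a0300c08050401c1609, 0x1a0c02018100a0002404050081c1603, 0x180d02018020b0000c0407040141409, 0x180d01000020a0300c08050401c1609, 0x180d02018100a0002404050081c1603]⟩,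
  ⟨0, 306, 0x1a0c0380806080502c0809000180205, 0x1a0c0301c0808058080005048280203, 0x1a0c008201204058000e0a010140606, 0x1a0c03810120a0280004080080c1606, [10, 24, 96, 349, 376], [0x1a0c0400406090502c0e04030080005, 0x1a0c040040c00050140e0201810120b, 0x180d0400406090502c0e04030080005, 0x180d040040c00050140e0201810120b, 0x1a0c008200c000382c1404018081205, 0x1a0c0400400060382c1402048100605, 0x1a0c00820060903814140203010000b, 0x180d008200c000382c1404018081205, 0x180d0400400060382c1402048100605, 0x180d00820060903814140203010000b, 0x1a0c008200006050140e0404808060b, 0x1a0c0082012030502c0e02000100c05, 0x180d008200006050140e0404808060b, 0x180d0082012030502c0e02000100c05, 0x1a0c040041203038141404000080c0b, 0x180d040041203038141404000080c0b]⟩,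
  ⟨1, 102, 0x1a0c0480c00020402802050301c080b, 0x1a0c0001816070100c0801050200a09, 0x1a0c0080c0e060482c100402808000a, 0x1a0c030000e05048200604050081601, [10, 13, 116, 372, 373], []⟩,
  ⟨2, 102, 0x1a0c0480c00020402802050301c080b, 0x1a0c0001816070100c0801050200a09, 0x1a0c0080c0e060482c100402808000a, 0x1a0c030000e05048200604050081601, [10, 13, 116, 372, 373], [0x1a0c000081207020200c0b018280a01, 0x1a0c03010060701004000b048280a08, 0x180d000081207020200c0b018280a01, 0x180d03010060701004000b048280a08, 0x1a0c03010120501020000a0182c0e01, 0x1a0c000080605020040c0a0482c0e08, 0x180d03010120501020000a0182c0e01, 0x180d000080605020040c0a0482c0e08]⟩,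
  ⟨2, 306, 0x1a0c0380806080502c0809000180205, 0x1a0c0301c0808058080005048280203, 0x1a0c0301c0808058080005048280203, 0x1a0c0380806080502c0809000180205, [10, 24, 96, 349, 376], [0x1a0c0101c00080501808050182c0209, 0x180d0101c00080501808050182c0209, 0x1a0c0102812010380c08050302c1000, 0x180d0102812010380c08050302c1000, 0x1a0c010280c0803800080b048140203, 0x1a0c0202806080382404050002c0206, 0x180d010280c0803800080b048140203, 0x180d0202806080382404050002c0206, 0x1a0c0201c12080500c040b030140200, 0x1a0c0101c060105024080b000141006, 0x1a0c0201c0c010500004050482c1003, 0x1a0c02028000103818040b018141009, 0x180d0201c12080500c040b030140200, 0x180d0101c060105024080b000141006, 0x180d0201c0c010500004050482c1003, 0x180d02028000103818040b018141009]⟩,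
  ⟨3, 102, 0x1a0c0480c00020402802050301c080b, 0x1a0c0001816070100c0801050200a09, 0x1a0c0080c0e060482c100402808000a, 0x1a0c030000e05048200604050081601, [10, 13, 116, 372, 373], []⟩]

end CfsgLib.Co3M12
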