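/-
The kernel checks behind the triangles.
-/
import Cfsg.Agent.Lib.Co3M12.NormalFacts
import Cfsg.Agent.Lib.Co3M12.TriData

set_option autoImplicit false
set_option maxRecDepth 100000

namespace CfsgLib.Co3M12

open Eng CfsgPC

/-- The first step of an equation. -/
def Tri.mid (T : Tri) (c : ℕ) : ℕ := cp 14 T.li (cp 14 (img T.k c) T.l)

/-- The second step. -/
def Tri.last (T : Tri) (c : ℕ) : ℕ := cp 14 T.mi (cp 14 (img T.k (pos (T.mid c))) T.m)

/-- The right side of an equation. -/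
def Tri.rhs (T : Tri) (c : ℕ) : ℕ := img T.k (pos (T.last c))

/-- A possible product. -/
def Tri.cand (T : Tri) (j : ℕ) : ℕ :=
  cp 14 (kc j) (Data.reps.getD ((Loc.tTree.find (T.rhs (pos Data.tC))).getD 0) (0, 0)).2

/-- The position of the central multiple of the conjugate. -/
def Tri.zh (T : Tri) : ℕ := pos (cp 14 zc (kc T.h))

/-- A code is the entry at its position. -/
def inC (c : ℕ) : Bool := Nat.blt (pos c) 384 && Nat.beq (kc (pos c)) c

/-- The checks for one triangle. -/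
def triB (T : Tri) : Bool :=
  Nat.blt T.k 4 && Nat.blt T.h 384 && memB D0 T.l && memB D0 T.m && Nat.beq (cp 14 T.li T.l) one14 &&
  Nat.beq (cp 14 T.mi T.m) one14 && Nat.beq (cp 14 T.li (cp 14 Data.tC T.l)) (kc T.h) &&
  inC (cp 14 zc (kc T.h)) && Nat.beq (cp 14 T.m (cp 14 Data.tC T.mi)) (cp 14 zc (img T.k T.zh)) &&
  inC Data.tC && T.cs.contains (pos Data.tC) && (Loc.tTree.find (T.rhs (pos Data.tC))).isSome &&
  (T.cs.all fun c => Nat.blt c 384 && inC (T.mid c) && inC (T.last c)) &&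
  ((List.range 384).all fun j =>
    !(T.cs.all fun c => Nat.beq (cp 14 (kc c) (T.cand j)) (cp 14 (T.cand j) (T.rhs c))) ||
      T.es.any fun e => Nat.beq (T.cand j) e)

theorem tris_ok : tris.all triB = true := by decide +kernel

theorem Tri.mid_def (T : Tri) (c : ℕ) : T.mid c = cp 14 T.li (cp 14 (img T.k c) T.l) := rfl

theorem Tri.last_def (T : Tri) (c : ℕ) : T.last c = cp 14 T.mi (cp 14 (img T.k (pos (T.mid c))) T.m) := rfl

theorem Tri.rhs_def (T : Tri) (c : ℕ) : T.rhs c = img T.k (pos (T.last c)) := rfl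

theorem Tri.zh_def (T : Tri) : T.zh = pos (cp 14 zc (kc T.h)) := rfl

theorem Tri.cand_def (T : Tri) (j : ℕ) : T.cand j =
    cp 14 (kc j) (Data.reps.getD ((Loc.tTree.find (T.rhs (pos Data.tC))).getD 0) (0, 0)).2 := rfl

/-- The relation of a triangle. -/
def Tri.rel (T : Tri) (e : ℕ) : ℕ × ℕ × ℕ × ℕ × ℕ := (T.l, T.m, e, T.li, T.mi)

end CfsgLib.Co3M12
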