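/-
Every fusing element gives one of three closed configurations.
-/
import Cfsg.Agent.Lib.Co3M12.Triangle
import Cfsg.Agent.Lib.Co3M12.Act0
import Cfsg.Agent.Lib.Co3M12.Act2
import Cfsg.Agent.Lib.Co3M12.Case.A0
import Cfsg.Agent.Lib.Co3M12.Case.A1
import Cfsg.Agent.Lib.Co3M12.Case.A2
import Cfsg.Agent.Lib.Co3M12.Case.A3
import Cfsg.Agent.Lib.Co3M12.Case.A4
import Cfsg.Agent.Lib.Co3M12.Case.A5
import Cfsg.Agent.Lib.Co3M12.Case.A7
import Cfsg.Agent.Lib.Co3M12.Case.A8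
import Cfsg.Agent.Lib.Co3M12.Case.A9
import Cfsg.Agent.Lib.Co3M12.Case.A10
import Cfsg.Agent.Lib.Co3M12.Case.A11
import Cfsg.Agent.Lib.Co3M12.Case.A12
import Cfsg.Agent.Lib.Co3M12.Case.A13
import Cfsg.Agent.Lib.Co3M12.Case.A14
import Cfsg.Agent.Lib.Co3M12.Case.A15
import Cfsg.Agent.Lib.Co3M12.Case.B0
import Cfsg.Agent.Lib.Co3M12.Case.B1
import Cfsg.Agent.Lib.Co3M12.Case.B3
import Cfsg.Agent.Lib.Co3M12.Case.B4
import Cfsg.Agent.Lib.Co3M12.Case.B5
import Cfsg.Agent.Lib.Co3M12.Case.B6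
import Cfsg.Agent.Lib.Co3M12.Case.B7
import Cfsg.Agent.Lib.Co3M12.Case.B9
import Cfsg.Agent.Lib.Co3M12.Case.B10
import Cfsg.Agent.Lib.Co3M12.Case.B11
import Cfsg.Agent.Lib.Co3M12.Case.B12
import Cfsg.Agent.Lib.Co3M12.Case.B13
import Cfsg.Agent.Lib.Co3M12.Case.B14
import Cfsg.Agent.Lib.Co3M12.Case.B15
import Cfsg.Agent.Lib.Co3M12.Case.A6x0
import Cfsg.Agent.Lib.Co3M12.Case.A6x1
import Cfsg.Agent.Lib.Co3M12.Case.A6x2
import Cfsg.Agent.Lib.Co3M12.Case.A6x3
import Cfsg.Agent.Lib.Co3M12.Case.A6x5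
import Cfsg.Agent.Lib.Co3M12.Case.A6x6
import Cfsg.Agent.Lib.Co3M12.Case.A6x7
import Cfsg.Agent.Lib.Co3M12.Case.B2x0
import Cfsg.Agent.Lib.Co3M12.Case.B2x1
import Cfsg.Agent.Lib.Co3M12.Case.B2x3
import Cfsg.Agent.Lib.Co3M12.Case.B2x4
import Cfsg.Agent.Lib.Co3M12.Case.B2x5
import Cfsg.Agent.Lib.Co3M12.Case.B2x6
import Cfsg.Agent.Lib.Co3M12.Case.B2x7
import Cfsg.Agent.Lib.Co3M12.Case.B8x0
import Cfsg.Agent.Lib.Co3M12.Case.B8x1
import Cfsg.Agent.Lib.Co3M12.Case.B8x3
import Cfsg.Agent.Lib.Co3M12.Case.B8x4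
import Cfsg.Agent.Lib.Co3M12.Case.B8x5
import Cfsg.Agent.Lib.Co3M12.Case.B8x6
import Cfsg.Agent.Lib.Co3M12.Case.B8x7
import Cfsg.Agent.Lib.Co3M12.Case.Wr.Dat
import Cfsg.Agent.Lib.Co3M12.Case.CoA.Dat
import Cfsg.Agent.Lib.Co3M12.Case.CoB.Dat

set_option autoImplicit false
set_option maxRecDepth 100000
set_option maxHeartbeats 1000000

namespace CfsgLib.Co3M12

open Equiv Subgroup CfsgPC Eng

attribute [local irreducible] Data.chain

variable {G : Type*} [Group G] {B : Base G}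

/-- A triangle by its number. -/
def tri (i : ℕ) : Tri := tris.getD i ⟨0, 0, 0, 0, 0, 0, [], []⟩

/-- A relation holds for an element. -/
def RelOK (B : Base G) (n : G) (R : ℕ × ℕ × ℕ × ℕ × ℕ) : Prop :=
  ∃ A A', Cd B.ψ R.1 A ∧ Cd B.ψ R.2.1 A' ∧ Cd B.ψ R.2.2.1 (n * A * n * A' * n) ∧
    Cd B.ψ R.2.2.2.1 A⁻¹ ∧ Cd B.ψ R.2.2.2.2 A'⁻¹

theorem one_rel {n : G} {R : ℕ × ℕ × ℕ × ℕ × ℕ} (h : RelOK B n R) : ∀ S ∈ [R], RelOK B n S := by
  simpa using h

theorem pair_rel {n : G} {R R' : ℕ × ℕ × ℕ × ℕ × ℕ} (h : RelOK B n R) (h' : RelOK B n R') :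
    ∀ S ∈ [R, R'], RelOK B n S := by
  simpa using And.intro h h'

/-- A tree is the table of an action. -/
def actB (k : ℕ) (T : CTree) : Bool := T.pairs.all fun q => inC q.2 && Nat.beq (img k (pos q.2)) q.1

theorem act0_ok : actB 0 Act0.act = true := by decide +kernel

theorem act2_ok : actB 2 Act2.act = true := by decide +kernel

/-- The data of a configuration fit the allowed relations. -/
def fitB (D : Dat) (allowed : List (ℕ × ℕ × ℕ × ℕ × ℕ)) : Bool :=
  Nat.beq D.cc.1 one14 && Nat.beq D.cc.2 one14 &&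
  D.rels.all fun R => allowed.any fun S => Nat.beq R.1 S.1 && Nat.beq R.2.1 S.2.1 && Nat.beq R.2.2.1 S.2.2.1 &&
    Nat.beq R.2.2.2.1 S.2.2.2.1 && Nat.beq R.2.2.2.2 S.2.2.2.2

theorem Move.mkSys (M : Move B) {D : Dat} {allowed : List (ℕ × ℕ × ℕ × ℕ × ℕ)} (hD : D.chain = Data.chain)
    (hact : actB M.k D.act = true)
    (h : fitB D allowed = true) (hR : ∀ S ∈ allowed, RelOK B M.n S) : Sys D B.ψ M.n := by
  simp only [fitB, Bool.and_eq_true] at h
  obtain ⟨⟨hc1, hc2⟩, hrel⟩ := h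
  refine ⟨fun c hc => ?_, fun q hq => ?_, ⟨?_, ?_⟩, fun R hR' => ?_⟩
  · obtain ⟨u, hu⟩ := mem_of_memB hD hc
    exact ⟨_, u, hu, rfl⟩
  · have h2 := List.all_eq_true.mp hact q hq
    simp only [Bool.and_eq_true, inC, Nat.blt_eq] at h2
    obtain ⟨⟨hp, he⟩, hi⟩ := h2
    refine ⟨B.ψ (elt (img M.k (pos q.2))), B.ψ (kx (pos q.2)), ⟨_, ?_, rfl⟩, ⟨_, ?_, rfl⟩, M.conj _ hp⟩
    · exact (Nat.eq_of_beq_eq_true hi) ▸ (img_spec M.hk hp).1
    · have h3 := (kc_spec hp).1
      rw [Nat.eq_of_beq_eq_true he] at h3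
      rw [kx, Nat.eq_of_beq_eq_true he]
      exact h3
  · rw [Nat.eq_of_beq_eq_true hc1, M.sq]; exact Cd.one
  · rw [Nat.eq_of_beq_eq_true hc2, M.sq, inv_one]; exact Cd.one
  · obtain ⟨S, hS, e⟩ := List.any_eq_true.mp (List.all_eq_true.mp hrel R hR')
    simp only [Bool.and_eq_true] at e
    obtain ⟨⟨⟨⟨e1, e2⟩, e3⟩, e4⟩, e5⟩ := e
    rw [Nat.eq_of_beq_eq_true e1, Nat.eq_of_beq_eq_true e2, Nat.eq_of_beq_eq_true e3, Nat.eq_of_beq_eq_true e4,
      Nat.eq_of_beq_eq_true e5]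
    exact hR S hS

theorem Move.not_range (M : Move B) : M.n ∉ B.ψ.range := by
  rintro ⟨u, hu⟩
  have h := M.conj _ (gi_spec (a := 2) (by norm_num)).1
  have hh := List.all_eq_true.mp img_ok M.k (List.mem_range.mpr M.hk)
  simp only [Bool.and_eq_true] at hh
  rw [kx_gi_two, ← hu, ← map_inv, ← map_mul, ← map_mul,
    show elt (img M.k (gi 2)) = zx * tx from
      rp_eq (img_spec M.hk (gi_spec (a := 2) (by norm_num)).1).1 (rp_mul zc_spec tx_spec) hh.1.2] at h
  have h2 := B.inj h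
  rw [← zx_central, mul_assoc, mul_inv_cancel, mul_one] at h2
  exact tx_ne_one (mul_left_cancel (h2.symm.trans (mul_one zx).symm))

theorem Move.collapse (M : Move B) {D : Dat} {get : ℕ → ℕ} {N g d : ℕ} (hc : ∀ m < N, factB D get m = true)
    (hg : g < N ∧ d < N ∧ (!isE (get g) && isE (get d) && Nat.beq (opF (get d)) 0 && Nat.beq (aF (get d)) 0 &&
      Nat.beq (bF (get d)) (aF (get g)) && Nat.beq (bF (get g)) 0) = true) (S : Sys D B.ψ M.n) : False :=
  M.not_range (mem_of_collapse (all_good S hc g hg.1) (all_good S hc d hg.2.1) hg.2.2)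

theorem Move.tri_rel (M : Move B) {i : ℕ} (hi : i < tris.length) {k : ℕ} (hk : M.k = k)
    (hik : (tri i).k = k := by rfl) : ∃ j < (tri i).es.length, RelOK B M.n ((tri i).rel ((tri i).es.getD j 0)) := by
  have hmem : tri i ∈ tris := by rw [tri, List.getD_eq_getElem _ _ hi]; exact List.getElem_mem _
  obtain ⟨e, he, A, A', E, h1, h2, h3, h4, h5, h6⟩ := M.triangle hmem (hk.trans hik.symm)
  obtain ⟨j, hj, rfl⟩ := List.getElem_of_mem he
  refine ⟨j, hj, A, A', h1, h2, ?_, h3, h4⟩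
  rw [Tri.rel, List.getD_eq_getElem _ _ hj, ← h6]
  exact h5

theorem case_one (M : Move B) : M.k ≠ 1 := fun hk => by
  obtain ⟨j, hj, -⟩ := M.tri_rel (i := 2) (by decide) hk
  rw [show (tri 2).es.length = 0 from by rfl] at hj
  exact Nat.not_lt_zero _ hj

theorem case_three (M : Move B) : M.k ≠ 3 := fun hk => by
  obtain ⟨j, hj, -⟩ := M.tri_rel (i := 5) (by decide) hk
  rw [show (tri 5).es.length = 0 from by rfl] at hj
  exact Nat.not_lt_zero _ hj

theorem wr_split (M : Move B) (hk : M.k = 0) (h24 : RelOK B M.n ((tri 1).rel ((tri 1).es.getD 6 0))) :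
    Sys Wr.D B.ψ M.n := by
  obtain ⟨b, hb, hR⟩ := M.tri_rel (i := 0) (by decide) hk
  rw [show (tri 0).es.length = 8 from by rfl] at hb
  interval_cases b
  · exact (M.collapse A6x0.checked A6x0.goal (M.mkSys (D := A6x0.D) (allowed := [(tri 1).rel ((tri 1).es.getD 6 0), (tri 0).rel ((tri 0).es.getD 0 0)]) rfl (hk.symm ▸ act0_ok) (by decide +kernel) (pair_rel h24 hR))).elim
  · exact (M.collapse A6x1.checked A6x1.goal (M.mkSys (D := A6x1.D) (allowed := [(tri 1).rel ((tri 1).es.getD 6 0), (tri 0).rel ((tri 0).es.getD 1 0)]) rfl (hk.symm ▸ act0_ok) (by decide +kernel) (pair_rel h24 hR))).elim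
  · exact (M.collapse A6x2.checked A6x2.goal (M.mkSys (D := A6x2.D) (allowed := [(tri 1).rel ((tri 1).es.getD 6 0), (tri 0).rel ((tri 0).es.getD 2 0)]) rfl (hk.symm ▸ act0_ok) (by decide +kernel) (pair_rel h24 hR))).elim
  · exact (M.collapse A6x3.checked A6x3.goal (M.mkSys (D := A6x3.D) (allowed := [(tri 1).rel ((tri 1).es.getD 6 0), (tri 0).rel ((tri 0).es.getD 3 0)]) rfl (hk.symm ▸ act0_ok) (by decide +kernel) (pair_rel h24 hR))).elim
  · exact M.mkSys (allowed := [(tri 1).rel ((tri 1).es.getD 6 0), (tri 0).rel ((tri 0).es.getD 4 0)]) rfl (hk.symm ▸ act0_ok) (by decide +kernel) (pair_rel h24 hR)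
  · exact (M.collapse A6x5.checked A6x5.goal (M.mkSys (D := A6x5.D) (allowed := [(tri 1).rel ((tri 1).es.getD 6 0), (tri 0).rel ((tri 0).es.getD 5 0)]) rfl (hk.symm ▸ act0_ok) (by decide +kernel) (pair_rel h24 hR))).elim
  · exact (M.collapse A6x6.checked A6x6.goal (M.mkSys (D := A6x6.D) (allowed := [(tri 1).rel ((tri 1).es.getD 6 0), (tri 0).rel ((tri 0).es.getD 6 0)]) rfl (hk.symm ▸ act0_ok) (by decide +kernel) (pair_rel h24 hR))).elim
  · exact (M.collapse A6x7.checked A6x7.goal (M.mkSys (D := A6x7.D) (allowed := [(tri 1).rel ((tri 1).es.getD 6 0), (tri 0).rel ((tri 0).es.getD 7 0)]) rfl (hk.symm ▸ act0_ok) (by decide +kernel) (pair_rel h24 hR))).elim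

theorem coA_split (M : Move B) (hk : M.k = 2) (h24 : RelOK B M.n ((tri 4).rel ((tri 4).es.getD 2 0))) :
    Sys CoA.D B.ψ M.n := by
  obtain ⟨b, hb, hR⟩ := M.tri_rel (i := 3) (by decide) hk
  rw [show (tri 3).es.length = 8 from by rfl] at hb
  interval_cases b
  · exact (M.collapse B2x0.checked B2x0.goal (M.mkSys (D := B2x0.D) (allowed := [(tri 4).rel ((tri 4).es.getD 2 0), (tri 3).rel ((tri 3).es.getD 0 0)]) rfl (hk.symm ▸ act2_ok) (by decide +kernel) (pair_rel h24 hR))).elim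
  · exact (M.collapse B2x1.checked B2x1.goal (M.mkSys (D := B2x1.D) (allowed := [(tri 4).rel ((tri 4).es.getD 2 0), (tri 3).rel ((tri 3).es.getD 1 0)]) rfl (hk.symm ▸ act2_ok) (by decide +kernel) (pair_rel h24 hR))).elim
  · exact M.mkSys (allowed := [(tri 4).rel ((tri 4).es.getD 2 0), (tri 3).rel ((tri 3).es.getD 2 0)]) rfl (hk.symm ▸ act2_ok) (by decide +kernel) (pair_rel h24 hR)
  · exact (M.collapse B2x3.checked B2x3.goal (M.mkSys (D := B2x3.D) (allowed := [(tri 4).rel ((tri 4).es.getD 2 0), (tri 3).rel ((tri 3).es.getD 3 0)]) rfl (hk.symm ▸ act2_ok) (by decide +kernel) (pair_rel h24 hR))).elim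
  · exact (M.collapse B2x4.checked B2x4.goal (M.mkSys (D := B2x4.D) (allowed := [(tri 4).rel ((tri 4).es.getD 2 0), (tri 3).rel ((tri 3).es.getD 4 0)]) rfl (hk.symm ▸ act2_ok) (by decide +kernel) (pair_rel h24 hR))).elim
  · exact (M.collapse B2x5.checked B2x5.goal (M.mkSys (D := B2x5.D) (allowed := [(tri 4).rel ((tri 4).es.getD 2 0), (tri 3).rel ((tri 3).es.getD 5 0)]) rfl (hk.symm ▸ act2_ok) (by decide +kernel) (pair_rel h24 hR))).elim
  · exact (M.collapse B2x6.checked B2x6.goal (M.mkSys (D := B2x6.D) (allowed := [(tri 4).rel ((tri 4).es.getD 2 0), (tri 3).rel ((tri 3).es.getD 6 0)]) rfl (hk.symm ▸ act2_ok) (by decide +kernel) (pair_rel h24 hR))).elim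
  · exact (M.collapse B2x7.checked B2x7.goal (M.mkSys (D := B2x7.D) (allowed := [(tri 4).rel ((tri 4).es.getD 2 0), (tri 3).rel ((tri 3).es.getD 7 0)]) rfl (hk.symm ▸ act2_ok) (by decide +kernel) (pair_rel h24 hR))).elim

theorem coB_split (M : Move B) (hk : M.k = 2) (h24 : RelOK B M.n ((tri 4).rel ((tri 4).es.getD 8 0))) :
    Sys CoB.D B.ψ M.n := by
  obtain ⟨b, hb, hR⟩ := M.tri_rel (i := 3) (by decide) hk
  rw [show (tri 3).es.length = 8 from by rfl] at hb
  interval_cases b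
  · exact (M.collapse B8x0.checked B8x0.goal (M.mkSys (D := B8x0.D) (allowed := [(tri 4).rel ((tri 4).es.getD 8 0), (tri 3).rel ((tri 3).es.getD 0 0)]) rfl (hk.symm ▸ act2_ok) (by decide +kernel) (pair_rel h24 hR))).elim
  · exact (M.collapse B8x1.checked B8x1.goal (M.mkSys (D := B8x1.D) (allowed := [(tri 4).rel ((tri 4).es.getD 8 0), (tri 3).rel ((tri 3).es.getD 1 0)]) rfl (hk.symm ▸ act2_ok) (by decide +kernel) (pair_rel h24 hR))).elim
  · exact M.mkSys (allowed := [(tri 4).rel ((tri 4).es.getD 8 0), (tri 3).rel ((tri 3).es.getD 2 0)]) rfl (hk.symm ▸ act2_ok) (by decide +kernel) (pair_rel h24 hR)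
  · exact (M.collapse B8x3.checked B8x3.goal (M.mkSys (D := B8x3.D) (allowed := [(tri 4).rel ((tri 4).es.getD 8 0), (tri 3).rel ((tri 3).es.getD 3 0)]) rfl (hk.symm ▸ act2_ok) (by decide +kernel) (pair_rel h24 hR))).elim
  · exact (M.collapse B8x4.checked B8x4.goal (M.mkSys (D := B8x4.D) (allowed := [(tri 4).rel ((tri 4).es.getD 8 0), (tri 3).rel ((tri 3).es.getD 4 0)]) rfl (hk.symm ▸ act2_ok) (by decide +kernel) (pair_rel h24 hR))).elim
  · exact (M.collapse B8x5.checked B8x5.goal (M.mkSys (D := B8x5.D) (allowed := [(tri 4).rel ((tri 4).es.getD 8 0), (tri 3).rel ((tri 3).es.getD 5 0)]) rfl (hk.symm ▸ act2_ok) (by decide +kernel) (pair_rel h24 hR))).elim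
  · exact (M.collapse B8x6.checked B8x6.goal (M.mkSys (D := B8x6.D) (allowed := [(tri 4).rel ((tri 4).es.getD 8 0), (tri 3).rel ((tri 3).es.getD 6 0)]) rfl (hk.symm ▸ act2_ok) (by decide +kernel) (pair_rel h24 hR))).elim
  · exact (M.collapse B8x7.checked B8x7.goal (M.mkSys (D := B8x7.D) (allowed := [(tri 4).rel ((tri 4).es.getD 8 0), (tri 3).rel ((tri 3).es.getD 7 0)]) rfl (hk.symm ▸ act2_ok) (by decide +kernel) (pair_rel h24 hR))).elim

theorem cases0 (M : Move B) (hk : M.k = 0) : Sys Wr.D B.ψ M.n := by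
  obtain ⟨i, hi, hR⟩ := M.tri_rel (i := 1) (by decide) hk
  rw [show (tri 1).es.length = 16 from by rfl] at hi
  interval_cases i
  · exact (M.collapse A0.checked A0.goal (M.mkSys (D := A0.D) (allowed := [(tri 1).rel ((tri 1).es.getD 0 0)]) rfl (hk.symm ▸ act0_ok) (by decide +kernel) (one_rel hR))).elim
  · exact (M.collapse A1.checked A1.goal (M.mkSys (D := A1.D) (allowed := [(tri 1).rel ((tri 1).es.getD 1 0)]) rfl (hk.symm ▸ act0_ok) (by decide +kernel) (one_rel hR))).elim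
  · exact (M.collapse A2.checked A2.goal (M.mkSys (D := A2.D) (allowed := [(tri 1).rel ((tri 1).es.getD 2 0)]) rfl (hk.symm ▸ act0_ok) (by decide +kernel) (one_rel hR))).elim
  · exact (M.collapse A3.checked A3.goal (M.mkSys (D := A3.D) (allowed := [(tri 1).rel ((tri 1).es.getD 3 0)]) rfl (hk.symm ▸ act0_ok) (by decide +kernel) (one_rel hR))).elim
  · exact (M.collapse A4.checked A4.goal (M.mkSys (D := A4.D) (allowed := [(tri 1).rel ((tri 1).es.getD 4 0)]) rfl (hk.symm ▸ act0_ok) (by decide +kernel) (one_rel hR))).elim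
  · exact (M.collapse A5.checked A5.goal (M.mkSys (D := A5.D) (allowed := [(tri 1).rel ((tri 1).es.getD 5 0)]) rfl (hk.symm ▸ act0_ok) (by decide +kernel) (one_rel hR))).elim
  · exact (wr_split M hk hR)
  · exact (M.collapse A7.checked A7.goal (M.mkSys (D := A7.D) (allowed := [(tri 1).rel ((tri 1).es.getD 7 0)]) rfl (hk.symm ▸ act0_ok) (by decide +kernel) (one_rel hR))).elim
  · exact (M.collapse A8.checked A8.goal (M.mkSys (D := A8.D) (allowed := [(tri 1).rel ((tri 1).es.getD 8 0)]) rfl (hk.symm ▸ act0_ok) (by decide +kernel) (one_rel hR))).elim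
  · exact (M.collapse A9.checked A9.goal (M.mkSys (D := A9.D) (allowed := [(tri 1).rel ((tri 1).es.getD 9 0)]) rfl (hk.symm ▸ act0_ok) (by decide +kernel) (one_rel hR))).elim
  · exact (M.collapse A10.checked A10.goal (M.mkSys (D := A10.D) (allowed := [(tri 1).rel ((tri 1).es.getD 10 0)]) rfl (hk.symm ▸ act0_ok) (by decide +kernel) (one_rel hR))).elim
  · exact (M.collapse A11.checked A11.goal (M.mkSys (D := A11.D) (allowed := [(tri 1).rel ((tri 1).es.getD 11 0)]) rfl (hk.symm ▸ act0_ok) (by decide +kernel) (one_rel hR))).elim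
  · exact (M.collapse A12.checked A12.goal (M.mkSys (D := A12.D) (allowed := [(tri 1).rel ((tri 1).es.getD 12 0)]) rfl (hk.symm ▸ act0_ok) (by decide +kernel) (one_rel hR))).elim
  · exact (M.collapse A13.checked A13.goal (M.mkSys (D := A13.D) (allowed := [(tri 1).rel ((tri 1).es.getD 13 0)]) rfl (hk.symm ▸ act0_ok) (by decide +kernel) (one_rel hR))).elim
  · exact (M.collapse A14.checked A14.goal (M.mkSys (D := A14.D) (allowed := [(tri 1).rel ((tri 1).es.getD 14 0)]) rfl (hk.symm ▸ act0_ok) (by decide +kernel) (one_rel hR))).elim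
  · exact (M.collapse A15.checked A15.goal (M.mkSys (D := A15.D) (allowed := [(tri 1).rel ((tri 1).es.getD 15 0)]) rfl (hk.symm ▸ act0_ok) (by decide +kernel) (one_rel hR))).elim

theorem cases2 (M : Move B) (hk : M.k = 2) : Sys CoA.D B.ψ M.n ∨ Sys CoB.D B.ψ M.n := by
  obtain ⟨i, hi, hR⟩ := M.tri_rel (i := 4) (by decide) hk
  rw [show (tri 4).es.length = 16 from by rfl] at hi
  interval_cases i
  · exact (M.collapse B0.checked B0.goal (M.mkSys (D := B0.D) (allowed := [(tri 4).rel ((tri 4).es.getD 0 0)]) rfl (hk.symm ▸ act2_ok) (by decide +kernel) (one_rel hR))).elim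
  · exact (M.collapse B1.checked B1.goal (M.mkSys (D := B1.D) (allowed := [(tri 4).rel ((tri 4).es.getD 1 0)]) rfl (hk.symm ▸ act2_ok) (by decide +kernel) (one_rel hR))).elim
  · exact Or.inl (coA_split M hk hR)
  · exact (M.collapse B3.checked B3.goal (M.mkSys (D := B3.D) (allowed := [(tri 4).rel ((tri 4).es.getD 3 0)]) rfl (hk.symm ▸ act2_ok) (by decide +kernel) (one_rel hR))).elim
  · exact (M.collapse B4.checked B4.goal (M.mkSys (D := B4.D) (allowed := [(tri 4).rel ((tri 4).es.getD 4 0)]) rfl (hk.symm ▸ act2_ok) (by decide +kernel) (one_rel hR))).elim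
  · exact (M.collapse B5.checked B5.goal (M.mkSys (D := B5.D) (allowed := [(tri 4).rel ((tri 4).es.getD 5 0)]) rfl (hk.symm ▸ act2_ok) (by decide +kernel) (one_rel hR))).elim
  · exact (M.collapse B6.checked B6.goal (M.mkSys (D := B6.D) (allowed := [(tri 4).rel ((tri 4).es.getD 6 0)]) rfl (hk.symm ▸ act2_ok) (by decide +kernel) (one_rel hR))).elim
  · exact (M.collapse B7.checked B7.goal (M.mkSys (D := B7.D) (allowed := [(tri 4).rel ((tri 4).es.getD 7 0)]) rfl (hk.symm ▸ act2_ok) (by decide +kernel) (one_rel hR))).elim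
  · exact Or.inr (coB_split M hk hR)
  · exact (M.collapse B9.checked B9.goal (M.mkSys (D := B9.D) (allowed := [(tri 4).rel ((tri 4).es.getD 9 0)]) rfl (hk.symm ▸ act2_ok) (by decide +kernel) (one_rel hR))).elim
  · exact (M.collapse B10.checked B10.goal (M.mkSys (D := B10.D) (allowed := [(tri 4).rel ((tri 4).es.getD 10 0)]) rfl (hk.symm ▸ act2_ok) (by decide +kernel) (one_rel hR))).elim
  · exact (M.collapse B11.checked B11.goal (M.mkSys (D := B11.D) (allowed := [(tri 4).rel ((tri 4).es.getD 11 0)]) rfl (hk.symm ▸ act2_ok) (by decide +kernel) (one_rel hR))).elim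
  · exact (M.collapse B12.checked B12.goal (M.mkSys (D := B12.D) (allowed := [(tri 4).rel ((tri 4).es.getD 12 0)]) rfl (hk.symm ▸ act2_ok) (by decide +kernel) (one_rel hR))).elim
  · exact (M.collapse B13.checked B13.goal (M.mkSys (D := B13.D) (allowed := [(tri 4).rel ((tri 4).es.getD 13 0)]) rfl (hk.symm ▸ act2_ok) (by decide +kernel) (one_rel hR))).elim
  · exact (M.collapse B14.checked B14.goal (M.mkSys (D := B14.D) (allowed := [(tri 4).rel ((tri 4).es.getD 14 0)]) rfl (hk.symm ▸ act2_ok) (by decide +kernel) (one_rel hR))).elim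
  · exact (M.collapse B15.checked B15.goal (M.mkSys (D := B15.D) (allowed := [(tri 4).rel ((tri 4).es.getD 15 0)]) rfl (hk.symm ▸ act2_ok) (by decide +kernel) (one_rel hR))).elim

/-- The three configurations. -/
theorem Move.config (M : Move B) : Sys Wr.D B.ψ M.n ∨ Sys CoA.D B.ψ M.n ∨ Sys CoB.D B.ψ M.n := by
  have hk := M.hk
  rcases (by omega : M.k = 0 ∨ M.k = 1 ∨ M.k = 2 ∨ M.k = 3) with h | h | h | h
  · exact Or.inl (cases0 M h)
  · exact absurd h (case_one M)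
  · exact Or.inr (cases2 M h)
  · exact absurd h (case_three M)

end CfsgLib.Co3M12
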