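/-
Checks of a certificate in pieces.
-/
import Cfsg.Agent.Lib.Co3M12.Count

set_option autoImplicit false

namespace CfsgLib.Co3M12.Eng

open CfsgPC

/-- The facts `a, ..., a + len - 1` follow from earlier ones. -/
def rangeB (D : Dat) (get : ℕ → ℕ) (a len : ℕ) : Bool := (List.range len).all fun d => factB D get (a + d)

theorem range_zero {D : Dat} {get : ℕ → ℕ} : ∀ m < 0, factB D get m = true := fun _ h => absurd h (Nat.not_lt_zero _)

theorem range_step {D : Dat} {get : ℕ → ℕ} {a len : ℕ} (h : ∀ m < a, factB D get m = true)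
    (hr : rangeB D get a len = true) : ∀ m < a + len, factB D get m = true := fun m hm => by
  rcases Nat.lt_or_ge m a with h' | h'
  · exact h m h'
  · have := List.all_eq_true.mp hr (m - a) (List.mem_range.mpr (by omega))
    rwa [Nat.add_sub_cancel' h'] at this

/-- Classes `a, ..., a + len - 1` are closed. -/
def closedRangeB (D : Dat) (get : ℕ → ℕ) (N : ℕ) (clo : ℕ → ℕ → ℕ) (reps : List (ℕ × ℕ)) (M a len : ℕ) : Bool :=
  (List.range len).all fun d => closedB D get N clo reps M (a + d)

/-- All classes have their lists of fixing elements. -/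
def stabsB (get : ℕ → ℕ) (M : ℕ) (els : List (List (ℕ × ℕ × ℕ))) : Bool :=
  (List.range els.length).all fun i => stabB get M i (els.getD i []) && (els.getD i []).all fun e => canonB e.1

theorem stabs_spec {get : ℕ → ℕ} {M : ℕ} {els : List (List (ℕ × ℕ × ℕ))} (h : stabsB get M els = true) :
    (∀ i < els.length, stabB get M i (els.getD i []) = true) ∧
      ∀ i < els.length, ∀ k < (els.getD i []).length, canonB ((els.getD i []).getD k (0, 0, 0)).1 = true := by
  simp only [stabsB, List.all_eq_true, List.mem_range, Bool.and_eq_true] at h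
  exact ⟨fun i hi => (h i hi).1, fun i hi k hk => (h i hi).2 _ (by
    rw [List.getD_eq_getElem _ _ hk]; exact List.getElem_mem _)⟩

/-- The lookup table of a closure. -/
def cloOf (T : FTree) (i p : ℕ) : ℕ := T.get (i * 512 + p)

end CfsgLib.Co3M12.Eng
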