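/-
A configuration realised in a model of the same order gives a homomorphism from the model.
-/
import Cfsg.Agent.Lib.Co3M12.Ranges

set_option autoImplicit false

namespace CfsgLib.Co3M12.Eng

open Equiv Subgroup CfsgPC

variable {U : Subgroup (Perm (Fin 14))} {P Q : Type*} [Group P] [Group Q] {D : Dat}

/-- The system in the product, restricted to the subgroup it generates. -/
theorem Sys.pair {ψ : U →* P} {φ : U →* Q} {n : P} {m : Q} (S : Sys D ψ n) (T : Sys D φ m) :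
    Sys D ((ψ.prod φ).codRestrict (closure (Set.range (ψ.prod φ) ∪ {(n, m)}))
        fun u => subset_closure (Or.inl ⟨u, rfl⟩))
      ⟨(n, m), subset_closure (Or.inr rfl)⟩ := by
  set H : Subgroup (P × Q) := closure (Set.range (ψ.prod φ) ∪ {(n, m)}) with hH
  set χ : U →* H := (ψ.prod φ).codRestrict H fun u => subset_closure (Or.inl ⟨u, rfl⟩) with hχ
  have key : ∀ {c : ℕ} {p : P} {q : Q}, Cd ψ c p → Cd φ c q → ∀ (h : (p, q) ∈ H), Cd χ c ⟨(p, q), h⟩ := by
    rintro c p q ⟨u, hu, rfl⟩ ⟨v, hv, rfl⟩ h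
    obtain rfl : v = u := Subtype.ext (hv.unique hu)
    exact ⟨v, hu, rfl⟩
  have mem : ∀ {c : ℕ} {p : P} {q : Q}, Cd ψ c p → Cd φ c q → (p, q) ∈ H := by
    rintro c p q ⟨u, hu, rfl⟩ ⟨v, hv, rfl⟩
    rw [show v = u from Subtype.ext (hv.unique hu)]
    exact subset_closure (Or.inl ⟨u, rfl⟩)
  refine ⟨fun c hc => ?_, fun e he => ?_, ⟨?_, ?_⟩, fun R hR => ?_⟩
  · obtain ⟨p, u, hu, rfl⟩ := S.mem c hc
    exact ⟨χ u, u, hu, rfl⟩
  · obtain ⟨A, K, hA, hK, e1⟩ := S.conj e he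
    obtain ⟨A', K', hA', hK', e2⟩ := T.conj e he
    exact ⟨⟨_, mem hA hA'⟩, ⟨_, mem hK hK'⟩, key hA hA' _, key hK hK' _, Subtype.ext (Prod.ext e1 e2)⟩
  · exact key S.sq.1 T.sq.1 (mem S.sq.1 T.sq.1)
  · exact key S.sq.2 T.sq.2 (mem S.sq.2 T.sq.2)
  · obtain ⟨A, B, hA, hB, hE, hAi, hBi⟩ := S.rel R hR
    obtain ⟨A', B', hA', hB', hE', hAi', hBi'⟩ := T.rel R hR
    exact ⟨⟨_, mem hA hA'⟩, ⟨_, mem hB hB'⟩, key hA hA' _, key hB hB' _, key hE hE' (mem hE hE'),
      key hAi hAi' (mem hAi hAi'), key hBi hBi' (mem hBi hBi')⟩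

/-- A model of the largest possible order maps to every realisation. -/
theorem exists_lift [Finite P] [Finite Q] {ψ : U →* P} {φ : U →* Q} {n : P} {m : Q} (S : Sys D ψ n)
    (T : Sys D φ m) (hgen : closure (Set.range φ ∪ {m}) = (⊤ : Subgroup Q))
    (hbound : ∀ (H : Subgroup (P × Q)) (χ : U →* H) (k : H), Sys D χ k →
      closure (Set.range χ ∪ {k}) = (⊤ : Subgroup H) → Nat.card H ≤ Nat.card Q) :
    ∃ Φ : Q →* P, (∀ u, Φ (φ u) = ψ u) ∧ Φ m = n := by
  set H : Subgroup (P × Q) := closure (Set.range (ψ.prod φ) ∪ {(n, m)}) with hH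
  set χ : U →* H := (ψ.prod φ).codRestrict H fun u => subset_closure (Or.inl ⟨u, rfl⟩) with hχ
  set k : H := ⟨(n, m), subset_closure (Or.inr rfl)⟩ with hk
  have htop : closure (Set.range χ ∪ {k}) = (⊤ : Subgroup H) := by
    refine Subgroup.map_injective H.subtype_injective ?_
    rw [MonoidHom.map_closure, ← MonoidHom.range_eq_map, range_subtype, Set.image_union, Set.image_singleton,
      ← Set.range_comp]
    rfl
  have hb := hbound H χ k (S.pair T) htop
  let π : H →* Q := (MonoidHom.snd P Q).comp H.subtype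
  have hs : Function.Surjective π := by
    rw [← MonoidHom.range_eq_top, eq_top_iff, ← hgen, closure_le]
    rintro q (⟨u, rfl⟩ | hq)
    · exact ⟨χ u, rfl⟩
    · exact ⟨k, (Set.mem_singleton_iff.mp hq).symm⟩
  have hcard : Nat.card H = Nat.card Q := le_antisymm hb (Nat.card_le_card_of_surjective π hs)
  have hbij : Function.Bijective π := (Nat.bijective_iff_surjective_and_card π).mpr ⟨hs, hcard⟩
  let e := MulEquiv.ofBijective π hbij
  refine ⟨((MonoidHom.fst P Q).comp H.subtype).comp e.symm.toMonoidHom, fun u => ?_, ?_⟩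
  · show ((e.symm (e (χ u)) : H) : P × Q).1 = ψ u
    rw [e.symm_apply_apply]
    rfl
  · show ((e.symm (e k) : H) : P × Q).1 = n
    rw [e.symm_apply_apply]

end CfsgLib.Co3M12.Eng
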