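/-
A configuration checked inside the group of the letters on 276 points.
-/
import Cfsg.Agent.Lib.Co3Recog.M
import Cfsg.Agent.Lib.Co3M12.Normal
import Cfsg.Agent.Lib.Co3M12.Product

set_option autoImplicit false
set_option maxRecDepth 100000
set_option maxHeartbeats 1000000

namespace CfsgLib.Co3M12

open Equiv Subgroup CfsgPC Eng
open CfsgLib.Co3Recog.Base (permsB siftsB blockB el tableB levLen exists_block_hom)
open CfsgLib.Co3Recog.Data (mLetters mInv mChain uM)
open CfsgLib.Co3Recog (M.Grp M.um)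

attribute [local irreducible] Data.chain mLetters mInv mChain

/-- The codes of a model. -/
structure MD where
  /-- images of the generators -/
  im : List ℕ
  /-- their inverses -/
  imi : List ℕ
  /-- pairs of generator and image -/
  gr : List ℕ
  /-- their inverses -/
  gri : List ℕ
  /-- the table of the pairs -/
  gch : List Level
  /-- the fusing involution -/
  nb : ℕ
  /-- a table of the images with the fusing involution -/
  tab : List Level
  /-- element, image, pair, inverse of the pair -/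
  pairs : List (ℕ × ℕ × ℕ × ℕ)

/-- The image of a named element. -/
def MD.look (X : MD) (c : ℕ) : ℕ := ((X.pairs.find? fun e => Nat.beq e.1 c).getD (0, 0, 0, 0)).2.1

/-- The element is named. -/
def MD.named (X : MD) (c : ℕ) : Bool := (X.pairs.find? fun e => Nat.beq e.1 c).isSome

/-- The codes fit together. -/
def MD.okB (X : MD) : Bool :=
  permsB 276 X.im X.imi && permsB 290 X.gr X.gri && permsB 14 Data.gens Data.invs && blockB 0 14 X.gr Data.gens &&
  blockB 14 276 X.gr X.im && Nat.beq X.im.length 4 && isPerm 276 X.nb X.nb && sift 276 mChain X.nb &&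
  siftsB 276 mChain X.im && Nat.beq (X.im.getD 3 0) uM

/-- The table of the pairs is closed. -/
def MD.graphB (X : MD) : Bool :=
  tableB 290 X.gch X.gr &&
  ((List.range X.gch.length).all fun j => closedOK 290 X.gch X.gr j 0 (levLen X.gch j)) &&
  ((gensAt 290 X.gch X.gr X.gch.length).all fun c => (List.range 290).all fun i => Nat.beq (ap c i) i) &&
  Nat.beq (sizeOfChain X.gch) 190080

/-- The images and the fusing involution generate. -/
def MD.genB (X : MD) : Bool :=
  tableB 276 X.tab (X.im ++ [X.nb]) && Nat.beq (sizeOfChain X.tab) 495766656000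

/-- The named elements have their images. -/
def MD.pairsB (X : MD) : Bool :=
  X.pairs.all fun e => isPerm 290 e.2.2.1 e.2.2.2 && sift 290 X.gch e.2.2.1 &&
    ((List.range 14).all fun i => Nat.beq (ap e.2.2.1 i) (ap e.1 i)) &&
    (List.range 276).all fun i => Nat.beq (ap e.2.2.1 (14 + i)) (14 + ap e.2.1 i)

/-- The element conjugates the generators of the common part as the action, and the relations hold. -/
def MD.eqsB (X : MD) (D : Dat) (k : ℕ) : Bool :=
  Nat.beq D.cc.1 one14 && Nat.beq D.cc.2 one14 &&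
  ((List.range 3).all fun a => X.named (gc a) && X.named (img k (gi a)) && (List.range 276).all fun i =>
    Nat.beq (ap X.nb (ap (X.look (gc a)) (ap X.nb i))) (ap (X.look (img k (gi a))) i)) &&
  D.rels.all fun R => X.named R.1 && X.named R.2.1 && X.named R.2.2.1 &&
    Nat.beq (cp 14 R.2.2.2.1 R.1) one14 && Nat.beq (cp 14 R.2.2.2.2 R.2.1) one14 &&
    (List.range 276).all fun i =>
      Nat.beq (ap X.nb (ap (X.look R.1) (ap X.nb (ap (X.look R.2.1) (ap X.nb i))))) (ap (X.look R.2.2.1) i)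

/-- The action is determined by the three generators, in any group. -/
theorem conj_gens {P : Type*} [Group P] {k : ℕ} (hk : k < 4) (f : UU →* P) {n : P}
    (h : ∀ a < 3, n * f (kx (gi a)) * n⁻¹ = f (elt (img k (gi a)))) :
    ∀ i < 384, n * f (kx i) * n⁻¹ = f (elt (img k i)) := by
  have hh := List.all_eq_true.mp img_ok k (List.mem_range.mpr hk)
  simp only [Bool.and_eq_true] at hh
  intro i
  induction i using Nat.strong_induction_on with
  | _ i ih =>
    intro hi
    by_cases h0 : i = 0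
    · subst h0
      rw [kx_zero, map_one, mul_one, mul_inv_cancel, rp_eq (img_spec hk hi).1 rp_one hh.1.1, map_one]
    · obtain ⟨hp, hg, e⟩ := kx_step hi h0
      have h2 := List.all_eq_true.mp hh.2 i (List.mem_range.mpr hi)
      simp only [Bool.and_eq_true, Bool.or_eq_true] at h2
      have e2 : elt (img k i) = elt (img k (Loc.keys.getD i (0, 0, 0, 0)).2.2.1) *
          elt (img k (gi (Loc.keys.getD i (0, 0, 0, 0)).2.2.2)) := by
        rcases h2.1.1.2 with h' | h'
        · exact absurd (Nat.eq_of_beq_eq_true h') h0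
        · exact rp_eq (img_spec hk hi).1
            (rp_mul (img_spec hk (hp.trans hi)).1 (img_spec hk (gi_spec hg).1).1) h'
      rw [e, e2, map_mul, map_mul, ← ih _ hp (hp.trans hi), ← h _ hg]
      group

/-- What the model gives. -/
theorem MD.spec (X : MD) (h0 : X.okB = true) (h1 : X.graphB = true) (h2 : X.genB = true) (h3 : X.pairsB = true)
    {D : Dat} {k : ℕ} (hk : k < 4) (hD : D.chain = Data.chain)
    (hact : ∀ q ∈ D.act.pairs, pos q.2 < 384 ∧ kc (pos q.2) = q.2 ∧ img k (pos q.2) = q.1)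
    (h4 : X.eqsB D k = true) :
    ∃ φ : UU →* M.Grp, ∃ n : M.Grp, Sys D φ n ∧ closure (Set.range φ ∪ {n}) = (⊤ : Subgroup M.Grp) ∧
      φ zx = M.um := by
  simp only [MD.okB, Bool.and_eq_true] at h0
  obtain ⟨⟨⟨⟨⟨⟨⟨⟨⟨him, hgr⟩, hU⟩, hb0⟩, hb1⟩, hlen⟩, hnp⟩, hns⟩, hisift⟩, hu3⟩ := h0
  simp only [MD.graphB, Bool.and_eq_true] at h1
  obtain ⟨⟨⟨ht, hclo⟩, hlast⟩, hsz⟩ := h1
  have hv := Co3Recog.Base.valid_of_perms hgr
  have hT := Co3Recog.Base.table_of ht
  have hprod : prodSet 290 X.gch = genG 290 X.gr := table_closed (by norm_num) hT hv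
    (fun j hj a ha g hg => of_closedOK (List.all_eq_true.mp hclo j (List.mem_range.mpr hj)) (Nat.zero_le _) ha g hg)
    (fun c hc i hi => Nat.eq_of_beq_eq_true (List.all_eq_true.mp (List.all_eq_true.mp hlast c hc) i
      (List.mem_range.mpr hi)))
  have hcard : Nat.card (genG 290 X.gr) = 190080 := by
    rw [← Nat.eq_of_beq_eq_true hsz, ← (table_products (by norm_num) hT hv).2, hprod, ← Nat.card_coe_set_eq]
    rfl
  obtain ⟨f1, r1, s1, g1⟩ := exists_block_hom (n := 290) (off := 0) (m := 14) (by norm_num) hgr hU hb0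
  obtain ⟨f2, r2, s2, g2⟩ := exists_block_hom (n := 290) (off := 14) (m := 276) (by norm_num) hgr him hb1
  have hbij : Function.Bijective f1.rangeRestrict := (Nat.bijective_iff_surjective_and_card _).mpr
    ⟨f1.rangeRestrict_surjective, by rw [hcard, r1]; exact closed.2.symm⟩
  let e : genG 290 X.gr ≃* UU := (MulEquiv.ofBijective _ hbij).trans (MulEquiv.subgroupCongr r1)
  have he : ∀ g, ((e g : UU) : Perm (Fin 14)) = f1 g := fun g => rfl
  have hle : genG 276 X.im ≤ M.Grp := Co3Recog.Base.genG_le him fun a ha =>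
    Co3Recog.Base.mem_table (by norm_num) Co3Recog.M.table Co3Recog.M.valid him hisift ha
  let φ : UU →* M.Grp := (f2.comp e.symm.toMonoidHom).codRestrict M.Grp fun u => hle (r2 ▸ ⟨e.symm u, rfl⟩)
  have hφ : ∀ g, ((φ (e g) : M.Grp) : Perm (Fin 276)) = f2 g := fun g => by
    show f2 (e.symm (e g)) = _
    rw [e.symm_apply_apply]
  have hnm : decP 276 X.nb ∈ M.Grp :=
    mem_of_sift (by norm_num) Co3Recog.M.table Co3Recog.M.valid _ _ (decP_rep hnp) hns
  let n : M.Grp := ⟨decP 276 X.nb, hnm⟩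
  have rn : Rep 276 X.nb (n : Perm (Fin 276)) := decP_rep hnp
  have rinv : (n : Perm (Fin 276))⁻¹ = (n : Perm (Fin 276)) :=
    (rep_inv (by norm_num) rn hnp).unique rn
  have hnn : n * n = 1 := by
    refine Subtype.ext ?_
    rw [Subgroup.coe_mul]
    conv_lhs => arg 1; rw [← rinv]
    exact inv_mul_cancel _
  have hninv : n⁻¹ = n := inv_eq_of_mul_eq_one_right hnn
  -- the named elements
  have hnamed : ∀ {c}, X.named c = true → ∃ u : UU, Rp c u ∧ Rep 276 (X.look c) (φ u : Perm (Fin 276)) := by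
    intro c hc
    obtain ⟨p, hp⟩ := Option.isSome_iff_exists.mp hc
    have hpc : p.1 = c := Nat.eq_of_beq_eq_true (List.find?_some hp :)
    have hpm := List.mem_of_find?_eq_some hp
    have h5 := List.all_eq_true.mp h3 p hpm
    simp only [Bool.and_eq_true, List.all_eq_true, List.mem_range] at h5
    obtain ⟨⟨⟨hperm, hs⟩, hlow⟩, hhigh⟩ := h5
    have hm := mem_of_sift (by norm_num) hT hv _ _ (decP_rep hperm) hs
    refine ⟨e ⟨_, hm⟩, fun i => ?_, fun i => ?_⟩
    · have h6 := s1 ⟨_, hm⟩ i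
      rw [← decP_rep hperm] at h6
      simp only [Nat.zero_add] at h6
      rw [Nat.eq_of_beq_eq_true (hlow i i.2), hpc] at h6
      exact h6
    · have h6 := s2 ⟨_, hm⟩ i
      rw [← decP_rep hperm] at h6
      rw [Nat.eq_of_beq_eq_true (hhigh i i.2)] at h6
      rw [hφ, show X.look c = p.2.1 from by rw [MD.look, hp, Option.getD_some]]
      omega
  simp only [MD.eqsB, Bool.and_eq_true, List.all_eq_true, List.mem_range] at h4
  obtain ⟨⟨⟨hc1, hc2⟩, hconj⟩, hrel⟩ := h4
  have hgen : ∀ a < 3, n * φ (kx (gi a)) * n⁻¹ = φ (elt (img k (gi a))) := by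
    intro a ha
    obtain ⟨⟨na, nb⟩, heq⟩ := hconj a ha
    obtain ⟨u, hu, ru⟩ := hnamed na
    obtain ⟨v, hv', rv⟩ := hnamed nb
    rw [← rp_unique hu (gc_spec ha), ← rp_unique hv' (img_spec hk (gi_spec ha).1).1, hninv]
    refine Subtype.ext (Equiv.ext fun i => Fin.ext ?_)
    rw [← rv i, ← Nat.eq_of_beq_eq_true (heq i i.2), Subgroup.coe_mul, Subgroup.coe_mul, rn i, ru, rn]
    rfl
  have hall := conj_gens hk φ hgen
  refine ⟨φ, n, ⟨fun c hc => ?_, fun q hq => ?_, ⟨?_, ?_⟩, fun R hR => ?_⟩, ?_, ?_⟩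
  · obtain ⟨u, hu⟩ := mem_of_memB hD hc
    exact ⟨_, u, hu, rfl⟩
  · obtain ⟨hp, he', hi⟩ := hact q hq
    refine ⟨φ (elt (img k (pos q.2))), φ (kx (pos q.2)), ⟨_, ?_, rfl⟩, ⟨_, ?_, rfl⟩, hall _ hp⟩
    · exact hi ▸ (img_spec hk hp).1
    · have h5 := (kc_spec hp).1
      rw [he'] at h5
      rw [kx, he']
      exact h5
  · rw [Nat.eq_of_beq_eq_true hc1, hnn]; exact Cd.one
  · rw [Nat.eq_of_beq_eq_true hc2, hnn, inv_one]; exact Cd.one
  · obtain ⟨⟨⟨⟨⟨n1, n2⟩, n3⟩, i1⟩, i2⟩, heq⟩ := hrel R hR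
    obtain ⟨u, hu, ru⟩ := hnamed n1
    obtain ⟨v, hv', rv⟩ := hnamed n2
    obtain ⟨w, hw, rw'⟩ := hnamed n3
    refine ⟨φ u, φ v, ⟨u, hu, rfl⟩, ⟨v, hv', rfl⟩, ⟨w, hw, ?_⟩, ⟨u⁻¹, rp_inv hu i1, map_inv _ _⟩,
      ⟨v⁻¹, rp_inv hv' i2, map_inv _ _⟩⟩
    refine Subtype.ext (Equiv.ext fun i => Fin.ext ?_)
    rw [← rw' i, ← Nat.eq_of_beq_eq_true (heq i i.2), Subgroup.coe_mul, Subgroup.coe_mul, Subgroup.coe_mul,
      Subgroup.coe_mul, rn i, rv, rn, ru, rn]
    rfl
  · refine eq_top_iff.mpr fun g _ => ?_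
    have hlow : genG 276 (X.im ++ [X.nb]) ≤ (closure (Set.range φ ∪ {n})).map M.Grp.subtype := by
      rw [genG, closure_le]
      rintro x ⟨c, hc, hx⟩
      rcases List.mem_append.mp hc with hc | hc
      · obtain ⟨u, rfl⟩ : x ∈ f2.range := r2 ▸ Valid.mem hc hx
        exact ⟨φ (e u), subset_closure (Or.inl ⟨_, rfl⟩), hφ u⟩
      · rw [List.mem_singleton] at hc
        subst hc
        exact ⟨n, subset_closure (Or.inr rfl), rn.unique hx⟩
    simp only [MD.genB, Bool.and_eq_true] at h2
    have hvt : Valid 276 (X.im ++ [X.nb]) := fun c hc => by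
      rcases List.mem_append.mp hc with hc | hc
      · exact Co3Recog.Base.valid_of_perms him c hc
      · rw [List.mem_singleton] at hc
        subst hc
        exact ⟨_, rn⟩
    have hge := Co3Recog.Base.size_le_card (by norm_num) hvt h2.1 hlow
    rw [Nat.eq_of_beq_eq_true h2.2, card_map_of_injective M.Grp.subtype_injective] at hge
    rw [eq_top_of_card_eq _ (le_antisymm (card_le_card_group _) (Co3Recog.M.closed.2.1.le.trans hge))]
    exact mem_top g
  · have h4' : Nat.beq X.im.length 4 = true := hlen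
    have hl : X.gr.length = 4 := by
      have := hb1
      simp only [blockB, Bool.and_eq_true] at this
      rw [Nat.eq_of_beq_eq_true this.1, Nat.eq_of_beq_eq_true h4']
    have h3' : 3 < X.gr.length := by omega
    set g3 : genG 290 X.gr := ⟨el 290 X.gr 3, Co3Recog.Base.el_mem_gen hgr h3'⟩
    have e3 : e g3 = zx := by
      refine rp_unique (c := Data.gens.getD 3 0) ?_ zx_spec
      rw [Rp, he, g1 3 h3']
      exact Co3Recog.Base.rep_el hU (by rw [data_checks.2.2.2.2.2]; norm_num)
    refine Subtype.ext ?_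
    rw [← e3, hφ, g2 3 h3']
    refine Co3Recog.Base.Fn.unique (Co3Recog.Base.rep_el him ?_) ?_
    · rw [Nat.eq_of_beq_eq_true h4']; norm_num
    · rw [Nat.eq_of_beq_eq_true hu3]
      exact Co3Recog.M.um_spec

end CfsgLib.Co3M12
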