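/-
The kernel checks of a model on 276 points.
-/
import Cfsg.Agent.Lib.Co3M12.ModelSpec
import Cfsg.Agent.Lib.Co3M12.CoAData
import Cfsg.Agent.Lib.Co3M12.Case.CoA.Dat

set_option autoImplicit false
set_option maxRecDepth 100000

namespace CfsgLib.Co3M12

open Eng CfsgPC

/-- The first model. -/
def mdA : MD := ⟨CoAModel.img, CoAModel.imgInv, CoAModel.graph, CoAModel.graphInv, CoAModel.gChain, CoAModel.nb,
  CoAModel.mTab, CoAModel.pairs⟩

theorem mdA_ok : mdA.okB = true := by decide +kernel

theorem mdA_graph : mdA.graphB = true := by decide +kernel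

theorem mdA_gen : mdA.genB = true := by decide +kernel

theorem mdA_pairs : mdA.pairsB = true := by decide +kernel

theorem mdA_eqs : mdA.eqsB CoA.D 2 = true := by decide +kernel

end CfsgLib.Co3M12
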