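/-
The kernel checks of a model on 276 points.
-/
import Cfsg.Agent.Lib.Co3M12.ModelSpec
import Cfsg.Agent.Lib.Co3M12.CoBData
import Cfsg.Agent.Lib.Co3M12.Case.CoB.Dat

set_option autoImplicit false
set_option maxRecDepth 100000

namespace CfsgLib.Co3M12

open Eng CfsgPC

/-- The second model. -/
def mdB : MD := ⟨CoBModel.img, CoBModel.imgInv, CoBModel.graph, CoBModel.graphInv, CoBModel.gChain, CoBModel.nb,
  CoBModel.mTab, CoBModel.pairs⟩

theorem mdB_ok : mdB.okB = true := by decide +kernel

theorem mdB_graph : mdB.graphB = true := by decide +kernel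

theorem mdB_gen : mdB.genB = true := by decide +kernel

theorem mdB_pairs : mdB.pairsB = true := by decide +kernel

theorem mdB_eqs : mdB.eqsB CoB.D 2 = true := by decide +kernel

end CfsgLib.Co3M12
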