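/-
The two configurations with a table of 2608200 cosets give a copy of the third Conway group.
-/
import Cfsg.Agent.Lib.Co3M12.Dispatch
import Cfsg.Agent.Lib.Co3M12.ModelChecksA
import Cfsg.Agent.Lib.Co3M12.ModelChecksB
import Cfsg.Agent.Lib.Co3M12.Case.CoA.Main
import Cfsg.Agent.Lib.Co3M12.Case.CoB.Main
import Cfsg.Agent.Lib.Co3M12.Cover2

set_option autoImplicit false
set_option maxRecDepth 100000
set_option linter.style.haveILetI false

namespace CfsgLib.Co3M12

open Equiv Subgroup CfsgPC Eng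
open CfsgLib.Co3Recog (M.Grp M.um)

attribute [local irreducible] Data.chain Co3Recog.Data.mLetters Co3Recog.Data.mChain

theorem gens_inv : ∀ c ∈ Data.gens, ∀ g, Rep 14 c g → ∃ c' ∈ Data.gens, Rep 14 c' g⁻¹ := by
  intro c hc g hg
  obtain ⟨i, hi, rfl⟩ := List.getElem_of_mem hc
  have h4 : i < 4 := data_checks.2.2.2.2.2 ▸ hi
  rw [← List.getD_eq_getElem _ 0 hi] at hg
  refine ⟨Data.invs.getD i 0, ?_, valid_inv h4 hg⟩
  rw [invs_in.2]
  have hm : ∀ j < 4, Data.gens.getD j 0 ∈ Data.gens := fun j hj => by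
    rw [List.getD_eq_getElem _ _ (data_checks.2.2.2.2.2.symm ▸ hj)]
    exact List.getElem_mem _
  interval_cases i <;> simp only [List.getD_cons_zero, List.getD_cons_succ]
  exacts [hm 0 (by norm_num), hm 2 (by norm_num), hm 1 (by norm_num), hm 3 (by norm_num)]

/-- A copy of the third Conway group containing the centraliser. -/
structure Copy {G : Type*} [Group G] (B : Base G) where
  /-- the map -/
  Φ : M.Grp →* G
  inj : Function.Injective Φ
  z_eq : Φ M.um = B.z
  le : B.ψ.range ≤ Φ.range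

theorem act_facts : ∀ q ∈ Act2.act.pairs, pos q.2 < 384 ∧ kc (pos q.2) = q.2 ∧ img 2 (pos q.2) = q.1 := by
  intro q hq
  have h := List.all_eq_true.mp act2_ok q hq
  simp only [inC, Bool.and_eq_true, Nat.blt_eq] at h
  exact ⟨h.1.1, Nat.eq_of_beq_eq_true h.1.2, Nat.eq_of_beq_eq_true h.2⟩

variable {G : Type*} [Group G] [Finite G] {B : Base G}

omit [Finite G] in
theorem copy_of_lift {φ : UU →* M.Grp} (hz : φ zx = M.um) {Φ : M.Grp →* G}
    (h : ∀ u, Φ (φ u) = B.ψ u) : Nonempty (Copy B) := by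
  haveI := Co3Recog.M.equiv_co3.2
  refine ⟨⟨Φ, ?_, by rw [← hz, h]; rfl, ?_⟩⟩
  · rcases (MonoidHom.normal_ker Φ).eq_bot_or_eq_top with e | e
    · exact (MonoidHom.ker_eq_bot_iff Φ).mp e
    · exfalso
      have h1 : Φ (φ zx) = 1 := MonoidHom.mem_ker.mp (e ▸ mem_top _)
      rw [h] at h1
      exact not_inL_zx (B.inj (h1.trans (map_one B.ψ).symm) ▸ rfl)
  · rintro _ ⟨u, rfl⟩
    exact ⟨φ u, h u⟩

theorem Move.copy (M' : Move B) (hS : Sys CoA.D B.ψ M'.n ∨ Sys CoB.D B.ψ M'.n) : Nonempty (Copy B) := by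
  rcases hS with hS | hS
  · obtain ⟨φ, m, hT, hgen, hz⟩ := mdA.spec mdA_ok mdA_graph mdA_gen mdA_pairs (D := CoA.D) (k := 2) (by norm_num)
      rfl act_facts mdA_eqs
    obtain ⟨Φ, h1, h2⟩ := exists_lift hS hT hgen fun H χ k hH htop => by
      obtain ⟨hst, hcan⟩ := stabs_spec CoA.stabs_ok
      refine (card_le hH rfl gens_inv (cover_act2 rfl rfl) (all_good hH CoA.checked) (clo := cloOf CoA.clo) (els := CoA.els)
        (fun i hi => ?_) hst hcan (by rw [CoA.bound_ok.2]; norm_num) closed.2 CoA.bound_ok.1 htop).trans ?_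
      · rw [CoA.bound_ok.2] at hi ⊢
        exact CoA.closed i hi
      · rw [Co3Recog.M.closed.2.1]
    exact copy_of_lift hz h1
  · obtain ⟨φ, m, hT, hgen, hz⟩ := mdB.spec mdB_ok mdB_graph mdB_gen mdB_pairs (D := CoB.D) (k := 2) (by norm_num)
      rfl act_facts mdB_eqs
    obtain ⟨Φ, h1, h2⟩ := exists_lift hS hT hgen fun H χ k hH htop => by
      obtain ⟨hst, hcan⟩ := stabs_spec CoB.stabs_ok
      refine (card_le hH rfl gens_inv (cover_act2 rfl rfl) (all_good hH CoB.checked) (clo := cloOf CoB.clo) (els := CoB.els)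
        (fun i hi => ?_) hst hcan (by rw [CoB.bound_ok.2]; norm_num) closed.2 CoB.bound_ok.1 htop).trans ?_
      · rw [CoB.bound_ok.2] at hi ⊢
        exact CoB.closed i hi
      · rw [Co3Recog.M.closed.2.1]
    exact copy_of_lift hz h1

end CfsgLib.Co3M12
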