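/-
The tests on the data for the centraliser of the fused involution.
-/
import Cfsg.Agent.Lib.StdCo3.Defs
import Cfsg.Agent.Lib.Co3M12.EndData

set_option autoImplicit false
set_option maxRecDepth 100000

namespace CfsgLib.Co3M12.End

open CfsgPC CfsgLib.Co3Recog.Base CfsgLib.Co3Recog.Data CfsgLib.StdCo3.Data

/-- Two maps commute on the bases. -/
def commB (f g : ℕ → ℕ) : Bool := eqB xBases (fun p => f (g p)) fun p => g (f p)

/-- The map is of one of the two kinds already controlled. -/
def goodB (b : ℕ → ℕ) : Bool :=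
  (eqB xBases (fun p => b (b p)) id && Nat.beq (fixCount 276 b) 12) ||
    (eqB xBases (fun p => b (b p)) (ap zC.1) && Nat.beq (fixCount 276 b) 8)

/-- Entry of an orbit. -/
def oc (i : ℕ) : ℕ := orb.getD i 0

/-- The second element from an entry. -/
def yF (k ai : ℕ) (p : ℕ) : ℕ := ap k (ap ai p)

/-- The product from an entry. -/
def qF (x k ai : ℕ) (p : ℕ) : ℕ := ap x (yF k ai p)

/-- The element a certificate names. -/
def bF' (x k ai a : ℕ) (e : ℕ) (p : ℕ) : ℕ :=
  let ap2 := match e % 4 with
    | 0 => p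
    | 1 => ap zC.1 p
    | 2 => ap a p
    | _ => ap ai p
  match e / 4 with
  | 0 => qF x k ai ap2
  | _ => qF x k ai (qF x k ai ap2)

/-- An entry is a candidate. -/
def candB (k a ai : ℕ) (tgt : ℕ → ℕ) (fx : ℕ) : Bool :=
  commB (ap k) (ap a) && eqB xBases (fun p => yF k ai (yF k ai p)) tgt && Nat.beq (fixCount 276 (yF k ai)) fx

/-- The named involution of a node is right. -/
def xOK (x : ℕ × ℕ) (a : ℕ) : Bool :=
  isPerm 339 x.1 x.2 && sift 339 xChain x.1 && eqB xBases (fun p => ap x.1 (ap x.1 p)) id &&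
    Nat.beq (fixCount 276 (ap x.1)) 12 && commB (ap x.1) (ap a)

/-- Every candidate gives an element already controlled. -/
def allB (ks : List ℕ) (x a ai : ℕ) (tgt : ℕ → ℕ) (fx : ℕ) (cert : List ℕ) (from' len : ℕ) : Bool :=
  (List.range len).all fun d =>
    let k := ks.getD (from' + d) 0
    !candB k a ai tgt fx || goodB (bF' x k ai a (cert.getD (from' + d) 0))

/-- A step of the orbit. -/
def orbStepB (i : ℕ) : Bool :=
  Nat.beq i 0 ||
    (Nat.blt (orbPar.getD i (0, 0)).1 i && Nat.blt (orbPar.getD i (0, 0)).2 6 &&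
      (List.range 339).all fun b => Nat.beq (ap (oc i) b)
        (ap (xGens.getD (orbPar.getD i (0, 0)).2 0) (ap (oc (orbPar.getD i (0, 0)).1)
          (ap (xGens.getD (orbPar.getD i (0, 0)).2 0) b))))

/-- The orbit is closed. -/
def orbNextB (i : ℕ) : Bool :=
  (List.range 6).all fun a => Nat.blt (orbNext.getD (i * 6 + a) 999) 126 &&
    eqB xBases (ap (oc (orbNext.getD (i * 6 + a) 999)))
      fun b => ap (xGens.getD a 0) (ap (oc i) (ap (xGens.getD a 0) b))

end CfsgLib.Co3M12.End
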