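/-
The kernel checks on the data for the centraliser of the fused involution.
-/
import Cfsg.Agent.Lib.Co3M12.EndDefs

set_option autoImplicit false
set_option maxRecDepth 100000

namespace CfsgLib.Co3M12.End

open CfsgPC CfsgLib.Co3Recog.Base CfsgLib.Co3Recog.Data CfsgLib.StdCo3.Data

theorem reps_ok : isPerm 339 c8.1 c8.2 = true ∧ sift 339 xChain c8.1 = true ∧ isPerm 339 c16.1 c16.2 = true ∧
    sift 339 xChain c16.1 = true ∧ eqB xBases (ap c8.1) (rf 2) = true ∧ eqB xBases (ap c16.1) (rf 3) = true ∧
    fixCount 276 (ap c8.1) = 8 ∧ fixCount 276 (ap c16.1) = 16 ∧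
    fixCount 276 (fun p => ap zC.1 (rf 1 p)) = 12 ∧ fixCount 276 (ap sC.1) = 36 := by decide +kernel

theorem orb_ok : Nat.beq (oc 0) c16.1 = true ∧ ((List.range 126).all fun i => orbStepB i && orbNextB i) = true := by
  decide +kernel

theorem words_ok : distinctB xBases xGens xGens c8.1 orbWords = true ∧ orbWords.length = 127 := by decide +kernel

theorem one_x : xOK oneX c8.1 = true ∧ candB (orb.getD oneE 0) c8.1 c8.2 id 12 = true ∧ oneE < 126 := by decide +kernel

theorem one_all : allB orb oneX.1 c8.1 c8.2 id 12 oneCert 0 126 = true := by decide +kernel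

theorem three_x : xOK threeX c16.1 = true ∧ candB (qc threeE) c16.1 c16.2 (ap zC.1) 8 = true ∧ threeE < 630 := by
  decide +kernel

theorem three_all0 : allB qsList threeX.1 c16.1 c16.2 (ap zC.1) 8 threeCert 0 210 = true := by decide +kernel

theorem three_all1 : allB qsList threeX.1 c16.1 c16.2 (ap zC.1) 8 threeCert 210 210 = true := by decide +kernel

theorem three_all2 : allB qsList threeX.1 c16.1 c16.2 (ap zC.1) 8 threeCert 420 210 = true := by decide +kernel

theorem two_x : xOK twoX sC.1 = true ∧ candB (orb.getD twoE 0) sC.1 sC.1 (ap zC.1) 8 = true ∧ twoE < 126 := by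
  decide +kernel

theorem two_all : allB orb twoX.1 sC.1 sC.1 (ap zC.1) 8 twoCert 0 126 = true := by decide +kernel

end CfsgLib.Co3M12.End
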