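/-
Classes inside the centraliser of the fused involution in the model.
-/
import Cfsg.Agent.Lib.StdCo3.Model
import Cfsg.Agent.Lib.Co3M12.EndChecks

set_option autoImplicit false
set_option linter.style.haveILetI false
set_option maxRecDepth 100000
set_option maxHeartbeats 1000000

namespace CfsgLib.Co3M12.End

open Equiv Subgroup CfsgPC CfsgLib.Co3Recog CfsgLib.Co3Recog.Base CfsgLib.Co3Recog.Data CfsgLib.StdCo3.Data
open CfsgLib.Co3Recog.X (Fx eqX z s num num_eq num_conj bases_lt' gen gen_spec gen_sq gen_ind xe xe_spec)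
open CfsgLib.StdCo3.Model (R R_spec R_zero R_sq classify z_comm)

attribute [local irreducible] xGens xInv xChain sChain zC sC uC repIx orb orbPar orbNext orbWords c8 c16 oneX threeX twoX
  oneCert threeCert twoCert qsList

theorem num_one : num (1 : X.Grp) = 276 := by
  rw [← num_eq Fx.one]; decide +kernel

theorem cR2 : Fx (ap c8.1) (R 2) ∧ Fx (ap c8.2) (R 2)⁻¹ := by
  obtain ⟨h1, h2, -, -, h5, -⟩ := reps_ok
  have h := xe_spec h1 h2
  rw [show xe c8.1 = R 2 from eqX h5 h (R_spec (by norm_num)).2] at h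
  exact ⟨h, fun i => rep_inv (by norm_num) h h1 i⟩

theorem cR3 : Fx (ap c16.1) (R 3) ∧ Fx (ap c16.2) (R 3)⁻¹ := by
  obtain ⟨-, -, h3, h4, -, h6, -⟩ := reps_ok
  have h := xe_spec h3 h4
  rw [show xe c16.1 = R 3 from eqX h6 h (R_spec (by norm_num)).2] at h
  exact ⟨h, fun i => rep_inv (by norm_num) h h3 i⟩

theorem nums : num (R 0) = 36 ∧ num (R 1) = 12 ∧ num (R 2) = 8 ∧ num (R 3) = 16 ∧ num (z * R 1) = 12 := by
  obtain ⟨-, -, -, -, -, -, h8, h16, hz1, hs⟩ := reps_ok
  refine ⟨by rw [R_zero, ← num_eq X.s_spec]; exact hs, ?_, ?_, ?_, ?_⟩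
  · rw [← num_eq (R_spec (by norm_num)).2]; exact rep_facts.2.1
  · rw [← num_eq cR2.1]; exact h8
  · rw [← num_eq cR3.1]; exact h16
  · rw [← num_eq (X.z_spec.mul (R_spec (by norm_num)).2)]; exact hz1

theorem z_ne : z ≠ 1 ∧ z * z = 1 := ⟨X.basic.1, X.basic.2.1⟩

theorem R_z_ne {c : ℕ} (hc : c < 4) : R c ≠ 1 ∧ R c ≠ z := by
  have hfacts := List.all_eq_true.mp rep_facts.2.2 c (List.mem_range.mpr hc)
  simp only [Bool.and_eq_true, Bool.not_eq_true'] at hfacts
  exact ⟨X.neX hfacts.1.1.1 (R_spec hc).2 Fx.one, X.neX hfacts.1.1.2 (R_spec hc).2 X.z_spec⟩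

theorem sq_conj {a b : X.Grp} (h : IsConj a b) (he : a * a = 1 ∨ a * a = z) : b * b = a * a := by
  obtain ⟨c, rfl⟩ := isConj_iff.mp h
  rw [show c * a * c⁻¹ * (c * a * c⁻¹) = c * (a * a) * c⁻¹ by group]
  rcases he with e | e
  · rw [e, mul_one, mul_inv_cancel]
  · rw [e, ← (z_comm c).eq, mul_inv_cancel_right]

theorem class_square {c : ℕ} (hc : c < 4) {x : X.Grp} (h : IsConj (R c) x) :
    (c < 2 → x * x = 1) ∧ (2 ≤ c → x * x = z) := by
  refine ⟨fun h2 => ?_, fun h2 => ?_⟩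
  · rw [sq_conj h (Or.inl ((R_sq hc).1.mpr h2)), (R_sq hc).1.mpr h2]
  · rw [sq_conj h (Or.inr ((R_sq hc).2 h2)), (R_sq hc).2 h2]

theorem class_one {x : X.Grp} (hx : x * x = 1) (hn : num x = 12) : IsConj (R 1) x := by
  obtain ⟨c, hc, h⟩ := classify (Or.inl hx) (fun e => by rw [e, num_one] at hn; omega)
    (fun e => by rw [e, X.num_named.1] at hn; omega)
  have h2 := class_square hc h
  have hnum := num_conj h
  interval_cases c
  · rw [nums.1, hn] at hnum; omega
  · exact h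
  · exact absurd ((h2.2 le_rfl).symm.trans hx) z_ne.1
  · exact absurd ((h2.2 (by norm_num)).symm.trans hx) z_ne.1

theorem class_two {x : X.Grp} (hx : x * x = z) (hn : num x = 8) : IsConj (R 2) x := by
  obtain ⟨c, hc, h⟩ := classify (Or.inr hx) (fun e => by rw [e, one_mul] at hx; exact z_ne.1 hx.symm)
    (fun e => by rw [e, z_ne.2] at hx; exact z_ne.1 hx.symm)
  have h2 := class_square hc h
  have hnum := num_conj h
  interval_cases c
  · exact absurd (hx.symm.trans (h2.1 (by norm_num))) z_ne.1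
  · exact absurd (hx.symm.trans (h2.1 (by norm_num))) z_ne.1
  · exact h
  · rw [nums.2.2.2.1, hn] at hnum; omega

theorem orb_spec : ∀ i < 126, ∃ g : X.Grp, Fx (ap (oc i)) g ∧ IsConj (R 3) g := by
  obtain ⟨h0, hall⟩ := orb_ok
  simp only [List.all_eq_true, List.mem_range, Bool.and_eq_true] at hall
  intro i
  induction i using Nat.strong_induction_on with
  | _ i ih =>
    intro hi
    have hs := (hall i hi).1
    simp only [orbStepB, Bool.or_eq_true, Bool.and_eq_true, Nat.blt_eq, List.all_eq_true, List.mem_range] at hs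
    rcases hs with h' | ⟨⟨hp, hj⟩, hpt⟩
    · rw [Nat.eq_of_beq_eq_true h', Nat.eq_of_beq_eq_true h0]; exact ⟨_, cR3.1, IsConj.refl _⟩
    · obtain ⟨g, hg, hc⟩ := ih _ hp (hp.trans hi)
      have hG := (gen_spec hj).2
      refine ⟨gen (orbPar.getD i (0, 0)).2 * (g * gen (orbPar.getD i (0, 0)).2), fun b => ?_,
        hc.trans (isConj_iff.mpr ⟨gen (orbPar.getD i (0, 0)).2, ?_⟩)⟩
      · rw [Nat.eq_of_beq_eq_true (hpt b b.2)]
        exact (hG.mul (hg.mul hG)) b
      · rw [inv_eq_of_mul_eq_one_right (gen_sq hj), mul_assoc]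

/-- The conjugates of the element with sixteen fixed points are in the list. -/
theorem class_three {x : X.Grp} (h : IsConj (R 3) x) : ∃ i < 126, Fx (ap (oc i)) x := by
  obtain ⟨h0, hall⟩ := orb_ok
  simp only [List.all_eq_true, List.mem_range, Bool.and_eq_true] at hall
  have hmem : ∀ i < 126, ∃ g : X.Grp, Fx (ap (oc i)) g := fun i hi => (orb_spec i hi).imp fun _ h => h.1
  have step : ∀ a < 6, ∀ y : X.Grp, (∃ i < 126, Fx (ap (oc i)) y) →
      ∃ i < 126, Fx (ap (oc i)) (gen a * y * (gen a)⁻¹) := by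
    rintro a ha y ⟨i, hi, hy⟩
    have hn := (hall i hi).2
    simp only [orbNextB, List.all_eq_true, List.mem_range, Bool.and_eq_true, Nat.blt_eq] at hn
    obtain ⟨hlt, heq⟩ := hn a ha
    obtain ⟨w, hw⟩ := hmem _ hlt
    have hG := (gen_spec ha).2
    refine ⟨_, hlt, ?_⟩
    rw [inv_eq_of_mul_eq_one_right (gen_sq ha), mul_assoc,
      ← eqX heq hw (hG.mul (hy.mul hG))]
    exact hw
  obtain ⟨d, rfl⟩ := isConj_iff.mp h
  have key : ∀ d : X.Grp, (∀ y, (∃ i < 126, Fx (ap (oc i)) y) → ∃ i < 126, Fx (ap (oc i)) (d * y * d⁻¹)) ∧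
      ∀ y, (∃ i < 126, Fx (ap (oc i)) y) → ∃ i < 126, Fx (ap (oc i)) (d⁻¹ * y * d⁻¹⁻¹) := by
    refine gen_ind (fun a ha => ⟨step a ha, ?_⟩) ?_ ?_ ?_
    · rw [inv_eq_of_mul_eq_one_right (gen_sq ha)]; exact step a ha
    · exact ⟨fun y hy => by simpa using hy, fun y hy => by simpa using hy⟩
    · intro a b ha hb
      refine ⟨fun y hy => ?_, fun y hy => ?_⟩
      · have := ha.1 _ (hb.1 y hy)
        rwa [show a * b * y * (a * b)⁻¹ = a * (b * y * b⁻¹) * a⁻¹ by group]
      · have := hb.2 _ (ha.2 y hy)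
        rwa [show (a * b)⁻¹ * y * (a * b)⁻¹⁻¹ = b⁻¹ * (a⁻¹ * y * a⁻¹⁻¹) * b⁻¹⁻¹ by group]
    · intro a ha
      exact ⟨ha.2, by simpa using ha.1⟩
  exact (key d).1 _ ⟨0, by norm_num, by rw [Nat.eq_of_beq_eq_true h0]; exact cR3.1⟩

/-- The two classes of elements of order four have different centralisers. -/
theorem card_lt : Nat.card (centralizer ({R 2} : Set X.Grp)) < Nat.card (centralizer ({R 3} : Set X.Grp)) := by
  obtain ⟨hd, hlen⟩ := words_ok
  have h2 := card_cent_mul_le (n := 339) (by norm_num) X.perms_self (g := ((R 2 : X.Grp) : Perm (Fin 339))) cR2.1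
    bases_lt' hd X.Grp le_rfl
  rw [hlen, X.closed.2] at h2
  have e2 : Nat.card (centralizer ({R 2} : Set X.Grp)) ≤
      Nat.card (X.Grp ⊓ centralizer ({((R 2 : X.Grp) : Perm (Fin 339))} : Set (Perm (Fin 339))) : Subgroup _) :=
    Nat.card_le_card_of_injective (fun c => ⟨((c : X.Grp) : Perm (Fin 339)),
      (c : X.Grp).2, mem_centralizer_singleton_iff.mpr (congrArg Subtype.val (mem_centralizer_singleton_iff.mp c.2))⟩)
      fun a b e => Subtype.ext (Subtype.ext (congrArg (fun q : (X.Grp ⊓ centralizer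
        ({((R 2 : X.Grp) : Perm (Fin 339))} : Set (Perm (Fin 339))) : Subgroup _) => (q : Perm (Fin 339))) e))
  set C3 := centralizer ({R 3} : Set X.Grp) with hC3
  have hidx : C3.index ≤ 126 := by
    classical
    choose f hf hF using fun g : X.Grp => class_three (isConj_iff.mpr ⟨g, rfl⟩ : IsConj (R 3) (g * R 3 * g⁻¹))
    rw [← Nat.card_fin 126]
    refine Nat.card_le_card_of_injective (fun q : X.Grp ⧸ C3 => (⟨f q.out, hf _⟩ : Fin 126)) fun p q e => ?_
    have e' : f p.out = f q.out := congrArg Fin.val e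
    have e3 : p.out * R 3 * p.out⁻¹ = q.out * R 3 * q.out⁻¹ :=
      Subtype.ext (Fn.unique (hF p.out) (e' ▸ hF q.out))
    rw [← QuotientGroup.out_eq' p, ← QuotientGroup.out_eq' q, QuotientGroup.eq]
    refine mem_centralizer_singleton_iff.mpr ?_
    calc p.out⁻¹ * q.out * R 3 = p.out⁻¹ * (q.out * R 3 * q.out⁻¹) * q.out := by group
      _ = _ := by rw [← e3]; group
  have h3 := C3.card_mul_index
  rw [X.closed.2] at h3
  have : 2903040 ≤ Nat.card C3 * 126 := h3 ▸ Nat.mul_le_mul_left _ hidx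
  omega

end CfsgLib.Co3M12.End
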