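/-
The table adapted to the fixed points is right.
-/
import Cfsg.Agent.Lib.Co3Recog.DefsM
import Cfsg.Agent.Lib.Co3Recog.Tables
import Cfsg.Agent.Lib.Co3M12.KeepData

set_option autoImplicit false
set_option maxRecDepth 100000

namespace CfsgLib.Co3M12

open CfsgPC CfsgLib.Co3Recog.Base CfsgLib.Co3Recog.Data

theorem keep_table : tableB 276 Keep.tab mLetters = true := by decide +kernel

theorem keep_size : sizeOfChain Keep.tab = 495766656000 ∧
    Nat.ble (keepBound 276 Keep.pts Keep.tab) 3265920 = true ∧
    ((List.range 276).all fun i => Keep.pts.contains i == Nat.beq (ap tM i) i) = true := by decide +kernel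

end CfsgLib.Co3M12
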