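/-
The centraliser of the fused involution in the group of the letters is the double cover.
-/
import Cfsg.Agent.Lib.Co3Recog.M
import Cfsg.Agent.Lib.Co3M12.KeepChecks

set_option autoImplicit false
set_option linter.style.haveILetI false
set_option maxRecDepth 100000

namespace CfsgLib.Co3M12

open Equiv Subgroup CfsgPC
open CfsgLib.Co3Recog

attribute [local irreducible] Data.mLetters Data.mChain Data.xGens Data.xChain Keep.tab

theorem cent_tm {m : M.Grp} (h : m * M.tm = M.tm * m) : ∃ x : X.Grp, M.fcut x = m := by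
  obtain ⟨hsz, hkb, hpts⟩ := keep_size
  obtain ⟨hprod, -⟩ := table_eq (by norm_num) (Base.table_of keep_table) M.valid
    (M.closed.2.1.le.trans hsz.ge)
  set C := centralizer ({M.tm} : Set M.Grp) with hC
  have hub : Nat.card C ≤ 3265920 := by
    rw [← card_map_of_injective (f := M.Grp.subtype) Subtype.val_injective]
    refine (card_le_keepBound Keep.pts (Base.table_of keep_table) M.valid (by norm_num) _ ?_ ?_).trans
      (Nat.le_of_ble_eq_true hkb)
    · rintro g ⟨m, -, rfl⟩
      rw [hprod]
      exact m.2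
    · rintro g ⟨m, hm, rfl⟩ i hi
      have hcomm := congrArg Subtype.val (mem_centralizer_singleton_iff.mp hm)
      have hfixi : ∀ j : Fin 276, (j : ℕ) ∈ Keep.pts ↔ (M.tm : Perm (Fin 276)) j = j := fun j => by
        have := List.all_eq_true.mp hpts j (List.mem_range.mpr j.2)
        rw [beq_iff_eq] at this
        rw [← List.contains_iff_mem, this, M.tm_spec j]
        exact ⟨fun e => Fin.ext (Nat.eq_of_beq_eq_true e), fun e => by rw [e]; exact Nat.beq_refl _⟩
      refine (hfixi _).mpr ?_
      show (M.tm : Perm (Fin 276)) ((m : Perm (Fin 276)) i) = (m : Perm (Fin 276)) i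
      rw [← Perm.mul_apply,
        show (M.tm : Perm (Fin 276)) * (m : Perm (Fin 276)) = (m : Perm (Fin 276)) * (M.tm : Perm (Fin 276)) from hcomm.symm,
        Perm.mul_apply, (hfixi i).mp hi]
  have hle : M.fcut.range ≤ C := by
    rintro _ ⟨x, rfl⟩
    refine mem_centralizer_singleton_iff.mpr ?_
    rw [M.tm, ← map_mul, ← map_mul]
    obtain ⟨σ, hσ, -, hzk⟩ := X.exists_proj
    exact congrArg M.fcut (mem_center_iff.mp (hσ.2.1 hzk) x)
  have hlow : Nat.card M.fcut.range = 2903040 := by
    rw [← Nat.card_congr (MonoidHom.ofInjective M.fcut_inj).toEquiv, X.closed.2]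
  have hdvd : Nat.card M.fcut.range ∣ Nat.card C := card_dvd_of_le hle
  rw [hlow] at hdvd
  obtain ⟨k, hk⟩ := hdvd
  have hpos : 0 < Nat.card C := Nat.card_pos
  have hk1 : k = 1 := by omega
  have e : M.fcut.range = C := eq_of_le_of_card_ge hle (by rw [hlow, hk, hk1])
  exact (e.ge (mem_centralizer_singleton_iff.mpr h) : m ∈ M.fcut.range)

end CfsgLib.Co3M12
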