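/-
A copy of the group of the letters containing the centraliser of one involution: the fixed point argument.
-/
import Cfsg.Agent.Lib.Co3M12.Keep
import Cfsg.Agent.Lib.Co3M12.EndFacts

set_option autoImplicit false
set_option linter.style.haveILetI false
set_option maxRecDepth 100000
set_option maxHeartbeats 1000000

namespace CfsgLib.Co3M12.End

open Equiv Subgroup CfsgPC CfsgLib.Co3Recog
open CfsgLib.StdCo3.Model (R R_sq classify z_comm)
open CfsgLib.Co3Recog.X (z s num num_conj)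

attribute [local irreducible] Data.mLetters Data.mChain Data.xGens Data.xChain

variable {G : Type*} [Group G]

/-- The hypotheses on a copy. -/
structure Emb (G : Type*) [Group G] where
  /-- the map -/
  Φ : M.Grp →* G
  inj : Function.Injective Φ
  cent_u : ∀ g, Commute g (Φ M.um) → g ∈ Φ.range
  not_conj : ¬ IsConj (Φ M.um) (Φ M.tm)

variable (E : Emb G)

/-- The double cover inside the copy. -/
noncomputable def Emb.ι : X.Grp →* G := E.Φ.comp M.fcut

/-- The fused involution. -/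
noncomputable def Emb.T : G := E.ι z

theorem Emb.T_eq : E.T = E.Φ M.tm := rfl

theorem Emb.ι_inj : Function.Injective E.ι := E.inj.comp M.fcut_inj

theorem Emb.ι_mem (x : X.Grp) : E.ι x ∈ E.Φ.range := ⟨_, rfl⟩

theorem Emb.comm_T (x : X.Grp) : Commute (E.ι x) E.T := ((z_comm x).symm.map E.ι)

theorem Emb.mem_X {g : G} (hg : g ∈ E.Φ.range) (hT : Commute g E.T) : ∃ x, E.ι x = g := by
  obtain ⟨m, rfl⟩ := hg
  obtain ⟨x, hx⟩ := cent_tm (m := m) (E.inj (by rw [map_mul, map_mul]; exact hT.eq))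
  exact ⟨x, congrArg E.Φ hx⟩

/-- An involution of small class fixes one coset. -/
theorem Emb.z_fix {x : X.Grp} (hx : x * x = 1) (hn : num x = 12) {g : G}
    (h : g⁻¹ * E.ι x * g ∈ E.Φ.range) : g ∈ E.Φ.range := by
  obtain ⟨m, hm⟩ := h
  have hu : IsConj M.um (M.fcut x) :=
    M.conj_u_of_fix (by rw [← map_mul, hx, map_one]) ((M.fcut_num x).trans hn)
  have hx1 : x ≠ 1 := fun e => by rw [e, num_one] at hn; omega
  have hconj : IsConj (E.ι x) (E.Φ m) := isConj_iff.mpr ⟨g⁻¹, by rw [inv_inv, hm]⟩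
  have hm2 : m * m = 1 := E.inj (by
    rw [map_mul, map_one, hm, show g⁻¹ * E.ι x * g * (g⁻¹ * E.ι x * g) = g⁻¹ * (E.ι x * E.ι x) * g by group,
      ← map_mul, hx, map_one]
    group)
  have hm1 : m ≠ 1 := fun e => by
    rw [e, map_one] at hconj
    exact hx1 (E.ι_inj ((isConj_one_left.mp hconj).trans (map_one _).symm))
  rcases M.invol_class hm2 hm1 with h' | h'
  · exact absurd ((E.Φ.map_isConj hu).trans (hconj.trans (E.Φ.map_isConj h').symm)) E.not_conj
  · obtain ⟨a, ha⟩ := isConj_iff.mp hu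
    obtain ⟨b, hb⟩ := isConj_iff.mp h'
    have hk : Commute ((E.Φ a)⁻¹ * g * E.Φ b) (E.Φ M.um) := by
      show _ = _
      have e1 : E.Φ b * E.Φ M.um = E.Φ m * E.Φ b := by
        rw [← map_mul, ← map_mul, ← hb]; congr 1; group
      have e2 : (E.Φ a)⁻¹ * E.ι x = E.Φ M.um * (E.Φ a)⁻¹ := by
        show (E.Φ a)⁻¹ * E.Φ (M.fcut x) = _
        rw [← map_inv, ← map_mul, ← map_mul, ← ha]; congr 1; group
      calc (E.Φ a)⁻¹ * g * E.Φ b * E.Φ M.um = (E.Φ a)⁻¹ * g * (E.Φ b * E.Φ M.um) := by group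
        _ = (E.Φ a)⁻¹ * g * (g⁻¹ * E.ι x * g * E.Φ b) := by rw [e1, hm]
        _ = (E.Φ a)⁻¹ * E.ι x * (g * E.Φ b) := by group
        _ = _ := by rw [e2]; group
    have h3 := mul_mem (mul_mem (⟨a, rfl⟩ : E.Φ a ∈ E.Φ.range) (E.cent_u _ hk))
      (inv_mem (⟨b, rfl⟩ : E.Φ b ∈ E.Φ.range))
    rwa [show E.Φ a * ((E.Φ a)⁻¹ * g * E.Φ b) * (E.Φ b)⁻¹ = g by group] at h3

/-- The centraliser of the fused involution and an element of a class lies in the copy. -/
def Emb.Good (a : X.Grp) : Prop := ∀ g, Commute g E.T → Commute g (E.ι a) → g ∈ E.Φ.range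

theorem Emb.good_one {a : X.Grp} (ha : a * a = 1) (hn : num a = 12) : E.Good a := fun g _ hga =>
  E.z_fix ha hn (by rw [mul_assoc, ← hga.eq, inv_mul_cancel_left]; exact E.ι_mem a)

theorem Emb.good_conj {a b : X.Grp} (h : IsConj a b) (hG : E.Good a) : E.Good b := fun g hT hb => by
  obtain ⟨c, rfl⟩ := isConj_iff.mp h
  have h1 : Commute ((E.ι c)⁻¹ * g * E.ι c) E.T :=
    ((E.comm_T c).inv_left.mul_left hT).mul_left (E.comm_T c)
  have h2 : Commute ((E.ι c)⁻¹ * g * E.ι c) (E.ι a) := by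
    have h3 := hb.map (MulAut.conj (E.ι c)⁻¹).toMonoidHom
    simp only [MulEquiv.coe_toMonoidHom, MulAut.conj_apply, inv_inv] at h3
    rwa [map_mul, map_mul, map_inv, show (E.ι c)⁻¹ * (E.ι c * E.ι a * (E.ι c)⁻¹) * E.ι c = E.ι a by group] at h3
  have := mul_mem (mul_mem (E.ι_mem c) (hG _ h1 h2)) (inv_mem (E.ι_mem c))
  rwa [show E.ι c * ((E.ι c)⁻¹ * g * E.ι c) * (E.ι c)⁻¹ = g by group] at this

/-- The fixed point argument. -/
theorem Emb.node [Finite G] {a x e : X.Grp} (hxa : Commute x a) (hea : Commute e a) (hx : x * x = 1)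
    (hn : num x = 12) (he : e * e = 1 ∨ e * e = z)
    (He : ∀ g, Commute g E.T → Commute g (E.ι a) → g⁻¹ * E.ι e * g ∈ E.Φ.range → g ∈ E.Φ.range)
    (Hq : ∀ c, Commute c a → ∀ k : ℕ,
      ((x * (c * e * c⁻¹)) ^ 2 ^ k = 1 ∨ (x * (c * e * c⁻¹)) ^ 2 ^ k = z) →
      ∀ g, Commute g E.T → Commute g (E.ι a) → Commute g (E.ι (x * (c * e * c⁻¹))) → g ∈ E.Φ.range) :
    E.Good a := by
  intro g hgT hga
  set S : Subgroup G := E.Φ.range.comap (MulAut.conj g⁻¹).toMonoidHom with hS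
  have memS : ∀ h, h ∈ S ↔ g⁻¹ * h * g ∈ E.Φ.range := fun h => by
    simp [hS, Subgroup.mem_comap]
  set y := g * E.ι x * g⁻¹ with hy
  set Q := E.ι e with hQ
  set d := y * Q with hd
  have hTa : Commute E.T (E.ι a) := (E.comm_T a).symm
  have hyT : Commute y E.T := (hgT.mul_left (E.comm_T x)).mul_left hgT.inv_left
  have hya : Commute y (E.ι a) := (hga.mul_left (hxa.map E.ι)).mul_left hga.inv_left
  have hQT : Commute Q E.T := E.comm_T e
  have hQa : Commute Q (E.ι a) := hea.map E.ι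
  have hyy : y * y = 1 := by
    rw [hy, show g * E.ι x * g⁻¹ * (g * E.ι x * g⁻¹) = g * (E.ι x * E.ι x) * g⁻¹ by group, ← map_mul, hx,
      map_one]
    group
  have hyi : y⁻¹ = y := inv_eq_of_mul_eq_one_right hyy
  have hTg : g⁻¹ * E.T * g = E.T := by rw [mul_assoc, ← hgT.eq, inv_mul_cancel_left]
  have hTS : E.T ∈ S := (memS _).mpr (by rw [hTg]; exact E.ι_mem z)
  have hyS : y ∈ S := (memS _).mpr (by rw [hy, show g⁻¹ * (g * E.ι x * g⁻¹) * g = E.ι x by group]; exact E.ι_mem x)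
  have hfix : ∀ v, v⁻¹ * y * v ∈ S → v ∈ S := fun v hv => (memS v).mpr (E.z_fix hx hn (by
    have h1 := (memS _).mp hv
    rwa [hy, show g⁻¹ * (v⁻¹ * (g * E.ι x * g⁻¹) * v) * g = (g⁻¹ * v * g)⁻¹ * E.ι x * (g⁻¹ * v * g) by group] at h1))
  set τ := Q * Q with hτ
  have hτ2 : τ = 1 ∨ τ = E.T := by
    rcases he with h | h
    · left; rw [hτ, hQ, ← map_mul, h, map_one]
    · right; rw [hτ, hQ, ← map_mul, h]; rfl
  have hτc : ∀ w, Commute w E.T → Commute w τ := fun w hw => by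
    rcases hτ2 with h | h <;> rw [h]
    · exact Commute.one_right w
    · exact hw
  have hτS : τ ∈ S := by
    rcases hτ2 with h | h <;> rw [h]
    exacts [one_mem _, hTS]
  have hdT : Commute d E.T := hyT.mul_left hQT
  have hda : Commute d (E.ι a) := hya.mul_left hQa
  -- how `y` inverts the powers of `d`
  clear_value y Q d τ
  have hinv1 : MulAut.conj y d = τ * d⁻¹ := by
    rw [MulAut.conj_apply, hd, hτ, mul_inv_rev, hyi]
    calc y * (y * Q) * y = y * y * Q * y := by group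
      _ = Q * y := by rw [hyy, one_mul]
      _ = _ := by group
  obtain ⟨A, o, ho, hm⟩ := Nat.exists_eq_two_pow_mul_odd (orderOf_pos d).ne'
  obtain ⟨i, hi⟩ := ho
  have hinvp : ∀ n : ℕ, MulAut.conj y (d ^ n) = τ ^ n * (d ^ n)⁻¹ := fun n => by
    rw [map_pow, hinv1, ((hτc d hdT).symm.inv_right).mul_pow, inv_pow]
  set q' := d ^ (2 * i + 1) * (τ ^ i)⁻¹ with hq'
  have hstep : d⁻¹ * Q * d = τ⁻¹ * Q * (d * d) := by
    rw [hd, hτ, mul_inv_rev, hyi, mul_inv_rev]
    calc Q⁻¹ * y * Q * (y * Q) = Q⁻¹ * (Q⁻¹ * Q) * y * Q * (y * Q) := by group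
      _ = _ := by group
  have hstepn : ∀ n : ℕ, (d ^ n)⁻¹ * Q * d ^ n = (τ ^ n)⁻¹ * Q * d ^ (2 * n) := by
    intro n
    induction n with
    | zero => simp
    | succ n ih =>
      calc (d ^ (n + 1))⁻¹ * Q * d ^ (n + 1) = d⁻¹ * ((d ^ n)⁻¹ * Q * d ^ n) * d := by rw [pow_succ]; group
        _ = d⁻¹ * (τ ^ n)⁻¹ * Q * d ^ (2 * n) * d := by rw [ih]; group
        _ = (τ ^ n)⁻¹ * (d⁻¹ * Q * d) * d ^ (2 * n) := by
          rw [((hτc d hdT).inv_left.pow_right n).inv_right.eq]; group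
        _ = (τ ^ n)⁻¹ * (τ⁻¹ * Q * (d * d)) * d ^ (2 * n) := by rw [hstep]
        _ = _ := by
          rw [show 2 * (n + 1) = 2 + 2 * n by ring, pow_add d 2 (2 * n), pow_two, pow_succ' τ n, mul_inv_rev]; group
  set Qi := (d ^ i)⁻¹ * Q * d ^ i with hQi
  have hq'' : q' = y * Qi := by
    have c1 : Commute (τ ^ i)⁻¹ d := ((hτc d hdT).symm.pow_left i).inv_left
    have c2 : Commute (τ ^ i)⁻¹ y := ((hτc y hyT).symm.pow_left i).inv_left
    rw [hQi, hstepn, hq']
    calc d ^ (2 * i + 1) * (τ ^ i)⁻¹ = (τ ^ i)⁻¹ * d ^ (2 * i + 1) := (c1.pow_right _).eq.symm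
      _ = (τ ^ i)⁻¹ * y * Q * d ^ (2 * i) := by rw [pow_succ', show d * d ^ (2 * i) = y * Q * d ^ (2 * i) by rw [← hd]]; simp only [mul_assoc]
      _ = y * (τ ^ i)⁻¹ * Q * d ^ (2 * i) := by rw [c2.eq]
      _ = _ := by group
  have hpow : ∀ j : ℕ, q' ^ j = d ^ ((2 * i + 1) * j) * ((τ ^ i)⁻¹) ^ j := fun j => by
    rw [hq', (((hτc d hdT).pow_right i).inv_right.pow_left _).mul_pow, ← pow_mul]
  have hend : q' ^ 2 ^ A = 1 ∨ q' ^ 2 ^ A = E.T := by
    rw [hpow, show (2 * i + 1) * 2 ^ A = orderOf d by rw [hm, hi, mul_comm], pow_orderOf_eq_one, one_mul]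
    have hTT : E.T * E.T = 1 := by rw [Emb.T, ← map_mul, z_ne.2, map_one]
    rcases hτ2 with h | h <;> rw [h]
    · left; simp
    · rw [← inv_pow, inv_eq_of_mul_eq_one_right hTT, ← pow_mul]
      rcases Nat.even_or_odd (i * 2 ^ A) with ⟨w, hw⟩ | ⟨w, hw⟩
      · left; rw [hw, ← two_mul, pow_mul, sq, hTT, one_pow]
      · right; rw [hw, pow_succ, pow_mul, sq, hTT, one_pow, one_mul]
  have hq'S : q' ∈ S := by
    have key : ∀ j ≤ A, q' ^ 2 ^ (A - j) ∈ S := by
      intro j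
      induction j with
      | zero =>
        intro _
        rcases hend with h | h <;> rw [Nat.sub_zero, h]
        exacts [one_mem _, hTS]
      | succ j ih =>
        intro hj
        have hsq := ih (by omega)
        set v := q' ^ 2 ^ (A - (j + 1)) with hv
        rw [show A - j = A - (j + 1) + 1 by omega, pow_succ, pow_mul, ← hv, sq] at hsq
        refine hfix v ?_
        obtain ⟨σ, hσ, hσS, hσc⟩ : ∃ σ, MulAut.conj y v = σ * v⁻¹ ∧ σ ∈ S ∧ Commute σ v := by
          refine ⟨τ ^ ((2 * i + 1) * 2 ^ (A - (j + 1))) * ((τ ^ i)⁻¹ ^ 2 ^ (A - (j + 1))) ^ 2, ?_,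
            mul_mem (pow_mem hτS _) (pow_mem (pow_mem (inv_mem (pow_mem hτS _)) _) _), ?_⟩
          · rw [hv, hpow, map_mul, hinvp, map_pow (MulAut.conj y) ((τ ^ i)⁻¹), map_inv, map_pow,
              show MulAut.conj y τ = τ by rw [MulAut.conj_apply, (hτc y hyT).eq, mul_inv_cancel_right], mul_inv_rev]
            set P := d ^ ((2 * i + 1) * 2 ^ (A - (j + 1)))
            set W := (τ ^ i)⁻¹ ^ 2 ^ (A - (j + 1))
            set V := τ ^ ((2 * i + 1) * 2 ^ (A - (j + 1)))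
            have hPW : Commute P⁻¹ W :=
              ((((hτc d hdT).pow_right i).inv_right.pow_right _).pow_left _).inv_left
            rw [show V * W ^ 2 * (W⁻¹ * P⁻¹) = V * (W * P⁻¹) by rw [sq]; group, ← hPW.eq, ← mul_assoc]
          · have hτd : Commute τ q' := by
              rw [hq']
              exact ((hτc d hdT).symm.pow_right _).mul_right (((Commute.refl τ).pow_right i).inv_right)
            exact ((hτd.pow_left _).mul_left (((hτd.pow_left i).inv_left.pow_left _).pow_left _)).pow_right _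
        have e : v⁻¹ * y * v = (v * v)⁻¹ * σ⁻¹ * σ * (v * y * v * y⁻¹) * y := by group
        have hyvy : y * v * y⁻¹ = σ * v⁻¹ := by rw [← MulAut.conj_apply, hσ]
        have e2 : v⁻¹ * y * v = v⁻¹ * σ * v⁻¹ * y := by
          calc v⁻¹ * y * v = v⁻¹ * (y * v * y⁻¹) * y := by group
            _ = _ := by rw [hyvy]; group
        rw [e2, show v⁻¹ * σ * v⁻¹ = σ * (v * v)⁻¹ by rw [← hσc.inv_right.eq]; group]
        exact mul_mem (mul_mem hσS (inv_mem hsq)) hyS
    simpa using key A le_rfl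
  have hQiS : Qi ∈ S := by
    have : Qi = y⁻¹ * q' := by rw [hq'', inv_mul_cancel_left]
    rw [this]; exact mul_mem (inv_mem hyS) hq'S
  have hg1 : d ^ i * g ∈ E.Φ.range := He _ ((hdT.pow_left i).mul_left hgT) ((hda.pow_left i).mul_left hga) (by
    have := (memS _).mp hQiS
    rwa [hQi, show g⁻¹ * ((d ^ i)⁻¹ * Q * d ^ i) * g = (d ^ i * g)⁻¹ * Q * (d ^ i * g) by group] at this)
  obtain ⟨c, hc⟩ := E.mem_X hg1 ((hdT.pow_left i).mul_left hgT)
  have hca : Commute c⁻¹ a := by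
    refine Commute.inv_left ?_
    refine E.ι_inj ?_
    rw [map_mul, map_mul, hc]
    exact ((hda.pow_left i).mul_left hga).eq
  have hqe : g⁻¹ * q' * g = E.ι (x * (c⁻¹ * e * c⁻¹⁻¹)) := by
    rw [inv_inv, map_mul, map_mul, map_mul, map_inv, hc, hq'', hQi, hy, ← hQ]; group
  have hk : (x * (c⁻¹ * e * c⁻¹⁻¹)) ^ 2 ^ A = 1 ∨ (x * (c⁻¹ * e * c⁻¹⁻¹)) ^ 2 ^ A = z := by
    have e1 : E.ι ((x * (c⁻¹ * e * c⁻¹⁻¹)) ^ 2 ^ A) = g⁻¹ * q' ^ 2 ^ A * g := by
      rw [map_pow, ← hqe]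
      exact (by simpa [MulAut.conj_apply] using (map_pow (MulAut.conj g⁻¹) q' (2 ^ A)).symm)
    rcases hend with h | h <;> rw [h] at e1
    · left; refine E.ι_inj (e1.trans ?_); rw [map_one]; group
    · right; exact E.ι_inj (e1.trans hTg)
  have hdS : d ∈ S := by
    have hd' : Commute (g⁻¹ * d * g) (g⁻¹ * q' * g) := by
      have := (show Commute d q' from (((Commute.refl d).pow_right (2 * i + 1)).mul_right
        (((hτc d hdT).pow_right i).inv_right)))
      have h2 := this.map (MulAut.conj g⁻¹).toMonoidHom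
      simpa [MulAut.conj_apply] using h2
    exact (memS _).mpr (Hq _ hca A hk _ ((hgT.inv_left.mul_left hdT).mul_left hgT)
      ((hga.inv_left.mul_left hda).mul_left hga) (hqe ▸ hd'))
  refine He g hgT hga ((memS _).mp ?_)
  have : Q = y⁻¹ * d := by rw [hd, inv_mul_cancel_left]
  show Q ∈ S
  rw [this]
  exact mul_mem (inv_mem hyS) hdS

end CfsgLib.Co3M12.End
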