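/-
The copy contains the centraliser of every involution, so it is the whole group.
-/
import Cfsg.Agent.Lib.Co3M12.Embed
import Cfsg.Agent.Lib.Co3Recog.Strong

set_option autoImplicit false
set_option linter.style.haveILetI false
set_option maxRecDepth 100000
set_option maxHeartbeats 1000000

namespace CfsgLib.Co3M12.End

open Equiv Subgroup CfsgPC CfsgLib.Co3Recog CfsgLib.Co3Recog.Base CfsgLib.Co3Recog.Data CfsgLib.StdCo3.Data
open CfsgLib.StdCo3.Model (R R_spec R_zero R_sq classify z_comm)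
open CfsgLib.Co3Recog.X (Fx eqX z s num num_eq num_conj bases_lt' xe xe_spec qx qx_spec qx_class)

attribute [local irreducible] xGens xInv xChain sChain zC sC uC repIx orb orbPar orbNext orbWords c8 c16 oneX threeX twoX
  oneCert threeCert twoCert qsList mLetters mChain

/-- Every candidate gives an involution of small class. -/
def allZB (ks : List ℕ) (x a ai : ℕ) (tgt : ℕ → ℕ) (fx : ℕ) (cert : List ℕ) (len : ℕ) : Bool :=
  (List.range len).all fun d =>
    let k := ks.getD d 0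
    !candB k a ai tgt fx || (let b := bF' x k ai a (cert.getD d 0)
      eqB xBases (fun p => b (b p)) id && Nat.beq (fixCount 276 b) 12)

theorem one_allz : allZB orb oneX.1 c8.1 c8.2 id 12 oneCert 126 = true := by decide +kernel

theorem comm_of_commB {f g : ℕ → ℕ} {u v : X.Grp} (hu : Fx f u) (hv : Fx g v) (h : commB f g = true) :
    Commute u v := eqX h (hu.mul hv) (hv.mul hu)

theorem x_of_xOK {x : ℕ × ℕ} {c : ℕ} {a : X.Grp} (h : xOK x c = true) (ha : Fx (ap c) a) :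
    ∃ u : X.Grp, Fx (ap x.1) u ∧ u * u = 1 ∧ num u = 12 ∧ Commute u a := by
  simp only [xOK, Bool.and_eq_true] at h
  obtain ⟨⟨⟨⟨h1, h2⟩, h3⟩, h4⟩, h5⟩ := h
  have hF := xe_spec h1 h2
  exact ⟨_, hF, eqX h3 (hF.mul hF) Fx.one, (num_eq hF).symm.trans (Nat.eq_of_beq_eq_true h4),
    comm_of_commB hF ha h5⟩

theorem goodB_spec {f : ℕ → ℕ} {b : X.Grp} (hb : Fx f b) (h : goodB f = true) :
    IsConj (R 1) b ∨ IsConj (R 2) b := by
  simp only [goodB, Bool.or_eq_true, Bool.and_eq_true] at h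
  rcases h with ⟨h1, h2⟩ | ⟨h1, h2⟩
  · exact Or.inl (class_one (eqX h1 (hb.mul hb) Fx.one) ((num_eq hb).symm.trans (Nat.eq_of_beq_eq_true h2)))
  · exact Or.inr (class_two (eqX h1 (hb.mul hb) X.z_spec) ((num_eq hb).symm.trans (Nat.eq_of_beq_eq_true h2)))

universe w

/-- The element named by a certificate. -/
theorem named {xc kc ac aic : ℕ} {x k a : X.Grp} (hx : Fx (ap xc) x) (hk : Fx (ap kc) k) (ha : Fx (ap ac) a)
    (hai : Fx (ap aic) a⁻¹) (e : ℕ) : ∃ b : X.Grp, Fx (bF' xc kc aic ac e) b ∧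
      ∀ {G : Type w} [Group G] (φ : X.Grp →* G) (g : G), Commute g (φ z) → Commute g (φ a) →
        Commute g (φ (x * (k * a⁻¹))) → Commute g (φ b) := by
  have hq : Fx (qF xc kc aic) (x * (k * a⁻¹)) := hx.mul (hk.mul hai)
  have mk : ∀ {f : ℕ → ℕ} {v : X.Grp}, Fx f v →
      (∀ {G : Type w} [Group G] (φ : X.Grp →* G) (g : G), Commute g (φ z) → Commute g (φ a) → Commute g (φ v)) →
      ((∀ p, bF' xc kc aic ac e p = qF xc kc aic (f p)) ∨
        ∀ p, bF' xc kc aic ac e p = qF xc kc aic (qF xc kc aic (f p))) →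
      ∃ b : X.Grp, Fx (bF' xc kc aic ac e) b ∧
        ∀ {G : Type w} [Group G] (φ : X.Grp →* G) (g : G), Commute g (φ z) → Commute g (φ a) →
          Commute g (φ (x * (k * a⁻¹))) → Commute g (φ b) := by
    intro f v hv hc h
    rcases h with h | h
    · exact ⟨_, (funext h : bF' xc kc aic ac e = _) ▸ hq.mul hv, fun φ g h1 h2 h3 => by
        rw [map_mul φ (x * (k * a⁻¹)) v]; exact h3.mul_right (hc φ g h1 h2)⟩
    · exact ⟨_, (funext h : bF' xc kc aic ac e = _) ▸ hq.mul (hq.mul hv), fun φ g h1 h2 h3 => by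
        rw [map_mul φ (x * (k * a⁻¹)), map_mul φ (x * (k * a⁻¹)) v]
        exact h3.mul_right (h3.mul_right (hc φ g h1 h2))⟩
  rcases he : e % 4 with _ | _ | _ | n <;> rcases he' : e / 4 with _ | m
  · exact mk Fx.one (fun φ g _ _ => by rw [map_one]; exact Commute.one_right g)
      (Or.inl fun p => by simp only [bF', he, he', id])
  · exact mk Fx.one (fun φ g _ _ => by rw [map_one]; exact Commute.one_right g)
      (Or.inr fun p => by simp only [bF', he, he', id])
  · exact mk X.z_spec (fun φ g h _ => h) (Or.inl fun p => by simp only [bF', he, he'])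
  · exact mk X.z_spec (fun φ g h _ => h) (Or.inr fun p => by simp only [bF', he, he'])
  · exact mk ha (fun φ g _ h => h) (Or.inl fun p => by simp only [bF', he, he'])
  · exact mk ha (fun φ g _ h => h) (Or.inr fun p => by simp only [bF', he, he'])
  · exact mk hai (fun φ g _ h => by rw [map_inv]; exact h.inv_right) (Or.inl fun p => by simp only [bF', he, he'])
  · exact mk hai (fun φ g _ h => by rw [map_inv]; exact h.inv_right) (Or.inr fun p => by simp only [bF', he, he'])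

variable {G : Type*} [Group G] [Finite G] (E : Emb G)

/-- A node described by a list of conjugates. -/
theorem Emb.node_list {x a k0 : X.Grp} {xc ac aic k0c : ℕ} (hxF : Fx (ap xc) x) (haF : Fx (ap ac) a)
    (haiF : Fx (ap aic) a⁻¹) (hk0 : Fx (ap k0c) k0) (hxa : Commute x a) (hx : x * x = 1) (hn : num x = 12)
    {tgt : ℕ → ℕ} {τ : X.Grp} (htgt : Fx tgt τ) (hτ : τ = 1 ∨ τ = z) {fx : ℕ}
    (hcand : candB k0c ac aic tgt fx = true)
    (He : ∀ g, Commute g E.T → Commute g (E.ι a) → g⁻¹ * E.ι (k0 * a⁻¹) * g ∈ E.Φ.range → g ∈ E.Φ.range)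
    {ks : List ℕ} {len : ℕ} (hks : ∀ c, Commute c a → ∃ i < len, Fx (ap (ks.getD i 0)) (c * k0 * c⁻¹))
    {cert : List ℕ} (hall : ∀ i < len, candB (ks.getD i 0) ac aic tgt fx = true →
      ∀ b : X.Grp, Fx (bF' xc (ks.getD i 0) aic ac (cert.getD i 0)) b → E.Good b) :
    E.Good a := by
  simp only [candB, Bool.and_eq_true] at hcand
  obtain ⟨⟨hc1, hc2⟩, hc3⟩ := hcand
  have hka : Commute k0 a := comm_of_commB hk0 haF hc1
  have hy : Fx (yF k0c aic) (k0 * a⁻¹) := hk0.mul haiF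
  have hy2 : (k0 * a⁻¹) * (k0 * a⁻¹) = τ := eqX hc2 (hy.mul hy) htgt
  have hea : Commute (k0 * a⁻¹) a := hka.mul_left (Commute.refl a).inv_left
  refine E.node hxa hea hx hn (hy2 ▸ hτ) He fun c hca k _ g hT hga hgq => ?_
  obtain ⟨i, hi, hF⟩ := hks c hca
  have e1 : c * (k0 * a⁻¹) * c⁻¹ = c * k0 * c⁻¹ * a⁻¹ := by
    rw [show c * (k0 * a⁻¹) * c⁻¹ = c * k0 * c⁻¹ * (c * a⁻¹ * c⁻¹) by group, hca.inv_right.eq, mul_inv_cancel_right]
  have hyi : Fx (yF (ks.getD i 0) aic) (c * k0 * c⁻¹ * a⁻¹) := hF.mul haiF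
  have hc : candB (ks.getD i 0) ac aic tgt fx = true := by
    simp only [candB, Bool.and_eq_true]
    refine ⟨⟨?_, ?_⟩, ?_⟩
    · exact (X.eqB_iff (hF.mul haF) (haF.mul hF)).mpr ((hca.mul_left hka).mul_left hca.inv_left).eq
    · refine (X.eqB_iff (hyi.mul hyi) htgt).mpr ?_
      rw [← e1, show c * (k0 * a⁻¹) * c⁻¹ * (c * (k0 * a⁻¹) * c⁻¹) = c * ((k0 * a⁻¹) * (k0 * a⁻¹)) * c⁻¹ by group,
        hy2]
      rcases hτ with h | h <;> rw [h]
      · group
      · rw [← (z_comm c).eq, mul_inv_cancel_right]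
    · rw [num_eq hyi, num_conj (isConj_iff.mpr ⟨c, e1⟩ : IsConj (k0 * a⁻¹) _), ← num_eq hy]
      exact hc3
  obtain ⟨b, hb, hbc⟩ := named hxF hF haF haiF (cert.getD i 0)
  refine hall i hi hc b hb g hT (hbc E.ι g hT hga ?_)
  rw [← e1]; exact hgq

theorem Emb.he_involution {e : X.Grp} (he : e * e = 1) (hn : num e = 12) {g : G}
    (h : g⁻¹ * E.ι e * g ∈ E.Φ.range) : g ∈ E.Φ.range := E.z_fix he hn h

theorem Emb.moved {e : X.Grp} {g : G} (hT : Commute g E.T) (h : g⁻¹ * E.ι e * g ∈ E.Φ.range) :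
    ∃ w, E.ι w = g⁻¹ * E.ι e * g :=
  E.mem_X h ((hT.inv_left.mul_left (E.comm_T e)).mul_left hT)

theorem Emb.he_four (h2 : E.Good (R 2)) {e : X.Grp} (he : IsConj (R 2) e) {g : G} (hT : Commute g E.T)
    (h : g⁻¹ * E.ι e * g ∈ E.Φ.range) : g ∈ E.Φ.range := by
  obtain ⟨w, hw⟩ := E.moved hT h
  have hee : e * e = z := (class_square (by norm_num) he).2 le_rfl
  have hww : w * w = z := E.ι_inj (by
    rw [map_mul, hw, show g⁻¹ * E.ι e * g * (g⁻¹ * E.ι e * g) = g⁻¹ * (E.ι e * E.ι e) * g by group, ← map_mul, hee]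
    show g⁻¹ * E.T * g = E.T
    rw [mul_assoc, ← hT.eq, inv_mul_cancel_left])
  obtain ⟨c, hc, hcw⟩ := classify (Or.inr hww) (fun e => by rw [e, one_mul] at hww; exact z_ne.1 hww.symm)
    (fun e => by rw [e, z_ne.2] at hww; exact z_ne.1 hww.symm)
  have hsq := class_square hc hcw
  interval_cases c
  · exact absurd (hww.symm.trans (hsq.1 (by norm_num))) z_ne.1
  · exact absurd (hww.symm.trans (hsq.1 (by norm_num))) z_ne.1
  · obtain ⟨a, ha⟩ := isConj_iff.mp (he.symm.trans hcw)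
    have hG : E.Good e := E.good_conj he h2
    have hk := hG (g * E.ι a) (hT.mul_left (E.comm_T a)) (by
      show _ = _
      rw [show g * E.ι a * E.ι e = g * (E.ι a * E.ι e) by group, ← map_mul,
        show a * e = w * a by rw [← ha]; group, map_mul, hw]
      group)
    have := mul_mem hk (inv_mem (E.ι_mem a))
    rwa [mul_inv_cancel_right] at this
  · exfalso
    obtain ⟨a, ha⟩ := isConj_iff.mp he
    obtain ⟨b, hb⟩ := isConj_iff.mp hcw
    set k := (E.ι b)⁻¹ * g⁻¹ * E.ι a with hk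
    have hkT : Commute k E.T := ((E.comm_T b).inv_left.mul_left hT.inv_left).mul_left (E.comm_T a)
    have e3 : k * E.ι (R 2) = E.ι (R 3) * k := by
      have e4 : E.ι a * E.ι (R 2) = E.ι e * E.ι a := by
        rw [← map_mul, ← map_mul, ← ha]; congr 1; group
      have e5 : (E.ι b)⁻¹ * E.ι w = E.ι (R 3) * (E.ι b)⁻¹ := by
        rw [← map_inv, ← map_mul, ← map_mul, ← hb]; congr 1; group
      rw [hk, show (E.ι b)⁻¹ * g⁻¹ * E.ι a * E.ι (R 2) = (E.ι b)⁻¹ * g⁻¹ * (E.ι a * E.ι (R 2)) by group, e4,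
        show (E.ι b)⁻¹ * g⁻¹ * (E.ι e * E.ι a) = (E.ι b)⁻¹ * (g⁻¹ * E.ι e * g) * g⁻¹ * E.ι a by group, ← hw, e5]
      group
    have hmem : ∀ c : centralizer ({R 3} : Set X.Grp), ∃ d : X.Grp, E.ι d = k⁻¹ * E.ι c * k := fun c => by
      have h1 : Commute (k⁻¹ * E.ι c * k) E.T := (hkT.inv_left.mul_left (E.comm_T _)).mul_left hkT
      refine E.mem_X (h2 _ h1 ?_) h1
      show _ = _
      have hc : E.ι c * E.ι (R 3) = E.ι (R 3) * E.ι c := by
        rw [← map_mul, ← map_mul, mem_centralizer_singleton_iff.mp c.2]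
      have e6 : E.ι (R 2) = k⁻¹ * E.ι (R 3) * k := by rw [mul_assoc, ← e3, inv_mul_cancel_left]
      rw [e6, show k⁻¹ * E.ι c * k * (k⁻¹ * E.ι (R 3) * k) = k⁻¹ * (E.ι c * E.ι (R 3)) * k by group, hc]
      group
    choose d hd using hmem
    have hd2 : ∀ c, d c ∈ centralizer ({R 2} : Set X.Grp) := fun c => mem_centralizer_singleton_iff.mpr (E.ι_inj (by
      have e6 : E.ι (R 2) = k⁻¹ * E.ι (R 3) * k := by rw [mul_assoc, ← e3, inv_mul_cancel_left]
      have hc : E.ι c * E.ι (R 3) = E.ι (R 3) * E.ι c := by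
        rw [← map_mul, ← map_mul, mem_centralizer_singleton_iff.mp c.2]
      rw [map_mul, map_mul, hd, e6,
        show k⁻¹ * E.ι c * k * (k⁻¹ * E.ι (R 3) * k) = k⁻¹ * (E.ι c * E.ι (R 3)) * k by group, hc]
      group))
    have hle := Nat.card_le_card_of_injective
      (fun c : centralizer ({R 3} : Set X.Grp) => (⟨d c, hd2 c⟩ : centralizer ({R 2} : Set X.Grp)))
      fun p q e => by
        have e' := congrArg E.ι (congrArg Subtype.val e)
        rw [hd, hd] at e'
        exact Subtype.ext (E.ι_inj (mul_left_cancel (mul_right_cancel e')))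
    have := card_lt
    omega

theorem Emb.good_two : E.Good (R 2) := by
  obtain ⟨hxo, hc, hlt⟩ := one_x
  obtain ⟨x, hxF, hx, hn, hxa⟩ := x_of_xOK hxo cR2.1
  obtain ⟨k0, hk0, hk0c⟩ := orb_spec _ hlt
  refine E.node_list hxF cR2.1 cR2.2 hk0 hxa hx hn Fx.one (Or.inl rfl) hc (fun g _ _ h => ?_)
    (ks := orb) (len := 126) (fun c _ => class_three (hk0c.trans (isConj_iff.mpr ⟨c, rfl⟩)))
    (cert := oneCert) fun i hi hci b hb => ?_
  · simp only [candB, Bool.and_eq_true] at hc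
    have hy : Fx (yF (oc oneE) c8.2) (k0 * (R 2)⁻¹) := hk0.mul cR2.2
    exact E.he_involution (eqX hc.1.2 (hy.mul hy) Fx.one) ((num_eq hy).symm.trans (Nat.eq_of_beq_eq_true hc.2)) h
  · have := List.all_eq_true.mp one_allz i (List.mem_range.mpr hi)
    simp only [hci, Bool.not_true, Bool.false_or, Bool.and_eq_true] at this
    exact E.good_one (eqX this.1 (hb.mul hb) Fx.one) ((num_eq hb).symm.trans (Nat.eq_of_beq_eq_true this.2))

theorem Emb.good_of (h2 : E.Good (R 2)) {f : ℕ → ℕ} {b : X.Grp} (hb : Fx f b) (h : goodB f = true) : E.Good b := by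
  rcases goodB_spec hb h with h | h
  · exact E.good_conj h (E.good_one ((class_square (by norm_num) (IsConj.refl (R 1))).1 (by norm_num)) nums.2.1)
  · exact E.good_conj h h2

theorem Emb.good_three : E.Good (R 3) := by
  obtain ⟨hxo, hc, hlt⟩ := three_x
  obtain ⟨x, hxF, hx, hn, hxa⟩ := x_of_xOK hxo cR3.1
  obtain ⟨hk0, hk0c⟩ := qx_spec _ hlt
  refine E.node_list hxF cR3.1 cR3.2 hk0 hxa hx hn X.z_spec (Or.inr rfl) hc (fun g hT _ h => ?_)
    (ks := qsList) (len := 630) (fun c _ => ?_) (cert := threeCert) fun i hi hci b hb => ?_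
  · simp only [candB, Bool.and_eq_true] at hc
    have hy : Fx (yF (qc threeE) c16.2) (qx threeE * (R 3)⁻¹) := hk0.mul cR3.2
    exact E.he_four E.good_two
      (class_two (eqX hc.1.2 (hy.mul hy) X.z_spec) ((num_eq hy).symm.trans (Nat.eq_of_beq_eq_true hc.2))) hT h
  · obtain ⟨i, hi, e⟩ := qx_class (hk0c.trans (isConj_iff.mpr ⟨c, rfl⟩ : IsConj (qx threeE) (c * qx threeE * c⁻¹)))
    exact ⟨i, hi, e ▸ (qx_spec i hi).1⟩
  · refine E.good_of E.good_two hb ?_
    rcases (by omega : i < 210 ∨ (210 ≤ i ∧ i < 420) ∨ (420 ≤ i ∧ i < 630)) with h | h | h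
    · have := List.all_eq_true.mp three_all0 i (List.mem_range.mpr h)
      simpa only [Nat.zero_add, hci, Bool.not_true, Bool.false_or] using this
    · have := List.all_eq_true.mp three_all1 (i - 210) (List.mem_range.mpr (by omega))
      simpa only [Nat.add_sub_cancel' h.1, hci, Bool.not_true, Bool.false_or] using this
    · have := List.all_eq_true.mp three_all2 (i - 420) (List.mem_range.mpr (by omega))
      simpa only [Nat.add_sub_cancel' h.1, hci, Bool.not_true, Bool.false_or] using this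

theorem Emb.good_zero : E.Good (R 0) := by
  obtain ⟨hxo, hc, hlt⟩ := two_x
  obtain ⟨x, hxF, hx, hn, hxa⟩ := x_of_xOK hxo X.s_spec
  obtain ⟨k0, hk0, hk0c⟩ := orb_spec _ hlt
  have hsi : Fx (ap sC.1) s⁻¹ := by
    rw [inv_eq_of_mul_eq_one_right X.basic.2.2.2.2.1]; exact X.s_spec
  rw [R_zero]
  refine E.node_list hxF X.s_spec hsi hk0 hxa hx hn X.z_spec (Or.inr rfl) hc (fun g hT _ h => ?_)
    (ks := orb) (len := 126) (fun c _ => class_three (hk0c.trans (isConj_iff.mpr ⟨c, rfl⟩)))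
    (cert := twoCert) fun i hi hci b hb => ?_
  · simp only [candB, Bool.and_eq_true] at hc
    have hy : Fx (yF (oc twoE) sC.1) (k0 * s⁻¹) := hk0.mul hsi
    exact E.he_four E.good_two
      (class_two (eqX hc.1.2 (hy.mul hy) X.z_spec) ((num_eq hy).symm.trans (Nat.eq_of_beq_eq_true hc.2))) hT h
  · refine E.good_of E.good_two hb ?_
    have := List.all_eq_true.mp two_all i (List.mem_range.mpr hi)
    simpa only [Nat.zero_add, hci, Bool.not_true, Bool.false_or] using this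

theorem Emb.good_all {c : ℕ} (hc : c < 4) : E.Good (R c) := by
  interval_cases c
  exacts [E.good_zero, E.good_one ((class_square (by norm_num) (IsConj.refl (R 1))).1 (by norm_num)) nums.2.1,
    E.good_two, E.good_three]

/-- The centraliser of the fused involution lies in the copy. -/
theorem Emb.cent_T {g : G} (hg : Commute g E.T) : g ∈ E.Φ.range := by
  have hR1 : R 1 * R 1 = 1 := (class_square (by norm_num) (IsConj.refl (R 1))).1 (by norm_num)
  refine E.node (a := 1) (x := R 1) (e := s) (Commute.one_right _) (Commute.one_right _) hR1 nums.2.1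
    (Or.inl X.basic.2.2.2.2.1) (fun g hT _ h => ?_) (fun c _ k hk g hT _ hgq => ?_) g hg
    (by rw [map_one]; exact Commute.one_right g)
  · obtain ⟨w, hw⟩ := E.moved hT h
    have hww : w * w = 1 := E.ι_inj (by
      rw [map_mul, hw, show g⁻¹ * E.ι s * g * (g⁻¹ * E.ι s * g) = g⁻¹ * (E.ι s * E.ι s) * g by group, ← map_mul,
        X.basic.2.2.2.2.1, map_one]
      group)
    have hw1 : w ≠ 1 := fun e => by
      rw [e, map_one] at hw
      exact X.basic.2.2.1 (E.ι_inj (by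
        rw [map_one, show E.ι s = g * (g⁻¹ * E.ι s * g) * g⁻¹ by group, ← hw]; group))
    have hwz : w ≠ z := fun e => by
      subst e
      exact X.basic.2.2.2.1 (E.ι_inj (by
        rw [show E.ι s = g * (g⁻¹ * E.ι s * g) * g⁻¹ by group, ← hw]
        show g * E.T * g⁻¹ = E.T
        rw [hg_eq hT]))
    obtain ⟨c, hc, hcw⟩ := classify (Or.inl hww) hw1 hwz
    have hsq := class_square hc hcw
    interval_cases c
    · rw [R_zero] at hcw
      obtain ⟨a, ha⟩ := isConj_iff.mp hcw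
      have hk := E.good_zero (g * E.ι a) (hT.mul_left (E.comm_T a)) (by
        rw [R_zero]
        show _ = _
        rw [show g * E.ι a * E.ι s = g * (E.ι a * E.ι s) by group, ← map_mul,
          show a * s = w * a by rw [← ha]; group, map_mul, hw]
        group)
      have := mul_mem hk (inv_mem (E.ι_mem a))
      rwa [mul_inv_cancel_right] at this
    · have hn : num w = 12 := (num_conj hcw).trans nums.2.1
      have h1 := E.z_fix hww hn (g := g⁻¹) (by
        rw [hw, show g⁻¹⁻¹ * (g⁻¹ * E.ι s * g) * g⁻¹ = E.ι s by group]; exact E.ι_mem s)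
      exact inv_inv g ▸ inv_mem h1
    · exact absurd ((hsq.2 le_rfl).symm.trans hww) z_ne.1
    · exact absurd ((hsq.2 (by norm_num)).symm.trans hww) z_ne.1
  · set e' := c * s * c⁻¹ with he'
    have hne : num e' = 36 := by
      rw [num_conj (isConj_iff.mpr ⟨c, rfl⟩ : IsConj s e')]; exact X.num_named.2.2
    have hq : R 1 * e' ≠ 1 ∧ R 1 * e' ≠ z := by
      have he2 : e' * e' = 1 := by
        rw [he', show c * s * c⁻¹ * (c * s * c⁻¹) = c * (s * s) * c⁻¹ by group, X.basic.2.2.2.2.1]; group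
      refine ⟨fun h => ?_, fun h => ?_⟩
      · rw [← inv_eq_of_mul_eq_one_right h, inv_eq_of_mul_eq_one_right hR1, nums.2.1] at hne
        omega
      · have e1 : e' = R 1 * z := by
          rw [← h, ← mul_assoc, hR1, one_mul]
        rw [e1, ← (z_comm _).eq, nums.2.2.2.2] at hne
        omega
    classical
    let P : ℕ → Prop := fun j => (R 1 * e') ^ 2 ^ j = 1 ∨ (R 1 * e') ^ 2 ^ j = z
    have hP : ∃ j, P j := ⟨k, hk⟩
    have h0 : ¬ P 0 := by
      rintro (h | h) <;> rw [pow_zero, pow_one] at h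
      exacts [hq.1 h, hq.2 h]
    obtain ⟨j, hj⟩ : ∃ j, Nat.find hP = j + 1 := ⟨Nat.find hP - 1, by
      have : Nat.find hP ≠ 0 := fun e => h0 (e ▸ Nat.find_spec hP)
      omega⟩
    have hjs : P (j + 1) := hj ▸ Nat.find_spec hP
    have hjn : ¬ P j := Nat.find_min hP (by omega)
    set r := (R 1 * e') ^ 2 ^ j with hr
    have hr2 : r * r = 1 ∨ r * r = z := by
      rw [hr, ← sq, ← pow_mul, ← pow_succ]; exact hjs
    obtain ⟨d, hd, hdr⟩ := classify hr2 (fun e => hjn (Or.inl e)) (fun e => hjn (Or.inr e))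
    refine E.good_conj hdr (E.good_all hd) g hT ?_
    rw [hr, map_pow]
    exact hgq.pow_right _
where
  hg_eq {g T : G} (h : Commute g T) : g * T * g⁻¹ = T := by rw [h.eq, mul_inv_cancel_right]

theorem Emb.cent_conj {m : M.Grp} (hm : m * m = 1) (hm1 : m ≠ 1) {g : G} (hg : Commute g (E.Φ m)) :
    g ∈ E.Φ.range := by
  rcases M.invol_class hm hm1 with h | h <;> obtain ⟨a, rfl⟩ := isConj_iff.mp h <;>
    rw [map_mul, map_mul, map_inv] at hg
  · have := E.cent_T (g := (E.Φ a)⁻¹ * g * E.Φ a) (by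
      rw [E.T_eq]
      have h3 := hg.map (MulAut.conj (E.Φ a)⁻¹).toMonoidHom
      simp only [MulEquiv.coe_toMonoidHom, MulAut.conj_apply, inv_inv] at h3
      rwa [show (E.Φ a)⁻¹ * (E.Φ a * E.Φ M.tm * (E.Φ a)⁻¹) * E.Φ a = E.Φ M.tm by group] at h3)
    have h2 := mul_mem (mul_mem (⟨a, rfl⟩ : E.Φ a ∈ E.Φ.range) this) (inv_mem (⟨a, rfl⟩ : E.Φ a ∈ E.Φ.range))
    rwa [show E.Φ a * ((E.Φ a)⁻¹ * g * E.Φ a) * (E.Φ a)⁻¹ = g by group] at h2
  · have := E.cent_u ((E.Φ a)⁻¹ * g * E.Φ a) (by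
      have h3 := hg.map (MulAut.conj (E.Φ a)⁻¹).toMonoidHom
      simp only [MulEquiv.coe_toMonoidHom, MulAut.conj_apply, inv_inv] at h3
      rwa [show (E.Φ a)⁻¹ * (E.Φ a * E.Φ M.um * (E.Φ a)⁻¹) * E.Φ a = E.Φ M.um by group] at h3)
    have h2 := mul_mem (mul_mem (⟨a, rfl⟩ : E.Φ a ∈ E.Φ.range) this) (inv_mem (⟨a, rfl⟩ : E.Φ a ∈ E.Φ.range))
    rwa [show E.Φ a * ((E.Φ a)⁻¹ * g * E.Φ a) * (E.Φ a)⁻¹ = g by group] at h2

/-- The copy is the whole group. -/
theorem Emb.eq_top : E.Φ.range = ⊤ := by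
  obtain ⟨ht1, htt, hu1, huu, -⟩ := M.basic
  have ho : ∀ {m : M.Grp}, m * m = 1 → m ≠ 1 → orderOf (E.Φ m) = 2 := fun h h1 =>
    orderOf_eq_prime (by rw [sq, ← map_mul, h, map_one]) fun e => h1 (E.inj (e.trans (map_one _).symm))
  refine eq_top_iff.mpr fun g _ => ?_
  set b := g * E.Φ M.tm * g⁻¹ with hb
  have hb2 : orderOf b = 2 := by rw [hb, ← MulAut.conj_apply, MulEquiv.orderOf_eq, ho htt ht1]
  have hnc : ¬ IsConj (E.Φ M.um) b := fun h => E.not_conj (h.trans (isConj_iff.mpr ⟨g⁻¹, by rw [hb]; group⟩))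
  obtain ⟨n, -, hw2, hwa, hwb⟩ := Co3Recog.Strong.middle (ho huu hu1) hb2 hnc
  obtain ⟨m, hm⟩ := E.cent_u _ hwa
  have hm2 : m * m = 1 := E.inj (by rw [map_mul, hm, map_one, ← sq, ← hw2]; exact pow_orderOf_eq_one _)
  have hm1 : m ≠ 1 := fun e => by
    rw [← hm, e, map_one, orderOf_one] at hw2
    omega
  obtain ⟨p, hp⟩ := E.cent_conj hm2 hm1 (g := b) (hm ▸ hwb.symm)
  have hp2 : p * p = 1 := E.inj (by rw [map_mul, hp, map_one, ← sq, ← hb2]; exact pow_orderOf_eq_one _)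
  have hp1 : p ≠ 1 := fun e => by
    rw [← hp, e, map_one, orderOf_one] at hb2
    omega
  rcases M.invol_class hp2 hp1 with h | h
  · obtain ⟨a, ha⟩ := isConj_iff.mp h
    have hk := E.cent_T (g := (E.Φ a)⁻¹ * g) (by
      rw [E.T_eq]
      show _ = _
      have e1 : (E.Φ a)⁻¹ * b = E.Φ M.tm * (E.Φ a)⁻¹ := by
        rw [← hp, ← map_inv, ← map_mul, ← map_mul, ← ha]; congr 1; group
      calc (E.Φ a)⁻¹ * g * E.Φ M.tm = (E.Φ a)⁻¹ * b * g := by rw [hb]; group
        _ = _ := by rw [e1]; group)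
    have := mul_mem (⟨a, rfl⟩ : E.Φ a ∈ E.Φ.range) hk
    rwa [mul_inv_cancel_left] at this
  · exact absurd (hp ▸ E.Φ.map_isConj h) hnc

end CfsgLib.Co3M12.End
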