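/-
A copy of the third Conway group containing the centraliser is the whole group.
-/
import Cfsg.Agent.Lib.Co3M12.CoHom
import Cfsg.Agent.Lib.Co3M12.End

set_option autoImplicit false
set_option maxRecDepth 100000
set_option linter.style.haveILetI false

namespace CfsgLib.Co3M12

open Equiv Subgroup CfsgPC Eng
open CfsgLib.Co3Recog

attribute [local irreducible] Data.chain Co3Recog.Data.mLetters Co3Recog.Data.mChain

variable {G : Type*} [Group G] [Finite G] {B : Base G}

omit [Finite G] in
theorem Copy.not_conj (C : Copy B) : ¬ IsConj (C.Φ M.um) (C.Φ M.tm) := fun h => by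
  obtain ⟨m, hm⟩ := C.le ⟨tx, rfl⟩
  have htm : C.Φ m = B.t := hm
  have hm2 : m * m = 1 := C.inj (by rw [map_mul, htm, map_one, B.t_sq])
  have hm1 : m ≠ 1 := fun e => by
    rw [e, map_one] at htm
    have h1 : tx = 1 := B.inj (by rw [map_one]; exact htm.symm)
    exact tx_ne_one h1
  rcases M.invol_class hm2 hm1 with h' | h'
  · exact B.not_conj (C.z_eq ▸ htm ▸ h.trans (C.Φ.map_isConj h'))
  · exact B.not_conj (C.z_eq ▸ htm ▸ C.Φ.map_isConj h')

/-- The embedding the end game works with. -/
noncomputable def Copy.emb (C : Copy B) : End.Emb G where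
  Φ := C.Φ
  inj := C.inj
  cent_u g hg := C.le (by
    obtain ⟨u, hu⟩ := B.mem_range (g := g) (by rw [← C.z_eq]; exact hg.eq)
    exact ⟨u, hu⟩)
  not_conj := C.not_conj

theorem Copy.equiv (C : Copy B) : Nonempty (G ≃* ↥Cfsg.Spor.Co3) := by
  have htop : C.Φ.range = ⊤ := C.emb.eq_top
  obtain ⟨⟨e⟩, -⟩ := M.equiv_co3
  exact ⟨((MonoidHom.ofInjective C.inj).trans ((MulEquiv.subgroupCongr htop).trans Subgroup.topEquiv)).symm.trans e⟩

end CfsgLib.Co3M12
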