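/-
The wreath product of the Mathieu group with a group of order two, on twice fourteen points.
-/
import Cfsg.Agent.Lib.Co3M12.Local
import Cfsg.Agent.Lib.Co3M12.Product
import Cfsg.Agent.Lib.Co3M12.BigCent
import Cfsg.Agent.Lib.Co3M12.Case.Wr.Dat

set_option autoImplicit false
set_option maxRecDepth 100000
set_option linter.style.haveILetI false

namespace CfsgLib.Co3M12

open Equiv Subgroup CfsgPC Eng Cfsg CfsgGolay CfsgM12Det

attribute [local irreducible] Data.chain

/-- The Mathieu group. -/
abbrev LM : Type := ↥Spor.M12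

/-- The Mathieu part. -/
noncomputable def kap : LM →* UU := prodEquiv.toMonoidHom.comp (MonoidHom.inr _ _)

/-- The projection to the Mathieu part. -/
noncomputable def prj : UU →* LM := (MonoidHom.snd _ _).comp prodEquiv.symm.toMonoidHom

theorem prj_kap (g : LM) : prj (kap g) = g := by simp [prj, kap]

theorem kap_inj : Function.Injective kap := fun a b e => by
  simpa [prj_kap] using congrArg prj e

theorem inL_kap (g : LM) : inL (kap g) := by
  show sigma (1, g) (Fin.natAdd 12 (0 : Fin 2)) = _
  rw [sigma_high, map_one]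
  rfl

theorem decomp (u : UU) : u = kap (prj u) ∨ u = kap (prj u) * zx := by
  set q := prodEquiv.symm u with hq
  have hu : prodEquiv q = u := prodEquiv.apply_symm_apply u
  have h2 : ∀ a : Multiplicative (ZMod 2), a = 1 ∨ a = Multiplicative.ofAdd 1 := by decide
  rcases h2 q.1 with h | h
  · refine Or.inl ?_
    show u = prodEquiv (1, q.2)
    rw [← h, Prod.mk.eta, hu]
  · refine Or.inr ?_
    show u = prodEquiv (1, q.2) * zx
    rw [← prodEquiv_zx, ← map_mul, show ((1, q.2) : _ × LM) * zProd = q from Prod.ext (by simp [zProd, h]) (by simp [zProd]), hu]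

theorem eq_kap {u : UU} (h : inL u) : u = kap (prj u) := by
  rcases decomp u with e | e
  · exact e
  · exfalso
    rw [e, ← zx_central] at h
    exact not_inL_mul (inL_kap _) h

/-- The involution of the Mathieu part. -/
noncomputable def tauW : LM := prj tx

theorem kap_tauW : kap tauW = tx := (eq_kap inL_tx).symm

theorem tauW_ne : tauW ≠ 1 := fun e => tx_ne_one (by rw [← kap_tauW, e, map_one])

/-- An element of order at most two of the Mathieu group has a centraliser of order divisible by sixteen. -/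
theorem sixteen {g : LM} (hg : g * g = 1) : 16 ∣ Nat.card (centralizer ({g} : Set LM)) := by
  have h := big_cent (a := kap g) (by rw [← map_mul, hg, map_one])
  let e : centralizer ({kap g} : Set UU) ≃ Multiplicative (ZMod 2) × centralizer ({g} : Set LM) :=
    { toFun := fun u => ((prodEquiv.symm u.1).1, ⟨(prodEquiv.symm u.1).2, mem_centralizer_singleton_iff.mpr (by
        have hu := congrArg (fun v => (prodEquiv.symm v).2) (mem_centralizer_singleton_iff.mp u.2)
        simpa [kap] using hu)⟩)
      invFun := fun p => ⟨prodEquiv (p.1, p.2.1), mem_centralizer_singleton_iff.mpr (by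
        show prodEquiv _ * prodEquiv (1, g) = prodEquiv (1, g) * prodEquiv _
        rw [← map_mul, ← map_mul, Prod.mk_mul_mk, Prod.mk_mul_mk, mul_one, one_mul,
          mem_centralizer_singleton_iff.mp p.2.2])⟩
      left_inv := fun u => Subtype.ext (by simp)
      right_inv := fun p => Prod.ext (by simp) (Subtype.ext (by simp)) }
  rw [Nat.card_congr e, Nat.card_prod, Nat.card_eq_fintype_card (α := Multiplicative (ZMod 2)),
    Fintype.card_multiplicative, ZMod.card] at h
  exact (Nat.mul_dvd_mul_iff_left (by norm_num : 0 < 2)).mp (by norm_num; exact h)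

theorem center_LM {c : LM} (hc : ∀ g, c * g = g * c) : c = 1 := by
  haveI := CfsgGolay.isSimple_sporM12
  rcases (Subgroup.Normal.eq_bot_or_eq_top (inferInstance : (center LM).Normal)) with h | h
  · have : c ∈ center LM := mem_center_iff.mpr fun g => (hc g).symm
    rwa [h, mem_bot] at this
  · exfalso
    letI : CommGroup LM := { (inferInstance : Group LM) with
      mul_comm := fun a b => mem_center_iff.mp (h ▸ mem_top b) a }
    have hp := IsSimpleGroup.prime_card (α := LM)
    rw [CfsgGolay.card_sporM12] at hp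
    norm_num at hp

/-! ### The points -/

/-- The permutations of the doubled points. -/
abbrev WW : Type := Perm (Fin 14 × Bool)

open Classical in
/-- The parity of an element. -/
noncomputable def par (u : UU) : Bool := !decide (inL u)

theorem par_mul (u v : UU) : par (u * v) = xor (par u) (par v) := by
  classical
  have hz : zx * zx = 1 := zx_sq
  have hf : ∀ g : LM, par (kap g) = false := fun g => by simp [par, inL_kap]
  have ht : ∀ g : LM, par (kap g * zx) = true := fun g => by
    rw [← zx_central]; simp [par, not_inL_mul (inL_kap g)]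
  rcases decomp u with hu | hu <;> rcases decomp v with hv | hv <;> rw [hu, hv]
  · rw [← map_mul, hf, hf, hf]; rfl
  · rw [← mul_assoc, ← map_mul, ht, hf, ht]; rfl
  · rw [mul_assoc, zx_central, ← mul_assoc, ← map_mul, ht, ht, hf]; rfl
  · rw [show kap (prj u) * zx * (kap (prj v) * zx) = kap (prj u) * (zx * kap (prj v)) * zx by group, zx_central,
      ← mul_assoc, mul_assoc (kap (prj u) * kap (prj v)), hz, mul_one, ← map_mul, hf, ht, ht]
    rfl

/-- The diagonal action with the parity exchanging the copies. -/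
noncomputable def phiW : UU →* WW where
  toFun u :=
    { toFun := fun p => ((u : Perm (Fin 14)) p.1, xor p.2 (par u))
      invFun := fun p => ((u : Perm (Fin 14))⁻¹ p.1, xor p.2 (par u))
      left_inv := fun p => Prod.ext (by simp) (by simp)
      right_inv := fun p => Prod.ext (by simp) (by simp) }
  map_one' := Equiv.ext fun p => by
    have : par (1 : UU) = false := by simp [par, show inL (1 : UU) from rfl]
    simp [this]
  map_mul' u v := Equiv.ext fun p => Prod.ext (by simp) (by simp [par_mul, Bool.xor_comm (par u) (par v)])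

theorem phiW_apply (u : UU) (p : Fin 14 × Bool) : phiW u p = ((u : Perm (Fin 14)) p.1, xor p.2 (par u)) := rfl

/-- The two copies. -/
noncomputable def iotaW : LM × LM →* WW where
  toFun q :=
    { toFun := fun p => ((kap (if p.2 then q.2 else q.1) : Perm (Fin 14)) p.1, p.2)
      invFun := fun p => ((kap (if p.2 then q.2 else q.1) : Perm (Fin 14))⁻¹ p.1, p.2)
      left_inv := fun p => Prod.ext (by simp) rfl
      right_inv := fun p => Prod.ext (by simp) rfl }
  map_one' := Equiv.ext fun p => by rcases p with ⟨i, b⟩; cases b <;> simp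
  map_mul' q r := Equiv.ext fun p => by rcases p with ⟨i, b⟩; cases b <;> simp

theorem iotaW_apply (q : LM × LM) (p : Fin 14 × Bool) :
    iotaW q p = ((kap (if p.2 then q.2 else q.1) : Perm (Fin 14)) p.1, p.2) := rfl

theorem phiW_kap (g : LM) : phiW (kap g) = iotaW (g, g) := Equiv.ext fun p => by
  have hp : par (kap g) = false := by simp [par, inL_kap]
  rcases p with ⟨i, b⟩
  cases b <;> simp [phiW_apply, iotaW_apply, hp]

theorem par_zx : par zx = true := by simp [par, not_inL_zx]

theorem swap_iotaW (a b : LM) : phiW zx * iotaW (a, b) = iotaW (b, a) * phiW zx := Equiv.ext fun p => by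
  rcases p with ⟨i, c⟩
  have key : ∀ g : LM, (zx : Perm (Fin 14)) ((kap g : Perm (Fin 14)) i) = (kap g : Perm (Fin 14)) ((zx : Perm (Fin 14)) i) :=
    fun g => by rw [← Perm.mul_apply, ← Perm.mul_apply, ← Subgroup.coe_mul, zx_central]; rfl
  cases c <;> simp [phiW_apply, iotaW_apply, par_zx, key]

theorem iotaW_inj : Function.Injective iotaW := fun q r e => by
  refine Prod.ext (kap_inj (Subtype.ext (Equiv.ext fun i => ?_))) (kap_inj (Subtype.ext (Equiv.ext fun i => ?_)))
  · have := congrArg (fun w : WW => (w (i, false)).1) e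
    simpa [iotaW_apply] using this
  · have := congrArg (fun w : WW => (w (i, true)).1) e
    simpa [iotaW_apply] using this

theorem swap_not_iotaW (q : LM × LM) : phiW zx ≠ iotaW q := fun e => by
  have := congrArg (fun w : WW => (w (pz, false)).2) e
  simp [phiW_apply, iotaW_apply, par_zx] at this

/-- The fusing element. -/
noncomputable def mW : WW := iotaW (tauW, 1)

/-- The model. -/
noncomputable def QW : Subgroup WW := closure (Set.range phiW ∪ {mW})

theorem iotaW_mem (q : LM × LM) : iotaW q ∈ QW := by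
  have hm : mW ∈ QW := subset_closure (Or.inr rfl)
  have hs : phiW zx ∈ QW := subset_closure (Or.inl ⟨zx, rfl⟩)
  set N : Subgroup LM := QW.comap (iotaW.comp (MonoidHom.inl LM LM)) with hN
  have hmem : ∀ g, g ∈ N ↔ iotaW (g, 1) ∈ QW := fun g => Iff.rfl
  haveI hnorm : N.Normal := ⟨fun g hg h => (hmem _).mpr (by
    have hd : phiW (kap h) ∈ QW := subset_closure (Or.inl ⟨kap h, rfl⟩)
    rw [phiW_kap] at hd
    have := mul_mem (mul_mem hd ((hmem g).mp hg)) (inv_mem hd)
    rwa [← map_inv, ← map_mul, ← map_mul, show (h, h) * (g, 1) * (h, h)⁻¹ = (h * g * h⁻¹, (1 : LM)) from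
      Prod.ext rfl (by simp)] at this)⟩
  haveI := CfsgGolay.isSimple_sporM12
  have hτ : tauW ∈ N := (hmem _).mpr hm
  have htop : N = ⊤ := hnorm.eq_bot_or_eq_top.resolve_left fun e => tauW_ne (by rwa [e, mem_bot] at hτ)
  have hleft : ∀ g, iotaW (g, 1) ∈ QW := fun g => (hmem g).mp (htop ▸ mem_top g)
  have hright : ∀ g, iotaW (1, g) ∈ QW := fun g => by
    have := mul_mem (mul_mem hs (hleft g)) (inv_mem hs)
    rwa [swap_iotaW, mul_inv_cancel_right] at this
  rw [show q = (q.1, 1) * (1, q.2) from Prod.ext (by simp) (by simp), map_mul]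
  exact mul_mem (hleft _) (hright _)

theorem swap_sq : phiW zx * phiW zx = 1 := by rw [← map_mul, zx_sq, map_one]

theorem mem_QW {w : WW} : w ∈ QW ↔ ∃ q, w = iotaW q ∨ w = iotaW q * phiW zx := by
  refine ⟨fun hw => ?_, fun ⟨q, h⟩ => ?_⟩
  · induction hw using Subgroup.closure_induction with
    | mem w hw =>
      rcases hw with ⟨u, rfl⟩ | hw
      · refine ⟨(prj u, prj u), ?_⟩
        rcases decomp u with hu | hu
        · exact Or.inl ((congrArg phiW hu).trans (phiW_kap _))
        · exact Or.inr ((congrArg phiW hu).trans (by rw [map_mul, phiW_kap]))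
      · exact ⟨(tauW, 1), Or.inl hw⟩
    | one => exact ⟨1, Or.inl (map_one _).symm⟩
    | mul a b _ _ ha hb =>
      obtain ⟨q, hq⟩ := ha
      obtain ⟨⟨r1, r2⟩, hr⟩ := hb
      rcases hq with hq | hq <;> rcases hr with hr | hr <;> subst hq hr
      · exact ⟨q * (r1, r2), Or.inl (map_mul _ _ _).symm⟩
      · exact ⟨q * (r1, r2), Or.inr (by rw [map_mul, mul_assoc])⟩
      · exact ⟨q * (r2, r1), Or.inr (by rw [map_mul, mul_assoc, swap_iotaW, mul_assoc])⟩
      · refine ⟨q * (r2, r1), Or.inl ?_⟩
        rw [map_mul, mul_assoc, ← mul_assoc (phiW zx), swap_iotaW, mul_assoc, swap_sq, mul_one]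
    | inv a _ ha =>
      obtain ⟨⟨q1, q2⟩, hq | hq⟩ := ha <;> subst hq
      · exact ⟨(q1, q2)⁻¹, Or.inl (map_inv _ _).symm⟩
      · refine ⟨(q2, q1)⁻¹, Or.inr ?_⟩
        rw [mul_inv_rev, inv_eq_of_mul_eq_one_right swap_sq, ← map_inv, Prod.inv_mk, swap_iotaW, Prod.inv_mk]
  · rcases h with h | h <;> rw [h]
    · exact iotaW_mem q
    · exact mul_mem (iotaW_mem q) (subset_closure (Or.inl ⟨zx, rfl⟩))

theorem card_QW : Nat.card QW = 190080 * 95040 := by
  classical
  let Θ : (LM × LM) × Bool → QW := fun p => ⟨if p.2 then iotaW p.1 * phiW zx else iotaW p.1, mem_QW.mpr ⟨p.1, by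
    cases p.2 <;> simp⟩⟩
  have hbij : Function.Bijective Θ := by
    refine ⟨?_, fun ⟨w, hw⟩ => ?_⟩
    · rintro ⟨q, b⟩ ⟨r, c⟩ e
      have e' := congrArg Subtype.val e
      cases b <;> cases c <;> simp only [Θ, if_true, Bool.false_eq_true, if_false] at e'
      · rw [iotaW_inj e']
      · exact absurd (by rw [map_mul, map_inv, e', inv_mul_cancel_left]) (swap_not_iotaW (r⁻¹ * q))
      · exact absurd (by rw [map_mul, map_inv, ← e', inv_mul_cancel_left]) (swap_not_iotaW (q⁻¹ * r))
      · rw [iotaW_inj (mul_right_cancel e')]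
    · obtain ⟨q, hq | hq⟩ := mem_QW.mp hw
      · exact ⟨(q, false), Subtype.ext hq.symm⟩
      · exact ⟨(q, true), Subtype.ext hq.symm⟩
  rw [← Nat.card_congr (Equiv.ofBijective Θ hbij), Nat.card_prod, Nat.card_prod, CfsgGolay.card_sporM12,
    Nat.card_eq_fintype_card (α := Bool), Fintype.card_bool]

/-- The diagonal in the model. -/
noncomputable def phiQ : UU →* QW := phiW.codRestrict QW fun u => subset_closure (Or.inl ⟨u, rfl⟩)

/-- The fusing element of the model. -/
noncomputable def mQ : QW := ⟨mW, subset_closure (Or.inr rfl)⟩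

/-- The copies in the model. -/
noncomputable def iotaQ : LM × LM →* QW := iotaW.codRestrict QW iotaW_mem

theorem gen_QW : closure (Set.range phiQ ∪ {mQ}) = (⊤ : Subgroup QW) := by
  refine Subgroup.map_injective QW.subtype_injective ?_
  rw [MonoidHom.map_closure, ← MonoidHom.range_eq_map, range_subtype, Set.image_union, Set.image_singleton,
    ← Set.range_comp]
  rfl

/-! ### The configuration holds -/

/-- The diagonal on a code. -/
def phB (c : ℕ) (p : ℕ × Bool) : ℕ × Bool := (ap c p.1, xor p.2 (!Nat.beq (ap c 12) 12))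

/-- The fusing element on a point. -/
def nB (p : ℕ × Bool) : ℕ × Bool := (bif p.2 then p.1 else ap Data.tC p.1, p.2)

/-- The same point. -/
def ptB (p q : ℕ × Bool) : Bool := Nat.beq p.1 q.1 && (bif p.2 then q.2 else !q.2)

/-- The model satisfies a configuration. -/
def modelB (D : Dat) : Bool :=
  Nat.beq D.cc.1 one14 && Nat.beq D.cc.2 one14 &&
  (D.act.pairs.all fun q => memB D0 q.1 && memB D0 q.2 &&
    (List.range 14).all fun i => [false, true].all fun b => ptB (nB (phB q.2 (nB (i, b)))) (phB q.1 (i, b))) &&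
  D.rels.all fun R => memB D0 R.1 && memB D0 R.2.1 && memB D0 R.2.2.1 &&
    Nat.beq (cp 14 R.2.2.2.1 R.1) one14 && Nat.beq (cp 14 R.2.2.2.2 R.2.1) one14 &&
    (List.range 14).all fun i => [false, true].all fun b =>
      ptB (nB (phB R.1 (nB (phB R.2.1 (nB (i, b)))))) (phB R.2.2.1 (i, b))

theorem model_ok : modelB Wr.D = true := by decide +kernel

/-- The value of a point. -/
def vP (p : Fin 14 × Bool) : ℕ × Bool := (p.1, p.2)

theorem phB_spec {c : ℕ} {u : UU} (hu : Rp c u) (p : Fin 14 × Bool) : phB c (vP p) = vP (phiW u p) := by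
  have hpar : (!Nat.beq (ap c 12) 12) = par u := by
    have e : ap c 12 = ((u : Perm (Fin 14)) pz : ℕ) := hu pz
    classical
    by_cases h : inL u
    · have e2 : ap c 12 = 12 := e.trans (congrArg Fin.val h)
      simp [par, h, e2]
    · have : ap c 12 ≠ 12 := fun e2 => h (Fin.ext (e.symm.trans e2))
      rw [Bool.eq_false_iff.mpr fun hb => this (Nat.eq_of_beq_eq_true hb)]
      simp [par, h]
  exact Prod.ext (hu p.1) (by rw [phiW_apply]; simp [phB, vP, hpar])

theorem nB_spec (p : Fin 14 × Bool) : nB (vP p) = vP (mW p) := by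
  rcases p with ⟨i, b⟩
  cases b
  · refine Prod.ext ?_ rfl
    show ap Data.tC i = _
    rw [tx_spec i]
    simp [vP, mW, iotaW_apply, kap_tauW]
  · refine Prod.ext ?_ rfl
    show (i : ℕ) = _
    simp [vP, mW, iotaW_apply]

theorem ptB_spec {p q : Fin 14 × Bool} (h : ptB (vP p) (vP q) = true) : p = q := by
  rcases p with ⟨i, b⟩
  rcases q with ⟨j, c⟩
  simp only [ptB, vP, Bool.and_eq_true] at h
  refine Prod.ext (Fin.ext (Nat.eq_of_beq_eq_true h.1)) ?_
  cases b <;> cases c <;> simp_all

theorem mW_sq : mW * mW = 1 := by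
  have h : tauW * tauW = 1 := kap_inj (by rw [map_mul, kap_tauW, tx_sq, map_one])
  rw [mW, ← map_mul, Prod.mk_mul_mk, h, one_mul, ← Prod.one_eq_mk, map_one]

theorem sys_QW : Sys Wr.D phiQ mQ := by
  have h := model_ok
  simp only [modelB, Bool.and_eq_true, List.all_eq_true, List.mem_range, List.mem_cons, List.not_mem_nil, or_false] at h
  obtain ⟨⟨⟨hc1, hc2⟩, hconj⟩, hrel⟩ := h
  have hb : ∀ b : Bool, b = false ∨ b = true := by decide
  have hnn : mQ * mQ = 1 := Subtype.ext mW_sq
  refine ⟨fun c hc => ?_, fun q hq => ?_, ⟨?_, ?_⟩, fun R hR => ?_⟩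
  · obtain ⟨u, hu⟩ := mem_of_memB (D := Wr.D) rfl hc
    exact ⟨_, u, hu, rfl⟩
  · obtain ⟨⟨ha, hk⟩, he⟩ := hconj q hq
    refine ⟨phiQ (elt q.1), phiQ (elt q.2), ⟨_, elt_spec ha, rfl⟩, ⟨_, elt_spec hk, rfl⟩, ?_⟩
    rw [inv_eq_of_mul_eq_one_right hnn]
    refine Subtype.ext (Equiv.ext fun p => ptB_spec ?_)
    have h2 := he (p.1 : ℕ) p.1.2 p.2 (hb p.2)
    rw [show ((p.1 : ℕ), p.2) = vP p from rfl, nB_spec, phB_spec (elt_spec hk), nB_spec, phB_spec (elt_spec ha)] at h2
    exact h2
  · rw [Nat.eq_of_beq_eq_true hc1, hnn]; exact Cd.one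
  · rw [Nat.eq_of_beq_eq_true hc2, hnn, inv_one]; exact Cd.one
  · obtain ⟨⟨⟨⟨⟨n1, n2⟩, n3⟩, i1⟩, i2⟩, he⟩ := hrel R hR
    refine ⟨phiQ (elt R.1), phiQ (elt R.2.1), ⟨_, elt_spec n1, rfl⟩, ⟨_, elt_spec n2, rfl⟩,
      ⟨_, elt_spec n3, ?_⟩, ⟨_, rp_inv (elt_spec n1) i1, map_inv _ _⟩, ⟨_, rp_inv (elt_spec n2) i2, map_inv _ _⟩⟩
    refine Subtype.ext (Equiv.ext fun p => (ptB_spec ?_).symm)
    have h2 := he (p.1 : ℕ) p.1.2 p.2 (hb p.2)
    rw [show ((p.1 : ℕ), p.2) = vP p from rfl, nB_spec, phB_spec (elt_spec n2), nB_spec, phB_spec (elt_spec n1),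
      nB_spec, phB_spec (elt_spec n3)] at h2
    exact h2

end CfsgLib.Co3M12
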