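/-
The configuration of the wreath product contradicts the position of the central involution.
-/
import Cfsg.Agent.Lib.Co3M12.Dispatch
import Cfsg.Agent.Lib.Co3M12.CoHom
import Cfsg.Agent.Lib.Co3M12.Cover0
import Cfsg.Agent.Lib.Co3M12.WreathModel
import Cfsg.Agent.Lib.Co3M12.Case.Wr.Main
import Cfsg.Agent.Lib.TransferOrbit

set_option autoImplicit false
set_option maxRecDepth 100000
set_option linter.style.haveILetI false

namespace CfsgLib.Co3M12

open Equiv Subgroup CfsgPC Eng Cfsg

attribute [local irreducible] Data.chain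

variable {G : Type*} [Group G] [Finite G] {B : Base G}

/-- The wreath product inside the group. -/
structure WCopy {G : Type*} [Group G] (B : Base G) where
  /-- the two copies -/
  f : LM × LM →* G
  inj : Function.Injective f
  swap : ∀ a b, B.z * f (a, b) = f (b, a) * B.z
  out : B.z ∉ f.range
  split : ∀ u, ∃ q, B.ψ u = f q ∨ B.ψ u = f q * B.z

theorem wcopy_of_lift {Φ : QW →* G} (h : ∀ u, Φ (phiQ u) = B.ψ u) {n : G} (hn : Φ mQ = n)
    (hout : n ∉ B.ψ.range) : Nonempty (WCopy B) := by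
  set f : LM × LM →* G := Φ.comp iotaQ with hf
  have hd : ∀ g, f (g, g) = B.ψ (kap g) := fun g => by
    rw [← h]; exact congrArg Φ (Subtype.ext (phiW_kap g).symm)
  have hsw : ∀ a b, B.z * f (a, b) = f (b, a) * B.z := fun a b => by
    rw [Base.z, ← h, hf, MonoidHom.comp_apply, MonoidHom.comp_apply, ← map_mul, ← map_mul]
    exact congrArg Φ (Subtype.ext (swap_iotaW a b))
  have hdiag : ∀ g, f (g, g) = 1 → g = 1 := fun g e =>
    kap_inj (B.inj (by rw [← hd, e, map_one, map_one]))
  set N : Subgroup LM := f.ker.comap (MonoidHom.inl LM LM) with hN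
  have hmem : ∀ g, g ∈ N ↔ f (g, 1) = 1 := fun g => Iff.rfl
  haveI hnorm : N.Normal := inferInstance
  haveI := CfsgGolay.isSimple_sporM12
  have hbot : N = ⊥ := hnorm.eq_bot_or_eq_top.resolve_right fun e => hout (by
    have h1 : f (tauW, 1) = 1 := (hmem _).mp (e ▸ mem_top _)
    have h2 : f (tauW, 1) = n := hn
    rw [← h2, h1]; exact one_mem _)
  have hl : ∀ g, f (g, 1) = 1 → g = 1 := fun g e => by
    have := (hmem g).mpr e
    rwa [hbot, mem_bot] at this
  have hinj : Function.Injective f := (injective_iff_map_eq_one f).mpr fun q e => by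
    obtain ⟨a, b⟩ := q
    have ha : a = 1 := center_LM fun l => by
      have e2 : f (a * l * a⁻¹ * l⁻¹, 1) = 1 := by
        rw [show ((a * l * a⁻¹ * l⁻¹, 1) : LM × LM) = (a, b) * (l, 1) * (a, b)⁻¹ * (l, 1)⁻¹ from
          Prod.ext (by simp) (by simp), map_mul, map_mul, map_mul, map_inv, map_inv, e]
        group
      calc a * l = a * l * a⁻¹ * l⁻¹ * (l * a) := by group
        _ = _ := by rw [hl _ e2, one_mul]
    subst ha
    have hb : b = 1 := hl b (by
      have := hsw 1 b
      rw [e, mul_one] at this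
      exact mul_eq_right.mp this.symm)
    rw [hb]; rfl
  refine ⟨⟨f, hinj, hsw, ?_, fun u => ?_⟩⟩
  · rintro ⟨⟨q1, q2⟩, hq⟩
    have h1 := hsw tauW 1
    rw [← hq, ← map_mul, ← map_mul] at h1
    have h2 := congrArg Prod.fst (hinj h1)
    simp at h2
    exact tauW_ne h2
  · refine ⟨(prj u, prj u), ?_⟩
    rcases decomp u with hu | hu
    · exact Or.inl (by rw [hd, ← hu])
    · exact Or.inr (by rw [hd, Base.z, ← map_mul, ← hu])

theorem Move.wcopy (M' : Move B) (hS : Sys Wr.D B.ψ M'.n) : Nonempty (WCopy B) := by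
  obtain ⟨Φ, h1, h2⟩ := exists_lift hS sys_QW gen_QW fun H χ k hH htop => by
    obtain ⟨hst, hcan⟩ := stabs_spec Wr.stabs_ok
    refine (card_le hH rfl gens_inv (cover_act0 rfl rfl) (all_good hH Wr.checked) (clo := cloOf Wr.clo) (els := Wr.els)
      (fun i hi => ?_) hst hcan (by rw [Wr.bound_ok.2]; norm_num) closed.2 Wr.bound_ok.1 htop).trans ?_
    · rw [Wr.bound_ok.2] at hi ⊢
      exact Wr.closed i hi
    · rw [card_QW]
  exact wcopy_of_lift h1 h2 M'.not_range

variable (W : WCopy B)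

/-- The wreath product. -/
def WCopy.grp : Subgroup G where
  carrier := {x | ∃ q, x = W.f q ∨ x = W.f q * B.z}
  one_mem' := ⟨1, Or.inl (map_one _).symm⟩
  mul_mem' := by
    rintro _ _ ⟨q, rfl | rfl⟩ ⟨⟨r1, r2⟩, rfl | rfl⟩
    · exact ⟨q * (r1, r2), Or.inl (map_mul _ _ _).symm⟩
    · exact ⟨q * (r1, r2), Or.inr (by rw [map_mul, mul_assoc])⟩
    · exact ⟨q * (r2, r1), Or.inr (by rw [map_mul, mul_assoc, W.swap, mul_assoc])⟩
    · refine ⟨q * (r2, r1), Or.inl ?_⟩
      rw [map_mul, mul_assoc, ← mul_assoc B.z, W.swap, mul_assoc, B.z_sq, mul_one]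
  inv_mem' := by
    rintro _ ⟨⟨q1, q2⟩, rfl | rfl⟩
    · exact ⟨(q1, q2)⁻¹, Or.inl (map_inv _ _).symm⟩
    · refine ⟨(q2, q1)⁻¹, Or.inr ?_⟩
      rw [mul_inv_rev, inv_eq_of_mul_eq_one_right B.z_sq, ← map_inv, Prod.inv_mk, W.swap, Prod.inv_mk]

omit [Finite G] in
theorem WCopy.mem_grp {x : G} : x ∈ W.grp ↔ ∃ q, x = W.f q ∨ x = W.f q * B.z := Iff.rfl

omit [Finite G] in
theorem WCopy.cent_le : centralizer ({B.z} : Set G) ≤ W.grp := fun g hg => by
  obtain ⟨u, rfl⟩ := B.mem_range (mem_centralizer_singleton_iff.mp hg)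
  exact W.split u

omit [Finite G] in
theorem WCopy.z_mem : B.z ∈ W.grp := ⟨1, Or.inr (by rw [map_one, one_mul])⟩

omit [Finite G] in
theorem WCopy.not_mem {q : LM × LM} : W.f q * B.z ∉ W.f.range := fun ⟨r, hr⟩ =>
  W.out ⟨q⁻¹ * r, by rw [map_mul, hr, map_inv, inv_mul_cancel_left]⟩

/-- An involution of the wreath product outside the two copies is the only kind conjugate to the centre. -/
theorem WCopy.fix_one {g : G} (h : g⁻¹ * B.z * g ∈ W.grp) : g ∈ W.grp := by
  obtain ⟨⟨a, b⟩, hx | hx⟩ := h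
  · exfalso
    set x := g⁻¹ * B.z * g with hxd
    have hxx : x * x = 1 := by
      rw [hxd, show g⁻¹ * B.z * g * (g⁻¹ * B.z * g) = g⁻¹ * (B.z * B.z) * g by group, B.z_sq]; group
    have h2 : W.f ((a, b) * (a, b)) = W.f 1 := by rw [map_mul, ← hx, hxx, map_one]
    have hab := W.inj h2
    have ha : a * a = 1 := congrArg Prod.fst hab
    have hb : b * b = 1 := congrArg Prod.snd hab
    let i : centralizer ({a} : Set LM) × centralizer ({b} : Set LM) →* centralizer ({x} : Set G) :=
      MonoidHom.codRestrict (W.f.comp ((centralizer ({a} : Set LM)).subtype.prodMap (centralizer ({b} : Set LM)).subtype))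
        _ fun p => mem_centralizer_singleton_iff.mpr (by
          rw [hx, MonoidHom.comp_apply, ← map_mul, ← map_mul]
          exact congrArg W.f (Prod.ext (mem_centralizer_singleton_iff.mp p.1.2) (mem_centralizer_singleton_iff.mp p.2.2)))
    have hi : Function.Injective i := fun p q e => by
      have e1 := W.inj (congrArg Subtype.val e : W.f _ = W.f _)
      exact Prod.ext (Subtype.ext (congrArg Prod.fst e1)) (Subtype.ext (congrArg Prod.snd e1))
    have hd : Nat.card (centralizer ({a} : Set LM)) * Nat.card (centralizer ({b} : Set LM)) ∣ 190080 := by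
      rw [← Nat.card_prod]
      refine (card_dvd_of_injective i hi).trans (dvd_of_eq ?_)
      rw [show x = g⁻¹ * B.z * g⁻¹⁻¹ by rw [inv_inv], card_cent_conj, Base.z, ← B.range,
        ← Nat.card_congr (MonoidHom.ofInjective B.inj).toEquiv, closed.2]
    exact absurd ((Nat.mul_dvd_mul (sixteen ha) (sixteen hb)).trans hd) (by norm_num)
  · set x := g⁻¹ * B.z * g with hxd
    have hxx : x * x = 1 := by
      rw [hxd, show g⁻¹ * B.z * g * (g⁻¹ * B.z * g) = g⁻¹ * (B.z * B.z) * g by group, B.z_sq]; group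
    have h2 : W.f ((a, b) * (b, a)) = W.f 1 := by
      rw [map_mul, map_one, ← hxx, hx, mul_assoc, ← mul_assoc B.z, W.swap, mul_assoc, B.z_sq, mul_one]
    have hba : b = a⁻¹ := (inv_eq_of_mul_eq_one_right (congrArg Prod.fst (W.inj h2))).symm
    subst hba
    set h := W.f (a, 1) with hh
    have e1 : x = h * B.z * h⁻¹ := by
      rw [hx, hh, ← map_inv, mul_assoc _ B.z, Prod.inv_mk, W.swap, ← mul_assoc, ← map_mul, Prod.mk_mul_mk,
        inv_one, mul_one, one_mul]
    have hk : g * h ∈ centralizer ({B.z} : Set G) := mem_centralizer_singleton_iff.mpr (by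
      calc g * h * B.z = g * (h * B.z * h⁻¹) * h := by group
        _ = g * (g⁻¹ * B.z * g) * h := by rw [← e1]
        _ = _ := by group)
    have := mul_mem (W.cent_le hk) (inv_mem (⟨(a, 1), Or.inl rfl⟩ : h ∈ W.grp))
    rwa [mul_inv_cancel_right] at this

/-- There is no such configuration. -/
theorem WCopy.false (W : WCopy B) : False := by
  classical
  have hR : ∀ {x : G}, x ∈ W.grp → (x ∈ W.f.range ↔ ¬ x * B.z ∈ W.f.range) := by
    rintro _ ⟨q, rfl | rfl⟩
    · exact iff_of_true ⟨q, rfl⟩ W.not_mem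
    · rw [mul_assoc, B.z_sq, mul_one]
      exact iff_of_false W.not_mem (fun h => h ⟨q, rfl⟩)
  let χ : W.grp →* Multiplicative (ZMod 2) := MonoidHom.mk'
    (fun x => if (x : G) ∈ W.f.range then 1 else Multiplicative.ofAdd 1) fun x y => by
      rcases x with ⟨_, q, rfl | rfl⟩ <;> rcases y with ⟨_, ⟨r1, r2⟩, rfl | rfl⟩
      · simp only [Subgroup.coe_mul]
        rw [if_pos ⟨q * (r1, r2), map_mul _ _ _⟩, if_pos ⟨q, rfl⟩, if_pos ⟨(r1, r2), rfl⟩]; rfl
      · simp only [Subgroup.coe_mul]
        rw [if_neg (show ¬ W.f q * (W.f (r1, r2) * B.z) ∈ W.f.range by rw [← mul_assoc, ← map_mul]; exact W.not_mem),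
          if_pos ⟨q, rfl⟩, if_neg W.not_mem]
        rfl
      · simp only [Subgroup.coe_mul]
        rw [if_neg (show ¬ W.f q * B.z * W.f (r1, r2) ∈ W.f.range by
            rw [mul_assoc, W.swap, ← mul_assoc, ← map_mul]; exact W.not_mem),
          if_neg W.not_mem, if_pos ⟨(r1, r2), rfl⟩]
        rfl
      · simp only [Subgroup.coe_mul]
        rw [if_pos ⟨q * (r2, r1), by rw [map_mul, mul_assoc, ← mul_assoc B.z, W.swap, mul_assoc, B.z_sq, mul_one]⟩,
          if_neg W.not_mem, if_neg W.not_mem]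
        rfl
  haveI : Fintype (G ⧸ W.grp) := Fintype.ofFinite _
  let V := MonoidHom.transfer χ
  set q0 : G ⧸ W.grp := ((1 : G) : G ⧸ W.grp) with hq0
  have hstab : ∀ x : G, B.z • (x : G ⧸ W.grp) = x ↔ x⁻¹ * B.z * x ∈ W.grp := fun x => by
    rw [show B.z • (x : G ⧸ W.grp) = ((B.z * x : G) : G ⧸ W.grp) from rfl, eq_comm, QuotientGroup.eq, mul_assoc]
  have hfix : B.z • q0 = q0 := (hstab 1).mpr (by rw [inv_one, one_mul, mul_one]; exact W.z_mem)
  have hone : ∀ q : G ⧸ W.grp, TransferOrbit.cval χ 1 q = 1 := fun q => by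
    have := TransferOrbit.cval_mul χ 1 1 q
    rw [mul_one, one_smul] at this
    exact mul_eq_right.mp this.symm
  have hrest : ∏ q ∈ (Finset.univ.erase q0), TransferOrbit.cval χ B.z q = 1 := by
    refine Finset.prod_involution (fun q _ => B.z • q) (fun q _ => ?_) (fun q hq _ => ?_) (fun q hq => ?_)
      (fun q _ => by rw [← mul_smul, B.z_sq, one_smul])
    · rw [mul_comm, ← TransferOrbit.cval_mul, B.z_sq, hone]
    · obtain ⟨x, rfl⟩ := QuotientGroup.mk_surjective q
      intro e
      refine (Finset.ne_of_mem_erase hq) ?_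
      have hx := W.fix_one ((hstab x).mp e)
      exact QuotientGroup.eq.mpr (by rw [mul_one]; exact inv_mem hx)
    · refine Finset.mem_erase.mpr ⟨fun e => Finset.ne_of_mem_erase hq ?_, Finset.mem_univ _⟩
      have := congrArg (fun p => B.z • p) e
      simp only [← mul_smul, B.z_sq, one_smul] at this
      rw [this, hfix]
  have hV : V B.z = Multiplicative.ofAdd 1 := by
    show MonoidHom.transfer χ B.z = _
    rw [TransferOrbit.transfer_eq_prod, ← Finset.mul_prod_erase _ _ (Finset.mem_univ q0), hrest, mul_one]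
    have hm : (1 : G)⁻¹ * B.z * 1 ∈ W.grp := by rw [inv_one, one_mul, mul_one]; exact W.z_mem
    refine (TransferOrbit.cval_eq χ (x := (1 : G)) hfix hm).trans ?_
    refine if_neg (fun h => ?_)
    simp only [inv_one, one_mul, mul_one] at h
    exact W.out h
  have hker : pResidual 2 G ≤ V.ker := by
    refine (closure_le _).mpr fun x hx => MonoidHom.mem_ker.mpr ?_
    obtain ⟨k, hk⟩ : Odd (orderOf x) := Nat.coprime_two_right.mp hx
    have h1 : V x ^ (2 * k + 1) = 1 := by rw [← map_pow, ← hk, pow_orderOf_eq_one, map_one]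
    have h2 : ∀ a : Multiplicative (ZMod 2), a * a = 1 := by decide
    rwa [pow_succ, pow_mul, sq, h2, one_pow, one_mul] at h1
  have := MonoidHom.mem_ker.mp (hker B.res)
  rw [← Base.z, hV] at this
  exact absurd this (by decide)

end CfsgLib.Co3M12
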