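/-
A group with an involution centralised by a group of order two times the Mathieu group of degree twelve, the
involution in the subgroup generated by elements of odd order, is the third Conway group.
-/
import Cfsg.Agent.Lib.Co3M12.CopyEq
import Cfsg.Agent.Lib.Co3M12.Wreath
import Cfsg.Agent.Lib.PResidual

set_option autoImplicit false
set_option linter.style.haveILetI false

namespace CfsgLib.Co3M12

theorem equiv_co3 {G : Type*} [Group G] [Finite G] (z : G) (hz : orderOf z = 2)
    (hC : Nonempty (↥(Subgroup.centralizer ({z} : Set G)) ≃* Multiplicative (ZMod 2) × ↥Cfsg.Spor.M12))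
    (hO : z ∈ Cfsg.pResidual 2 G) : Nonempty (G ≃* ↥Cfsg.Spor.Co3) := by
  obtain ⟨B⟩ := exists_base z hz hC hO
  obtain ⟨M⟩ := B.exists_normal
  rcases M.config with h | h
  · obtain ⟨W⟩ := M.wcopy h
    exact W.false.elim
  · obtain ⟨C⟩ := M.copy h
    exact C.equiv

/-- In a simple group that is not abelian every element lies in the subgroup generated by elements of odd order. -/
theorem mem_residual_of_simple {G : Type*} [Group G] [Finite G] [IsSimpleGroup G] (hG : ¬ IsMulCommutative G)
    (x : G) : x ∈ Cfsg.pResidual 2 G := by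
  haveI : Fact (Nat.Prime 2) := ⟨Nat.prime_two⟩
  have hn : (Cfsg.pResidual 2 G).Normal := PResidual.pResidual_normal
  rcases hn.eq_bot_or_eq_top with h | h
  · exfalso
    have hp : IsPGroup 2 G := by
      intro g
      obtain ⟨k, m, hm, e⟩ := Nat.exists_eq_two_pow_mul_odd (orderOf_pos g).ne'
      have hmem : g ^ 2 ^ k ∈ Cfsg.pResidual 2 G := by
        refine Subgroup.subset_closure ?_
        show Nat.Coprime _ 2
        rw [orderOf_pow_of_dvd (by positivity) ⟨m, e⟩, e, Nat.mul_div_cancel_left _ (by positivity)]
        exact Nat.coprime_two_right.mpr hm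
      rw [h, Subgroup.mem_bot] at hmem
      exact ⟨k, hmem⟩
    haveI := hp.center_nontrivial
    rcases (inferInstance : (Subgroup.center G).Normal).eq_bot_or_eq_top with h' | h'
    · exact (Subgroup.nontrivial_iff_ne_bot _).mp ‹_› h'
    · exact hG ⟨⟨fun a b => (Subgroup.mem_center_iff.mp (h' ▸ Subgroup.mem_top b) a)⟩⟩
  · rw [h]; exact Subgroup.mem_top _

end CfsgLib.Co3M12
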